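import Cfsg.Agent.Lib.Helper85.FusRealNormal
import Cfsg.Agent.Lib.Helper85.FusNormal
import Cfsg.Agent.Lib.Helper47.PCore

set_option autoImplicit false
open Cfsg

namespace Cfsg.Agent.Lib.Helper85

open Cfsg.FusionSystem

variable {Ω : Type*} [Group Ω] {S : Subgroup Ω} {G : Type*} [Group G]

/-- A normal subgroup of `G` inside `ι(S)` pulls back to a subgroup normal in the system. -/
theorem realized_isNormal_preimage {F : FusionSystem S} {ι : S →* G} (hr : F.IsRealizedBy ι)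
    (O : Subgroup G) [hOn : O.Normal] (hOr : O ≤ ι.range) : F.IsNormal (preimageAlong ι O) := by
  set Q := preimageAlong ι O with hQ
  have hQS : Q ≤ S := preimageAlong_le ι O
  have hconjO : ∀ (g : G) (y : G), y ∈ O → g * y * g⁻¹ ∈ O := fun g y hy => hOn.conj_mem y hy g
  have hpull : ∀ y ∈ O, ∃ s : S, (s : Ω) ∈ Q ∧ ι s = y := by
    intro y hy
    obtain ⟨s, rfl⟩ := hOr hy
    exact ⟨s, mem_preimageAlong.mpr ⟨s.2, hy⟩, rfl⟩
  refine ⟨hQS, ?_⟩
  intro P φ hφ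
  obtain ⟨g, hg⟩ := realized_exists_elt hr hφ
  have hPS : P ≤ S := (F.le_of_mem hφ).1
  have hW : P ⊔ Q ≤ ((ι.range).comap ((MulAut.conj g).toMonoidHom.comp ι)).map S.subtype := by
    refine sup_le ?_ ?_
    · intro x hx
      refine ⟨⟨x, hPS hx⟩, ?_, rfl⟩
      show g * ι ⟨x, hPS hx⟩ * g⁻¹ ∈ ι.range
      rw [← hg ⟨x, hx⟩]; exact ⟨_, rfl⟩
    · intro x hx
      refine ⟨⟨x, hQS hx⟩, ?_, rfl⟩
      show g * ι ⟨x, hQS hx⟩ * g⁻¹ ∈ ι.range
      exact hOr (hconjO g _ (mem_preimageAlong.mp hx).2)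
  obtain ⟨ψ, hψ, hψS, h⟩ := realized_exists_hom hr (sup_le hPS hQS) g (by
    intro x
    obtain ⟨s, hs, hsx⟩ := hW x.2
    have : s = ⟨x, sup_le hPS hQS x.2⟩ := Subtype.ext hsx
    rw [← this]; exact hs)
  refine ⟨ψ, hψ, fun x => ?_, ?_⟩
  · have h1 := h (Subgroup.inclusion le_sup_left x)
    have h2 := hg x
    exact congrArg Subtype.val (hr.1 (h1.trans h2.symm))
  · rw [map_subgroupOf_eq_iff]
    constructor
    · intro x hx
      refine mem_preimageAlong.mpr ⟨hψS x, ?_⟩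
      rw [h x]
      exact hconjO g _ (mem_preimageAlong.mp hx).2
    · intro y hy
      have hy' := (mem_preimageAlong.mp hy).2
      obtain ⟨s, hsQ, hs⟩ := hpull _ (hconjO g⁻¹ _ hy')
      refine ⟨⟨s, le_sup_right (a := P) hsQ⟩, hsQ, ?_⟩
      have h1 := h ⟨s, le_sup_right (a := P) hsQ⟩
      have h2 : ι ⟨(s : Ω), sup_le hPS hQS (le_sup_right (a := P) hsQ)⟩ = ι s := rfl
      rw [h2, hs] at h1
      have h3 : g * (g⁻¹ * ι ⟨y, hQS hy⟩ * g⁻¹⁻¹) * g⁻¹ = ι ⟨y, hQS hy⟩ := by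
        simp [mul_assoc]
      rw [h3] at h1
      exact congrArg Subtype.val (hr.1 h1)

/-- In a model, `O_p(G) ≤ ι(O_p(F))`. -/
theorem model_pCore_le {p : ℕ} [Fact p.Prime] [Finite S] {F : FusionSystem S} {ι : S →* G}
    (hG : F.IsModel p G ι) : pCore p G ≤ imageAlong ι F.core := by
  obtain ⟨hfin, hr, ⟨T, hT⟩, hC⟩ := hG
  haveI hOn : (pCore p G).Normal := Cfsg.Agent.Lib.Helper47.pCore_normal
  have hOr : pCore p G ≤ ι.range := by
    rw [← hT]; exact Cfsg.Agent.Lib.Helper47.pCore_le_sylow T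
  have h1 := realized_isNormal_preimage hr (pCore p G) hOr
  have h2 : preimageAlong ι (pCore p G) ≤ F.core := le_sSup h1
  intro y hy
  obtain ⟨s, rfl⟩ := hOr hy
  exact ⟨s, h2 (mem_preimageAlong.mpr ⟨s.2, hy⟩), rfl⟩

/-- In a model, `ι(O_p(F))` is normal in `G`. -/
theorem model_core_normal {p : ℕ} [Fact p.Prime] [Finite S] {F : FusionSystem S} {ι : S →* G}
    (hG : F.IsModel p G ι) : (imageAlong ι F.core).Normal := by
  have hle := model_pCore_le hG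
  obtain ⟨hfin, hr, ⟨T, hT⟩, hC⟩ := hG
  haveI hOn : (pCore p G).Normal := Cfsg.Agent.Lib.Helper47.pCore_normal
  have hOr : pCore p G ≤ ι.range := by
    rw [← hT]; exact Cfsg.Agent.Lib.Helper47.pCore_le_sylow T
  have hcn : F.IsNormal F.core := isNormal_core F
  set Q := F.core with hQ
  set Q' := preimageAlong ι (pCore p G) with hQ'
  have hQ'S : Q' ≤ S := preimageAlong_le _ _
  constructor
  intro y hy g
  -- conjugation by `g` on `Q'`
  obtain ⟨φ, hφ, hφS, hφg⟩ := realized_exists_hom hr hQ'S g (by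
    intro x
    exact hOr (hOn.conj_mem _ (mem_preimageAlong.mp x.2).2 g))
  obtain ⟨ψ, hψ, hψ1, hψ2⟩ := hcn.2 Q' φ hφ
  obtain ⟨h, hh⟩ := realized_exists_elt hr hψ
  -- `h⁻¹ g` centralizes `O_p(G)`
  have hcen : h⁻¹ * g ∈ pCore p G := by
    apply hC
    rw [Subgroup.mem_centralizer_iff]
    intro z hz
    obtain ⟨s, rfl⟩ := hOr hz
    have hs : (s : Ω) ∈ Q' := mem_preimageAlong.mpr ⟨s.2, hz⟩
    have e1 := hφg ⟨s, hs⟩
    have e2 := hh (Subgroup.inclusion le_sup_left ⟨s, hs⟩)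
    have e3 : ι ⟨ψ (Subgroup.inclusion le_sup_left ⟨s, hs⟩), (F.le_of_mem hψ).2 _⟩
        = ι ⟨φ ⟨s, hs⟩, hφS _⟩ := by
      congr 1; exact Subtype.ext (hψ1 ⟨s, hs⟩)
    have e4 : g * ι s * g⁻¹ = h * ι s * h⁻¹ := by
      rw [e3, e1] at e2
      exact e2
    calc ι s * (h⁻¹ * g) = h⁻¹ * (h * ι s * h⁻¹) * g := by group
      _ = h⁻¹ * (g * ι s * g⁻¹) * g := by rw [e4]
      _ = h⁻¹ * g * ι s := by group
  -- `h` normalizes the image of the core
  have hnorm : ∀ z ∈ imageAlong ι Q, h * z * h⁻¹ ∈ imageAlong ι Q := by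
    rintro _ ⟨s, hs, rfl⟩
    have hs' : (s : Ω) ∈ Q := hs
    have e2 := hh ⟨s, le_sup_right (a := Q') hs'⟩
    have e5 : ψ ⟨s, le_sup_right (a := Q') hs'⟩ ∈ Q :=
      hψ2.le ⟨_, hs', rfl⟩
    refine ⟨⟨_, (F.le_of_mem hψ).2 _⟩, e5, e2⟩
  have hk : (h⁻¹ * g) * y * (h⁻¹ * g)⁻¹ ∈ imageAlong ι Q :=
    mul_mem (mul_mem (hle hcen) hy) (inv_mem (hle hcen))
  have := hnorm _ hk
  have e : h * ((h⁻¹ * g) * y * (h⁻¹ * g)⁻¹) * h⁻¹ = g * y * g⁻¹ := by group
  rwa [e] at this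

/-- In a model `G`, conjugation gives a surjection of `G` onto `Aut_F(O_p(F))` whose kernel is a
`p`-group. -/
theorem model_exists_hom {p : ℕ} [Fact p.Prime] [Finite S] {F : FusionSystem S} {ι : S →* G}
    (hG : F.IsModel p G ι) :
    ∃ f : G →* F.autGroup F.core, Function.Surjective f ∧ IsPGroup p f.ker := by
  have hle := model_pCore_le hG
  haveI hn := model_core_normal hG
  obtain ⟨hfin, hr, ⟨T, hT⟩, hC⟩ := hG
  have hcn : F.IsNormal F.core := isNormal_core F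
  set Q := F.core with hQ
  have hQS : Q ≤ S := hcn.1
  have hex : ∀ g : G, ∃ β : F.autGroup Q, ∀ x : Q,
      ι ⟨((β : MulAut Q) x : Q), hQS ((β : MulAut Q) x).2⟩ = g * ι ⟨x, hQS x.2⟩ * g⁻¹ := by
    intro g
    apply realized_exists_aut hr hQS g
    intro x
    obtain ⟨s, hs, hs'⟩ := hn.conj_mem (ι ⟨x, hQS x.2⟩) ⟨⟨x, hQS x.2⟩, x.2, rfl⟩ g
    exact ⟨⟨s, hs⟩, hs'⟩
  choose f hf using hex
  have huniq : ∀ (β γ : F.autGroup Q), (∀ x : Q,
      ι ⟨((β : MulAut Q) x : Q), hQS ((β : MulAut Q) x).2⟩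
        = ι ⟨((γ : MulAut Q) x : Q), hQS ((γ : MulAut Q) x).2⟩) → β = γ := by
    intro β γ h
    apply Subtype.ext
    apply MulEquiv.ext
    intro x
    apply Subtype.ext
    exact congrArg (Subtype.val : S → Ω) (hr.1 (h x))
  let f' : G →* F.autGroup Q := MonoidHom.mk' f (by
    intro a b
    apply huniq
    intro x
    rw [hf]
    have : ((((f a * f b : F.autGroup Q) : MulAut Q) x : Q)) = ((f a : MulAut Q) ((f b : MulAut Q) x)) := rfl
    simp only [this]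
    rw [hf a, hf b]
    group)
  refine ⟨f', ?_, ?_⟩
  · intro α
    obtain ⟨g, hg⟩ := realized_aut_elt hr hQS α.2
    refine ⟨g, ?_⟩
    apply huniq
    intro x
    show ι ⟨((f g : MulAut Q) x : Q), _⟩ = _
    rw [hf, hg]
  · apply (Cfsg.Agent.Lib.Helper47.pCore_isPGroup (p := p) (G := G)).to_le
    intro g hg
    apply hC
    rw [Subgroup.mem_centralizer_iff]
    intro z hz
    obtain ⟨s, hs, rfl⟩ := hle hz
    have h1 := hf g ⟨s, hs⟩
    have h2 : f g = 1 := hg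
    rw [h2] at h1
    have h3 : ι s = g * ι s * g⁻¹ := h1
    calc ι s * g = (g * ι s * g⁻¹) * g := by rw [← h3]
      _ = g * ι s := by group

end Cfsg.Agent.Lib.Helper85
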