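import Cfsg.Agent.Lib.Helper85.PIdxK

set_option autoImplicit false

/-! Frattini decomposition `F = Aut_F(S) ∘ E` from the centric radical subgroups (helper85). -/

namespace Cfsg.Agent.Lib.Helper85

open Cfsg Cfsg.FusionSystem Cfsg.Agent.Lib.Helper84

variable {Ω : Type*} [Group Ω] {S : Subgroup Ω}

theorem pElt_le_invCore_of {p : ℕ} (F E : FusionSystem S) (𝒞 : Subgroup Ω → Prop)
    (h𝒞 : ∀ P Q, 𝒞 P → F.IsConj P Q → 𝒞 Q)
    (h : ∀ P : Subgroup Ω, P ≤ S → 𝒞 P → pElt p (F.autGroup P) ≤ E.autGroup P)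
    {R : Subgroup Ω} (hRS : R ≤ S) (hR : 𝒞 R) :
    pElt p (F.autGroup R) ≤ (invCore E (F.autGroup S)).autGroup R := by
  unfold pElt
  rw [Subgroup.closure_le]
  rintro δ ⟨hδ, k, hk⟩
  rw [SetLike.mem_coe, mem_autGroup_iff _ hRS]
  refine ⟨(mem_autGroup_iff E hRS δ).1 (h R hRS hR (mem_pElt hδ hk)), fun α hα P' hcov => ?_⟩
  have hαF := (mem_autGroup_iff F le_rfl α).1 hα
  obtain ⟨R', hR'⟩ : ∃ R', (R.subgroupOf S).map (S.subtype.comp α.toMonoidHom) = R' := ⟨_, rfl⟩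
  have he := mor_restrictEquiv F hαF hRS hR'
  set e := restrictEquiv (S.subtype.comp α.toMonoidHom) (F.injective_of_mem hαF) hRS hR' with hedef
  have hR'c : 𝒞 R' := h𝒞 R R' hR ((isConj_iff F).2 ⟨e, he⟩)
  have hR'S : R' ≤ S := he.symm.le_left
  have hδ' : MulAut.congr e δ ∈ E.autGroup R' := by
    apply h R' hR'S hR'c
    refine mem_pElt (congr_mem_autGroup he hδ) (k := k) ?_
    rw [← hk]
    exact (MulAut.congr e).orderOf_eq δ
  have hle : P' ≤ R' := by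
    intro y hy
    obtain ⟨x, hx, hxS, rfl⟩ := hcov y hy
    rw [← hR']
    exact ⟨⟨x, hxS⟩, hx, rfl⟩
  refine ⟨_, restrict_mem E ((mem_autGroup_iff E hR'S _).1 hδ') hle, ?_⟩
  intro x y hx hφ hy
  have e1 : Subgroup.inclusion hle y = e x := Subtype.ext hy
  rw [MonoidHom.comp_apply, e1]
  show (((MulAut.congr e δ) (e x) : R') : Ω) = _
  rw [MulAut.congr_apply, MulEquiv.trans_apply, MulEquiv.trans_apply, MulEquiv.symm_apply_apply]
  rfl

theorem inn_le_pCore {p : ℕ} (hS : IsPGroup p S) (F : FusionSystem S) {R : Subgroup Ω}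
    (hRS : R ≤ S) : Inn R ≤ (pCore p (F.autGroup R)).map (F.autGroup R).subtype := by
  intro δ hδ
  refine (mem_pCore_map_iff _ _).2 ⟨Inn R, inn_le_autGroup F hRS, isPGroup_inn hS hRS, ?_, hδ⟩
  rintro a - _ ⟨g, rfl⟩
  refine ⟨a g, ?_⟩
  ext x
  simp [MulAut.conj_apply]

theorem exists_pCore_not_inn {p : ℕ} (hS : IsPGroup p S) (F : FusionSystem S) {R : Subgroup Ω}
    (hRS : R ≤ S) (hr : ¬ F.IsRadical p R) :
    ∃ δ ∈ (pCore p (F.autGroup R)).map (F.autGroup R).subtype, δ ∉ Inn R := by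
  by_contra hcon
  push_neg at hcon
  exact hr ⟨hRS, le_antisymm hcon (inn_le_pCore hS F hRS)⟩

theorem pCore_le_autInducedBy [Finite S] {p : ℕ} [Fact p.Prime] (F : FusionSystem S)
    {R : Subgroup Ω} (hRa : F.IsFullyAutomized p R) :
    (pCore p (F.autGroup R)).map (F.autGroup R).subtype ≤ autInducedBy S R := by
  intro δ hδ
  have hfin : Finite (MulAut R) := finite_mulAut_of_le hRa.1
  have hSyl : SylIn p (autInducedBy S R) (F.autGroup R) := hRa.2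
  obtain ⟨N, hNA, hNp, hNn, hδN⟩ := (mem_pCore_map_iff _ _).1 hδ
  obtain ⟨g, hg, hgN⟩ := hSyl.exists_conj_le hNA hNp
  apply hgN
  rw [mem_map_conj]
  have := hNn g⁻¹ (inv_mem hg) δ hδN
  rwa [inv_inv] at this

/-- for `R` fully automized and not radical, some `g ∈ N_S(R) ∖ R C_S(R)` lies in all extenders. -/
theorem exists_extender_of_not_radical [Finite S] {p : ℕ} [Fact p.Prime] (hS : IsPGroup p S)
    (F : FusionSystem S) {R : Subgroup Ω} (hRa : F.IsFullyAutomized p R)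
    (hr : ¬ F.IsRadical p R) :
    ∃ g, g ∉ R ∧ ∀ ν ∈ F.autGroup R, g ∈ extender S R (R.subtype.comp ν.toMonoidHom) := by
  obtain ⟨δ, hδ, hδI⟩ := exists_pCore_not_inn hS F hRa.1 hr
  obtain ⟨g, hgS, hg⟩ := (Helper84.mem_autInducedBy_iff _ _ _).1 (pCore_le_autInducedBy F hRa hδ)
  refine ⟨g, fun hgR => hδI ⟨⟨g, hgR⟩, ?_⟩, fun ν hν => ?_⟩
  · ext x
    rw [hg x]
    rfl
  · rw [mem_extender_iff]
    refine ⟨hgS, mem_normalizer_of_induces hg, ?_⟩
    have h1 : ν * δ * ν⁻¹ ∈ (pCore p (F.autGroup R)).map (F.autGroup R).subtype := by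
      obtain ⟨N, hNA, hNp, hNn, hδN⟩ := (mem_pCore_map_iff _ _).1 hδ
      exact (mem_pCore_map_iff _ _).2 ⟨N, hNA, hNp, hNn, hNn ν hν δ hδN⟩
    obtain ⟨h, hhS, hh⟩ := (Helper84.mem_autInducedBy_iff _ _ _).1 (pCore_le_autInducedBy F hRa h1)
    refine ⟨h, hhS, fun x hx => ?_⟩
    have h2 := hh (ν x)
    simp only [MulAut.mul_apply, MulAut.inv_apply_self] at h2
    have h3 : δ x = ⟨g * x * g⁻¹, hx⟩ := Subtype.ext (hg x)
    rw [h3] at h2
    exact h2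

/-- Every map of `F` is an element of `Aut_F(S)` composed with a map of (the invariant core of) `E`, as soon
as `E` contains the `p`-elements of `Aut_F(P)` for `P` centric radical. -/
theorem le_frattini_of_rc [Finite S] {p : ℕ} [Fact p.Prime] (hS : IsPGroup p S)
    (F : FusionSystem S) (hF : F.IsSaturated p) (E : FusionSystem S)
    (h : ∀ P : Subgroup Ω, F.IsCentric P → F.IsRadical p P →
      pElt p (F.autGroup P) ≤ E.autGroup P) :
    F ≤ frattiniSystem (invCore E (F.autGroup S)) (F.autGroup S) (autInv_invCore _ _) := by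
  apply le_of_aut_induction hS F hF
  · intro φ hφ
    have hrange := range_eq_of_card F hφ
    have hα : equivOfRange φ (F.injective_of_mem hφ) hrange ∈ F.autGroup S :=
      (mem_autGroup_iff F le_rfl _).2 (mor_equivOfRange F hφ hrange)
    exact ⟨_, hα, S.subtype, subtype_mem _ le_rfl, fun x hx => rfl⟩
  · intro R hR hRS ih
    obtain ⟨hRc, hRa, hRr⟩ := sat_fullyNormalized hS hF hR
    by_cases hcen : centralizerIn S R ≤ R
    · have hRcen : F.IsCentric R := centric_of_fullyCentralized hRc hcen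
      by_cases hrad : F.IsRadical p R
      · have hfin : Finite (MulAut R) := finite_mulAut_of_le hR.1
        have hSyl : SylIn p (autInducedBy S R) (F.autGroup R) := hRa.2
        have hAB : autInducedBy S R ≤ pElt p (F.autGroup R) :=
          le_pElt_of_isPGroup (autInducedBy_le_autGroup F hR.1) (isPGroup_autInducedBy hS R)
        have hSylB := hSyl.of_le hAB (pElt_le p _)
        intro γ hγ
        obtain ⟨b, hb, ν, hν, hνN, rfl⟩ :=
          hSylB.frattini hAB (pElt_le p _) (le_normalizer_pElt p _) hγ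
        refine Subgroup.mul_mem _ ?_ ?_
        · rw [mem_autGroup_iff _ hR.1]
          refine le_frattiniSystem _ _ _ R ((mem_autGroup_iff _ hR.1 b).1
            (pElt_le_invCore_of F E (fun P => F.IsCentric P ∧ F.IsRadical p P)
              (fun P Q hP hPQ => ⟨Helper88.centric_of_isConj hP.1 hPQ, radical_of_isConj hPQ hP.2⟩)
              (fun P _ hP => h P hP.1 hP.2) hR.1 ⟨hRcen, hrad⟩ hb))
        · obtain ⟨g, hg, hgR⟩ := SetLike.exists_of_lt (lt_normalizerIn hS hRS)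
          exact aut_mem_of_extender F _ hRr ih hν (mem_extender_of_normalizes hνN hg.1 hg.2) hgR
      · obtain ⟨g, hgR, hg⟩ := exists_extender_of_not_radical hS F hRa hrad
        intro ν hν
        exact aut_mem_of_extender F _ hRr ih hν (hg ν hν) hgR
    · obtain ⟨c, hc, hcR⟩ := SetLike.not_le_iff_exists.mp hcen
      intro ν hν
      exact aut_mem_of_extender F _ hRr ih hν (centralizerIn_le_extender _ hc) hcR

/-- `δ = ρ⁻¹ κ ρ`. -/
theorem mem_of_conj_rel {T : Subgroup Ω} (D : FusionSystem T) {U : Subgroup Ω} {ρ : U →* Ω}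
    (hρ : ρ ∈ D.Hom U) {κ : ρ.range →* Ω} (hκ : κ ∈ D.Hom ρ.range) {δ : U →* Ω}
    (hδU : ∀ x, δ x ∈ U) (key : ∀ x : U, ρ ⟨δ x, hδU x⟩ = κ ⟨ρ x, ⟨x, rfl⟩⟩) : δ ∈ D.Hom U := by
  obtain ⟨ψ, hψ, hψ'⟩ := D.inv_mem hρ
  have hc1 : κ.comp (ρ.codRestrict ρ.range (fun x => ⟨x, rfl⟩)) ∈ D.Hom U :=
    D.comp_mem hρ hκ _
  have hr : ∀ x : U, (κ.comp (ρ.codRestrict ρ.range (fun x => ⟨x, rfl⟩))) x ∈ ρ.range :=
    fun x => ⟨_, key x⟩
  refine comp_mem' D hc1 hψ hr (fun x => ?_)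
  have e5 : (⟨(κ.comp (ρ.codRestrict ρ.range (fun x => ⟨x, rfl⟩))) x, hr x⟩ : ρ.range) =
      ⟨ρ ⟨δ x, hδU x⟩, ⟨_, rfl⟩⟩ := Subtype.ext (key x).symm
  rw [e5, hψ']

/-- the Frattini property -/
def FratProp (F F₀ : FusionSystem S) : Prop :=
  ∀ (P : Subgroup Ω) (φ : P →* Ω), φ ∈ F.Hom P → ∃ α ∈ F.autGroup S, ∃ φ₀ ∈ F₀.Hom P,
    ∀ (x : P) (hx : φ₀ x ∈ S), φ x = ((α ⟨φ₀ x, hx⟩ : S) : Ω)

theorem pElt_le_of_frattini [Finite S] {p : ℕ} [Fact p.Prime] (F : FusionSystem S)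
    (hF : F.IsSaturated p) (F₀ : FusionSystem S) (hfr : FratProp F F₀) {P : Subgroup Ω}
    (hP : P ≤ S) : pElt p (F.autGroup P) ≤ F₀.autGroup P := by
  unfold pElt
  rw [Subgroup.closure_le]
  rintro δ ⟨hδ, k, hk⟩
  have hk' : δ ^ p ^ k = 1 := by rw [← hk]; exact pow_orderOf_eq_one δ
  obtain ⟨P', e, he, s, hs, hes⟩ := exists_conj_to_S F hF hP hδ hk'
  obtain ⟨α, hα, φ₀, hφ₀, h1⟩ := hfr P _ he
  have hφS := (F₀.le_of_mem hφ₀).2
  rw [SetLike.mem_coe, mem_autGroup_iff _ hP]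
  have hrS : φ₀.range ≤ S := by
    rintro _ ⟨x, rfl⟩; exact hφS x
  refine mem_of_conj_rel F₀ hφ₀ (F₀.conj_mem hrS (α⁻¹ ⟨s, hs⟩).2) (fun x => (δ x).2) (fun x => ?_)
  have e1 : ((e x : P') : Ω) = ((α ⟨φ₀ x, hφS x⟩ : S) : Ω) := h1 x (hφS x)
  have e2 : ((e (δ x) : P') : Ω) = ((α ⟨φ₀ (δ x), hφS _⟩ : S) : Ω) := h1 (δ x) (hφS _)
  have e3 := hes x
  have e4 : α ⟨φ₀ (δ x), hφS _⟩ = α (α⁻¹ ⟨s, hs⟩ * ⟨φ₀ x, hφS x⟩ * (α⁻¹ ⟨s, hs⟩)⁻¹) := by
    rw [map_mul, map_mul, map_inv, MulAut.apply_inv_self]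
    apply Subtype.ext
    rw [← e2, e3, e1]
    rfl
  exact congrArg Subtype.val (α.injective e4)

theorem exists_fn_conj [Finite S] (F F₀ : FusionSystem S) (hfr : FratProp F F₀)
    (hle : F₀ ≤ F) {P : Subgroup Ω} (hP : P ≤ S) :
    ∃ P'', F₀.IsConj P P'' ∧ F.IsFullyNormalized P'' := by
  obtain ⟨P', hPP', hP'⟩ := exists_fullyNormalized F hP
  obtain ⟨φ, hφ, hφr⟩ := id hPP'
  obtain ⟨α, hα, φ₀, hφ₀, h1⟩ := hfr P φ hφ
  have hφS := (F₀.le_of_mem hφ₀).2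
  have hrS : φ₀.range ≤ S := by
    rintro _ ⟨x, rfl⟩; exact hφS x
  have hc0 : F.IsConj P φ₀.range := ⟨φ₀, hle P hφ₀, rfl⟩
  refine ⟨φ₀.range, ⟨φ₀, hφ₀, rfl⟩, hrS, fun Q hQ => ?_⟩
  have h2 := hP'.2 Q (isConj_trans (isConj_symm hPP') (isConj_trans hc0 hQ))
  refine h2.trans ?_
  have hfin : Finite φ₀.range := finite_of_le hrS
  have hfinN : Finite (normalizerIn S φ₀.range) := finite_of_le (normalizerIn_le _ _)
  have hmem : ∀ g : normalizerIn S P', ((α⁻¹ ⟨g, g.2.1⟩ : S) : Ω) ∈ normalizerIn S φ₀.range := by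
    intro g
    refine ⟨(α⁻¹ _).2, ?_⟩
    apply mem_normalizer_of_finite
    rintro _ ⟨x, rfl⟩
    have h3 : (g : Ω) * φ x * (g : Ω)⁻¹ ∈ P' :=
      conj_mem_of_mem_normalizer g.2.2 (hφr ▸ ⟨x, rfl⟩)
    have h3' : (g : Ω) * φ x * (g : Ω)⁻¹ ∈ φ.range := hφr.symm ▸ h3
    obtain ⟨x', hx'⟩ := h3'
    refine ⟨x', ?_⟩
    have e4 : α ⟨φ₀ x', hφS x'⟩ = α (α⁻¹ ⟨g, g.2.1⟩ * ⟨φ₀ x, hφS x⟩ * (α⁻¹ ⟨g, g.2.1⟩)⁻¹) := by
      rw [map_mul, map_mul, map_inv, MulAut.apply_inv_self]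
      apply Subtype.ext
      rw [← h1 x' (hφS x'), hx', h1 x (hφS x)]
      rfl
    exact congrArg Subtype.val (α.injective e4)
  apply Nat.card_le_card_of_injective (fun g => (⟨_, hmem g⟩ : normalizerIn S φ₀.range))
  intro a b hab
  have h4 : ((α⁻¹ ⟨a, a.2.1⟩ : S) : Ω) = ((α⁻¹ ⟨b, b.2.1⟩ : S) : Ω) :=
    congrArg (Subtype.val : normalizerIn S φ₀.range → Ω) hab
  have h5 := (α⁻¹).injective (Subtype.ext h4)
  exact Subtype.ext (congrArg (Subtype.val : S → Ω) h5)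

end Cfsg.Agent.Lib.Helper85
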