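import Cfsg.Agent.Lib.Helper85.SatNormal1

set_option autoImplicit false

/-! Saturation criterion, the case of a subgroup preserved by all maps, II (helper85). -/

namespace Cfsg.Agent.Lib.Helper85

open Cfsg Cfsg.FusionSystem Cfsg.Agent.Lib.Helper84

variable {Ω : Type*} [Group Ω] {S : Subgroup Ω}

theorem isPGroup_zpowers_of_pow {X : Type*} [Group X] {p k : ℕ} {δ : X} (h : δ ^ p ^ k = 1) :
    IsPGroup p (Subgroup.zpowers δ) := by
  rintro ⟨_, n, rfl⟩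
  refine ⟨k, Subtype.ext ?_⟩
  show (δ ^ n) ^ p ^ k = 1
  rw [← zpow_natCast, ← zpow_mul, mul_comm, zpow_mul, zpow_natCast, h, one_zpow]

theorem SylIn.eq_of_isPGroup {X : Type*} [Group X] [Finite X] {p : ℕ} [Fact p.Prime]
    {K H : Subgroup X} (h : SylIn p K H) (hKH : K ≤ H) (hH : IsPGroup p H) : K = H := by
  apply Subgroup.eq_of_le_of_card_ge hKH
  rw [(sylIn_iff_card hKH).mp h]
  exact card_le_of_isPGroup le_rfl hH

/-- the automorphisms of `R` restricting on `P` to an element of `Y` -/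
def liftSub {P R : Subgroup Ω} (hPR : P ≤ R) (Y : Subgroup (MulAut P)) : Subgroup (MulAut R) where
  carrier := {β | ∃ α ∈ Y, ∀ x : P, ((β ⟨x, hPR x.2⟩ : R) : Ω) = (α x : P)}
  one_mem' := ⟨1, Subgroup.one_mem _, fun x => rfl⟩
  mul_mem' := by
    rintro a b ⟨α, hα, hα'⟩ ⟨β, hβ, hβ'⟩
    refine ⟨α * β, Subgroup.mul_mem _ hα hβ, fun x => ?_⟩
    rw [MulAut.mul_apply, MulAut.mul_apply, ← hα']
    congr 2
    exact Subtype.ext (hβ' x)
  inv_mem' := by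
    rintro a ⟨α, hα, hα'⟩
    refine ⟨α⁻¹, Subgroup.inv_mem _ hα, fun x => ?_⟩
    have h1 := hα' (α⁻¹ x)
    rw [MulAut.apply_inv_self] at h1
    have h2 : a ⟨(α⁻¹ x : P), hPR (α⁻¹ x).2⟩ = ⟨x, hPR x.2⟩ := Subtype.ext h1
    rw [← h2, MulAut.inv_apply_self]

theorem liftSub_le_stabIn {P R : Subgroup Ω} (hPR : P ≤ R) (Y : Subgroup (MulAut P)) :
    liftSub hPR Y ≤ stabIn R P := by
  have key : ∀ β ∈ liftSub hPR Y, ∀ x : R, (x : Ω) ∈ P → ((β x : R) : Ω) ∈ P := by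
    rintro β ⟨α, -, hα⟩ x hx
    have := hα ⟨x, hx⟩
    have e : (⟨((⟨x, hx⟩ : P) : Ω), hPR hx⟩ : R) = x := rfl
    rw [e] at this
    rw [this]; exact (α _).2
  intro β hβ x
  refine ⟨key β hβ x, fun h => ?_⟩
  have := key β⁻¹ (Subgroup.inv_mem _ hβ) (β x) h
  rwa [MulAut.inv_apply_self] at this

namespace NormCtx

variable {p : ℕ} [Fact p.Prime] {F : FusionSystem S} {P : Subgroup Ω} [Finite S]
  (hS : IsPGroup p S) (c : NormCtx p F P)

include c in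
theorem le_of_mor {R R₀ : Subgroup Ω} (hPR : P ≤ R) {e : R ≃* R₀} (he : Mor F e.toMonoidHom) :
    P ≤ R₀ := by
  intro y hy
  rw [← c.hn R hPR _ he] at hy
  obtain ⟨x, -, rfl⟩ := hy
  exact (e x).2

include c in
/-- `L` is normalized by `Aut_F(R₀)` -/
theorem L_conj {R₀ : Subgroup Ω} (hPR₀ : P ≤ R₀) (hR₀S : R₀ ≤ S) {a l : MulAut R₀}
    (ha : a ∈ F.autGroup R₀) (hl : l ∈ F.autGroup R₀ ⊓ liftSub hPR₀ (OP p F P)) :
    a * l * a⁻¹ ∈ F.autGroup R₀ ⊓ liftSub hPR₀ (OP p F P) := by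
  refine ⟨Subgroup.mul_mem _ (Subgroup.mul_mem _ ha hl.1) (Subgroup.inv_mem _ ha), ?_⟩
  obtain ⟨α, hα, hα'⟩ := hl.2
  have haF : R₀.subtype.comp a.toMonoidHom ∈ F.Hom R₀ := (mem_autGroup_iff F hR₀S a).1 ha
  refine ⟨c.resP hPR₀ haF * α * (c.resP hPR₀ haF)⁻¹, OP_conj (c.resP_mem hPR₀ haF) hα,
    fun x => ?_⟩
  obtain ⟨y, hy⟩ : ∃ y : P, y = (c.resP hPR₀ haF)⁻¹ x := ⟨_, rfl⟩
  have hx : a ⟨y, hPR₀ y.2⟩ = ⟨x, hPR₀ x.2⟩ := by
    apply Subtype.ext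
    have := c.resP_apply hPR₀ haF y
    rw [hy, MulAut.apply_inv_self] at this
    rw [hy]
    exact this.symm
  rw [MulAut.mul_apply, MulAut.mul_apply, MulAut.mul_apply, MulAut.mul_apply, ← hy, ← hx,
    MulAut.inv_apply_self, c.resP_apply]
  show ((a (l ⟨y, _⟩) : R₀) : Ω) = ((a ⟨(α y : P), _⟩ : R₀) : Ω)
  congr 2
  exact Subtype.ext (hα' y)

include c in
theorem sylIn_L {R₀ : Subgroup Ω} (hPR₀ : P ≤ R₀) (ha : F.IsFullyAutomized p R₀) :
    SylIn p (autInducedBy S R₀ ⊓ (F.autGroup R₀ ⊓ liftSub hPR₀ (OP p F P)))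
      (F.autGroup R₀ ⊓ liftSub hPR₀ (OP p F P)) := by
  have hfin : Finite (MulAut R₀) := finite_mulAut_of_le ha.1
  have hSyl : SylIn p (autInducedBy S R₀) (F.autGroup R₀) := ha.2
  refine hSyl.inf_normal (autInducedBy_le_autGroup F ha.1) inf_le_left ?_
  intro a haA
  apply mem_normalizer_of_finite
  intro l hl
  exact c.L_conj hPR₀ ha.1 haA hl

include hS c in
/-- elements of `L` restrict on `P` to conjugations by elements of `S` -/
theorem L_res {R₀ : Subgroup Ω} (hPR₀ : P ≤ R₀) (ha : F.IsFullyAutomized p R₀) {l : MulAut R₀}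
    (hl : l ∈ F.autGroup R₀ ⊓ liftSub hPR₀ (OP p F P)) :
    ∃ s ∈ S, ∀ x : P, ((l ⟨x, hPR₀ x.2⟩ : R₀) : Ω) = s * x * s⁻¹ := by
  have hfin : Finite (MulAut R₀) := finite_mulAut_of_le ha.1
  have hfinP : Finite (MulAut P) := finite_mulAut_of_le c.hPS
  obtain ⟨Rs, hRs⟩ := c.sylIn_L hPR₀ ha
  have hLst : F.autGroup R₀ ⊓ liftSub hPR₀ (OP p F P) ≤ stabIn R₀ P :=
    inf_le_right.trans (liftSub_le_stabIn _ _)
  have h1 := sylIn_map_range ((resStab hPR₀).comp (Subgroup.inclusion hLst)) Rs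
  have hrp : IsPGroup p (((resStab hPR₀).comp (Subgroup.inclusion hLst)).range) := by
    apply (OP_isPGroup (p := p) (F := F) (P := P)).to_le
    rintro _ ⟨⟨l', hl'⟩, rfl⟩
    obtain ⟨α, hα, hα'⟩ := hl'.2
    have : (resStab hPR₀) (Subgroup.inclusion hLst ⟨l', hl'⟩) = α := by
      ext x; exact hα' x
    rw [MonoidHom.comp_apply, this]; exact hα
  have hle : (Rs : Subgroup _).map ((resStab hPR₀).comp (Subgroup.inclusion hLst)) ≤
      ((resStab hPR₀).comp (Subgroup.inclusion hLst)).range := by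
    rintro _ ⟨x, -, rfl⟩; exact ⟨x, rfl⟩
  have heq := h1.eq_of_isPGroup hle hrp
  have hmem : ((resStab hPR₀).comp (Subgroup.inclusion hLst)) ⟨l, hl⟩ ∈
      (Rs : Subgroup _).map ((resStab hPR₀).comp (Subgroup.inclusion hLst)) := by
    rw [heq]; exact ⟨_, rfl⟩
  obtain ⟨μ, hμ, hμl⟩ := hmem
  rw [SetLike.mem_coe, hRs] at hμ
  obtain ⟨s, hs, hs'⟩ := (Helper84.mem_autInducedBy_iff _ _ _).1 hμ.1
  refine ⟨s, hs, fun x => ?_⟩
  have h2 := DFunLike.congr_fun hμl x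
  have h3 : ((l ⟨x, hPR₀ x.2⟩ : R₀) : Ω) = (((μ : MulAut R₀) ⟨x, hPR₀ x.2⟩ : R₀) : Ω) :=
    congrArg (Subtype.val : P → Ω) h2.symm
  rw [h3]
  exact hs' ⟨x, hPR₀ x.2⟩

end NormCtx

end Cfsg.Agent.Lib.Helper85
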