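import Cfsg.Agent.Lib.Helper85.FusFrattini
import Cfsg.Agent.Lib.Helper87.FusUtil

set_option autoImplicit false

/-! Downward induction inside a strongly closed subgroup (helper85). -/

namespace Cfsg.Agent.Lib.Helper85

open Cfsg Cfsg.FusionSystem Cfsg.Agent.Lib.Helper84

variable {Ω : Type*} [Group Ω] {S T : Subgroup Ω}

/-- To show that all maps of a saturated `F` between subgroups of the strongly closed `T` lie in a system
`𝒢` over `T`, it is enough to treat the maps on `T` and the isomorphisms onto fully normalized proper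
subgroups, knowing the claim for all strictly larger subgroups. -/
theorem sc_induction [Finite S] (F : FusionSystem S)
    (hT : F.StronglyClosed T) (𝒢 : FusionSystem T)
    (htop : F.Hom T ⊆ 𝒢.Hom T)
    (hstep : ∀ Q : Subgroup Ω, F.IsFullyNormalized Q → Q < T →
      (∀ Q' : Subgroup Ω, Q' ≤ T → Nat.card Q < Nat.card Q' → F.Hom Q' ⊆ 𝒢.Hom Q') →
      ∀ (P : Subgroup Ω) (_ : P < T) (e : P ≃* Q), Mor F e.toMonoidHom → Mor 𝒢 e.toMonoidHom) :
    ∀ P : Subgroup Ω, P ≤ T → F.Hom P ⊆ 𝒢.Hom P := by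
  have hfinT : Finite T := finite_of_le hT.1
  have main : ∀ n : ℕ, ∀ P : Subgroup Ω, P ≤ T → Nat.card T ≤ Nat.card P + n →
      F.Hom P ⊆ 𝒢.Hom P := by
    intro n
    induction n with
    | zero =>
      intro P hP hcard
      have : P = T := Subgroup.eq_of_le_of_card_ge hP (by simpa using hcard)
      subst this
      exact htop
    | succ n ih =>
      intro P hP hcard
      by_cases hPT : P = T
      · subst hPT; exact htop
      have hlt : P < T := lt_of_le_of_ne hP hPT
      have hbig : ∀ Q' : Subgroup Ω, Q' ≤ T → Nat.card P < Nat.card Q' →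
          F.Hom Q' ⊆ 𝒢.Hom Q' := by
        intro Q' hQ' hc
        exact ih Q' hQ' (by omega)
      have hltcard : ∀ Q : Subgroup Ω, Q ≤ T → Nat.card Q = Nat.card P → Q < T := by
        intro Q hQ hc
        refine lt_of_le_of_ne hQ ?_
        intro h
        have h2 := card_lt_card_of_lt hlt
        rw [← h, hc] at h2
        exact lt_irrefl _ h2
      intro φ hφ
      have he : Mor F (equivOfRange φ (F.injective_of_mem hφ) rfl).toMonoidHom :=
        mor_equivOfRange F hφ rfl
      have hPQ : F.IsConj P φ.range := ⟨φ, hφ, rfl⟩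
      have hQT : φ.range ≤ T := by
        rintro _ ⟨x, rfl⟩
        exact hT.2 P hP φ hφ x
      have hQcard : Nat.card φ.range = Nat.card P := (isConj_card_eq hPQ).symm
      obtain ⟨R, hQR, hR⟩ := exists_fullyNormalized F (hQT.trans hT.1)
      obtain ⟨ρ, hρ⟩ := (isConj_iff F).1 hQR
      have hRT : R ≤ T := by
        intro y hy
        have := hT.2 φ.range hQT _ hρ (ρ.symm ⟨y, hy⟩)
        simpa using this
      have hRcard : Nat.card R = Nat.card P := (isConj_card_eq hQR).symm.trans hQcard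
      have hRlt := hltcard R hRT hRcard
      have hIH : ∀ Q' : Subgroup Ω, Q' ≤ T → Nat.card R < Nat.card Q' →
          F.Hom Q' ⊆ 𝒢.Hom Q' := fun Q' hQ' hc => hbig Q' hQ' (by omega)
      have h1 := hstep R hR hRlt hIH φ.range (hltcard _ hQT hQcard) ρ hρ
      have h2 := hstep R hR hRlt hIH P hlt _ (mor_trans he hρ)
      have h3 := mor_trans h2 h1.symm
      have e : ((equivOfRange φ (F.injective_of_mem hφ) rfl).trans ρ).trans ρ.symm =
          equivOfRange φ (F.injective_of_mem hφ) rfl := by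
        ext x; simp
      rw [e] at h3
      exact mem_hom_of_mor h3 (fun x => rfl)
  intro P hP
  exact main (Nat.card T) P hP (Nat.le_add_left _ _)

/-- The step: an isomorphism `e : P → Q` onto a receptive `Q` lies in `𝒢` as soon as some `χ` in
`Aut_𝒢(Q) ∩ Aut_F(Q)` conjugates `e Aut_T(P) e⁻¹` into `Aut_S(Q)`. -/
theorem mor_of_conj_into_sylow [Finite S] {p : ℕ} [Fact p.Prime] (hS : IsPGroup p S)
    (F : FusionSystem S) (hTS : T ≤ S) (𝒢 : FusionSystem T) {P Q : Subgroup Ω}
    (hQr : F.IsReceptive Q) (hPT : P < T)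
    (ih : ∀ Q' : Subgroup Ω, Q' ≤ T → Nat.card Q < Nat.card Q' → F.Hom Q' ⊆ 𝒢.Hom Q')
    (e : P ≃* Q) (he : Mor F e.toMonoidHom) (χ : MulAut Q) (hχG : χ ∈ 𝒢.autGroup Q)
    (hχF : χ ∈ F.autGroup Q)
    (hconj : ∀ (t : Ω) (_ : t ∈ T) (ht : t ∈ Subgroup.normalizer (P : Set Ω)),
      MulAut.congr (e.trans χ) (conjAut P t ht) ∈ autInducedBy S Q) :
    Mor 𝒢 e.toMonoidHom := by
  have hfinT : Finite T := finite_of_le hTS
  have hQS : Q ≤ S := hQr.1
  have hχF' := (mem_autGroup_iff F hQS χ).1 hχF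
  have he' : Mor F (e.trans χ).toMonoidHom := mor_trans he hχF'
  obtain ⟨ψ, hψ, hext⟩ := exists_extension_of_receptive F hQr (e.trans χ) he'
    (N := normalizerIn T P) (fun g hg => ⟨hTS hg.1, hg.2⟩) (by
      intro g hg
      obtain ⟨h, hh, hh'⟩ := (Helper84.mem_autInducedBy_iff S Q _).1 (hconj g hg.1 hg.2)
      refine ⟨h, hh, fun x hx => ?_⟩
      have := hh' ((e.trans χ) x)
      rw [MulAut.congr_apply, MulEquiv.trans_apply, MulEquiv.trans_apply,
        MulEquiv.symm_apply_apply] at this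
      exact this)
  have hlt : P < normalizerIn T P := lt_normalizerIn (hS.to_le hTS) hPT
  have hNT : normalizerIn T P ≤ T := normalizerIn_le T P
  have : Finite (normalizerIn T P) := finite_of_le (hNT.trans hTS)
  have hcard : Nat.card Q < Nat.card (normalizerIn T P) := by
    rw [← Nat.card_congr e.toEquiv]
    exact card_lt_card_of_lt hlt
  have hψG := ih _ hNT hcard hψ
  have h1 : Mor 𝒢 (e.trans χ).toMonoidHom :=
    mem_of_eq_on 𝒢 hψG hlt.le (fun x => (hext x x.2 (hlt.le x.2)).symm)
  have hQT : Q ≤ T := by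
    intro y hy
    have := (𝒢.le_of_mem h1).2 ((e.trans χ).symm ⟨y, hy⟩)
    simpa using this
  have hχG' := (mem_autGroup_iff 𝒢 hQT χ).1 hχG
  have h2 := mor_trans h1 hχG'.symm
  have e2 : (e.trans χ).trans (MulEquiv.symm χ) = e := by
    ext x; simp
  rwa [e2] at h2

end Cfsg.Agent.Lib.Helper85
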