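import Cfsg.Agent.Lib.Helper85.FusPIndex2

set_option autoImplicit false

/-! The extension condition for subsystems of `p`-power index (helper85). -/

namespace Cfsg.Agent.Lib.Helper85

open Cfsg Cfsg.FusionSystem Cfsg.Agent.Lib.Helper84

variable {Ω : Type*} [Group Ω] {S T : Subgroup Ω}

/-- The automorphisms of `T` satisfying the extension condition of normal subsystems. -/
def extGood (F : FusionSystem S) (hTS : T ≤ S) : Subgroup (MulAut T) where
  carrier := {α | ∃ β ∈ F.autGroup (T ⊔ centralizerIn S T),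
      (∀ x : T, ((β (Subgroup.inclusion le_sup_left x) : ↥(T ⊔ centralizerIn S T)) : Ω) =
        ((α x : T) : Ω)) ∧
      ∀ c : ↥(T ⊔ centralizerIn S T), (c : Ω) ∈ centralizerIn S T →
        (c : Ω)⁻¹ * ((β c : ↥(T ⊔ centralizerIn S T)) : Ω) ∈ T ⊓ Subgroup.centralizer (T : Set Ω)}
  one_mem' := ⟨1, Subgroup.one_mem _, fun x => rfl, fun c hc => by simp [Subgroup.one_mem]⟩
  mul_mem' := by
    rintro α₁ α₂ ⟨β₁, hβ₁, h1, h1'⟩ ⟨β₂, hβ₂, h2, h2'⟩
    refine ⟨β₁ * β₂, Subgroup.mul_mem _ hβ₁ hβ₂, fun x => ?_, fun c hc => ?_⟩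
    · have e : β₂ (Subgroup.inclusion le_sup_left x) = Subgroup.inclusion le_sup_left (α₂ x) :=
        Subtype.ext (h2 x)
      rw [MulAut.mul_apply, e, h1, MulAut.mul_apply]
    · have hz := h2' c hc
      have hc2 : ((β₂ c : ↥(T ⊔ centralizerIn S T)) : Ω) ∈ centralizerIn S T := by
        have : ((β₂ c : ↥(T ⊔ centralizerIn S T)) : Ω) =
            c * ((c : Ω)⁻¹ * (β₂ c : ↥(T ⊔ centralizerIn S T))) := by group
        rw [this]
        exact Subgroup.mul_mem _ hc ⟨hTS hz.1, hz.2⟩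
      have hz2 := h1' (β₂ c) hc2
      have : (c : Ω)⁻¹ * (((β₁ * β₂) c : ↥(T ⊔ centralizerIn S T)) : Ω) =
          ((c : Ω)⁻¹ * (β₂ c : ↥(T ⊔ centralizerIn S T))) *
          (((β₂ c : ↥(T ⊔ centralizerIn S T)) : Ω)⁻¹ * (β₁ (β₂ c) : ↥(T ⊔ centralizerIn S T))) := by
        rw [MulAut.mul_apply]; group
      rw [this]
      exact Subgroup.mul_mem _ hz hz2
  inv_mem' := by
    rintro α ⟨β, hβ, h1, h1'⟩
    have hRS : T ⊔ centralizerIn S T ≤ S := sup_le hTS (centralizerIn_le S T)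
    have e : ∀ x : T, β (Subgroup.inclusion le_sup_left x) = Subgroup.inclusion le_sup_left (α x) :=
      fun x => Subtype.ext (h1 x)
    refine ⟨β⁻¹, Subgroup.inv_mem _ hβ, fun x => ?_, fun c hc => ?_⟩
    · have := e (α⁻¹ x)
      rw [MulAut.apply_inv_self] at this
      rw [← this, MulAut.inv_apply_self]
      rfl
    · have hc' : ((β⁻¹ c : ↥(T ⊔ centralizerIn S T)) : Ω) ∈ centralizerIn S T := by
        refine ⟨hRS (β⁻¹ c).2, ?_⟩
        show ((β⁻¹ c : ↥(T ⊔ centralizerIn S T)) : Ω) ∈ Subgroup.centralizer (T : Set Ω)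
        rw [Subgroup.mem_centralizer_iff]
        intro t ht
        have h3 : Subgroup.inclusion le_sup_left (⟨t, ht⟩ : T) * β⁻¹ c =
            β⁻¹ c * Subgroup.inclusion le_sup_left (⟨t, ht⟩ : T) := by
          apply β.injective
          rw [map_mul, map_mul, MulAut.apply_inv_self, e]
          exact Subtype.ext (Subgroup.mem_centralizer_iff.mp hc.2 _ (α ⟨t, ht⟩).2)
        exact congrArg Subtype.val h3
      have hz := h1' (β⁻¹ c) hc'
      rw [MulAut.apply_inv_self] at hz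
      have : (c : Ω)⁻¹ * ((β⁻¹ c : ↥(T ⊔ centralizerIn S T)) : Ω) =
          (((β⁻¹ c : ↥(T ⊔ centralizerIn S T)) : Ω)⁻¹ * c)⁻¹ := by group
      rw [this]
      exact Subgroup.inv_mem _ hz

theorem aut_extension_pow {P R : Subgroup Ω} (hPR : P ≤ R) {δ : MulAut P} {δ' : MulAut R}
    (hext : ∀ x : P, δ' (Subgroup.inclusion hPR x) = Subgroup.inclusion hPR (δ x)) (m : ℕ) (x : P) :
    (δ' ^ m) (Subgroup.inclusion hPR x) = Subgroup.inclusion hPR ((δ ^ m) x) := by
  induction m generalizing x with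
  | zero => simp
  | succ m ih => rw [pow_succ, pow_succ, MulAut.mul_apply, MulAut.mul_apply, hext, ih]

theorem autGroup_le_extGood [Finite S] {p : ℕ} [Fact p.Prime] (hS : IsPGroup p S)
    (F : FusionSystem S) (hF : F.IsSaturated p) (hTS : T ≤ S)
    (hTn : ∀ g ∈ S, ∀ t ∈ T, g * t * g⁻¹ ∈ T) (hT : F.hyperfocalSubgroup p ≤ T)
    (E : FusionSystem T) (hEs : E.IsSaturated p) (hEF : E.IsSubsystemOf F) :
    E.autGroup T ≤ extGood F hTS := by
  have hfinT : Finite T := finite_of_le hTS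
  have hRS : T ⊔ centralizerIn S T ≤ S := sup_le hTS (centralizerIn_le S T)
  have hfin : Finite (MulAut ↥(T ⊔ centralizerIn S T)) := finite_mulAut_of_le hRS
  have hTa := (sat_fullyNormalized (hS.to_le hTS) hEs (fullyNormalized_self E)).2.1
  have hTnF : F.IsFullyNormalized T := by
    refine ⟨hTS, fun Q _ => ?_⟩
    have : normalizerIn S T = S := by
      apply le_antisymm (normalizerIn_le S T)
      intro g hg
      exact ⟨hg, mem_normalizer_of_finite (hTn g hg)⟩
    rw [this]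
    exact Subgroup.card_le_of_le (normalizerIn_le S Q)
  have hTr := (sat_fullyNormalized hS hF hTnF).2.2
  intro α hα
  obtain ⟨τ, hτ, β', hβ', rfl⟩ := exists_mul_of_fullyAutomized E hTa hα
  refine Subgroup.mul_mem _ ?_ ?_
  · obtain ⟨g, hg, hg'⟩ := (Helper84.mem_autInducedBy_iff T T _).1 hτ
    have hgN : g ∈ Subgroup.normalizer ((T ⊔ centralizerIn S T : Subgroup Ω) : Set Ω) :=
      Subgroup.le_normalizer ((le_sup_left : T ≤ T ⊔ centralizerIn S T) hg)
    refine ⟨conjAut _ g hgN,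
      autInducedBy_le_autGroup F hRS (conjAut_mem_autInducedBy hgN (hTS hg)),
      fun x => ?_, fun c hc => ?_⟩
    · rw [conjAut_apply, hg']; rfl
    · rw [conjAut_apply]
      have h1 := Subgroup.mem_centralizer_iff.mp hc.2 g hg
      have : (c : Ω)⁻¹ * (g * c * g⁻¹) = 1 := by rw [h1]; group
      rw [this]
      exact Subgroup.one_mem _
  · clear hα
    revert β'
    show (pResidual p (E.autGroup T)).map (E.autGroup T).subtype ≤ extGood F hTS
    unfold pResidual
    rw [MonoidHom.map_closure, Subgroup.closure_le]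
    rintro _ ⟨δ, hδ, rfl⟩
    have hδF : (δ : MulAut T) ∈ F.autGroup T := autGroup_le_of_subsystem hEF le_rfl δ.2
    obtain ⟨δ', hδ', hext⟩ := exists_aut_extension F hTr hδF
    obtain ⟨k, hk⟩ := Cfsg.Agent.Lib.Helper47.exists_pow_coprime (p := p) δ'
    have hδc : Nat.Coprime (orderOf (δ : MulAut T)) p := by
      rw [Subgroup.orderOf_coe]; exact hδ
    obtain ⟨m, hm⟩ := exists_pow_eq_self_of_coprime (x := (δ : MulAut T)) (n := p ^ k)
      (Nat.Coprime.pow_left k hδc.symm)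
    have hβres : (δ' ^ p ^ k) ^ m ∈
        (pResidual p (F.autGroup (T ⊔ centralizerIn S T))).map (F.autGroup _).subtype := by
      refine ⟨⟨δ' ^ p ^ k, Subgroup.pow_mem _ hδ' _⟩ ^ m, Subgroup.pow_mem _ ?_ m, rfl⟩
      apply Subgroup.subset_closure
      show Nat.Coprime (orderOf (⟨δ' ^ p ^ k, _⟩ : F.autGroup (T ⊔ centralizerIn S T))) p
      rw [← Subgroup.orderOf_coe]
      exact hk
    have hβT : ∀ x : T, ((δ' ^ p ^ k) ^ m) (Subgroup.inclusion le_sup_left x) =
        Subgroup.inclusion le_sup_left ((δ : MulAut T) x) := by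
      intro x
      rw [← pow_mul, aut_extension_pow le_sup_left hext, pow_mul, hm]
    refine ⟨(δ' ^ p ^ k) ^ m, Subgroup.pow_mem _ (Subgroup.pow_mem _ hδ' _) _,
      fun x => congrArg Subtype.val (hβT x), fun c hc => ⟨?_, ?_⟩⟩
    · exact hT (gen_mem_hyperfocal F p hRS hβres c)
    · refine Subgroup.mul_mem _ (Subgroup.inv_mem _ hc.2) ?_
      rw [Subgroup.mem_centralizer_iff]
      intro t ht
      have h3 : Subgroup.inclusion le_sup_left ((δ : MulAut T)⁻¹ ⟨t, ht⟩) * c =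
          c * Subgroup.inclusion le_sup_left ((δ : MulAut T)⁻¹ ⟨t, ht⟩) :=
        Subtype.ext (Subgroup.mem_centralizer_iff.mp hc.2 _ ((δ : MulAut T)⁻¹ ⟨t, ht⟩).2)
      have h4 := congrArg (fun z => ((((δ' ^ p ^ k) ^ m) z : ↥(T ⊔ centralizerIn S T)) : Ω)) h3
      simp only [map_mul, hβT, MulAut.apply_inv_self] at h4
      exact h4

end Cfsg.Agent.Lib.Helper85
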