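import Cfsg.Agent.Lib.Helper85.RedHyp
import Cfsg.Agent.S5113
import Cfsg.Agent.S5120

set_option autoImplicit false

/-! The `p`-step of the reduction (helper85, for S5202). -/

namespace Cfsg.Agent.Lib.Helper85

open Cfsg Cfsg.FusionSystem Cfsg.Agent.Lib.Helper84

variable {Ω : Type*} [Group Ω] {S : Subgroup Ω}

theorem sc_fullyAutomized [Finite S] {p : ℕ} {F : FusionSystem S} (hF : F.IsSaturated p)
    {T : Subgroup Ω} (hT : F.StronglyClosed T) : F.IsFullyAutomized p T ∧ F.IsReceptive T := by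
  obtain ⟨Q, hc, hQ, hr⟩ := hF T hT.1
  have : Finite T := finite_of_le hT.1
  have hQT : Q = T := by
    apply Subgroup.eq_of_le_of_card_ge
    · obtain ⟨φ, hφ, rfl⟩ := hc
      rintro _ ⟨x, rfl⟩
      exact hT.2 T le_rfl φ hφ x
    · rw [isConj_card_eq hc]
  rw [hQT] at hQ hr
  exact ⟨hQ, hr⟩

/-- maps of the big system conjugate `Aut_{F'}` to `Aut_{F'}` -/
theorem mor_of_agree (F : FusionSystem S) {W : Subgroup Ω} (hWS : W ≤ S) {γ : MulAut W}
    (hγ : γ ∈ F.autGroup W) {R R' : Subgroup Ω} (e : R ≃* R') (hR : R ≤ W)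
    (h : ∀ x : R, ((e x : R') : Ω) = ((γ ⟨x, hR x.2⟩ : W) : Ω)) : Mor F e.toMonoidHom :=
  mem_of_eq_on F ((mem_autGroup_iff F hWS γ).1 hγ) hR h

theorem autInv_of_le_invCore {T : Subgroup Ω} {E : FusionSystem T} {Γ : Subgroup (MulAut T)}
    (hle : E ≤ invCore E Γ) : AutInv E Γ := by
  intro P P' φ hφ α hα hP' h
  obtain ⟨χ, hχ, hχ'⟩ := autInv_invCore E Γ P P' φ (hle P hφ) α hα hP' h
  exact ⟨χ, hχ.1, hχ'⟩

theorem step_p [Finite S] {p : ℕ} [Fact p.Prime] (hS : IsPGroup p S) (F : FusionSystem S)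
    {T : Subgroup Ω} (E : FusionSystem T) (hE : E.IsWeaklyNormalIn F p) {S' : Subgroup Ω}
    (F' : FusionSystem S') (hF' : F'.IsWeaklyNormalIn F p) (hEF' : E.IsSubsystemOf F')
    (hC : T ⊔ centralizerIn S T ≤ S') (B : Subgroup (MulAut T))
    (hBn : ∀ a ∈ F.autGroup T, ∀ k ∈ B, a * k * a⁻¹ ∈ B) (hBE : E.autGroup T ≤ B)
    (hBp : ∀ a ∈ F'.autGroup T, (orderOf a).Coprime p → a ∈ B) :
    ∃ (S'' : Subgroup Ω) (F'' : FusionSystem S''), F''.IsWeaklyNormalIn F p ∧
      E.IsSubsystemOf F'' ∧ T ⊔ centralizerIn S T ≤ S'' ∧ F''.autGroup T ≤ B ∧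
      F''.IsNormalIn F' p ∧ F''.HasPPowerIndexIn F' p := by
  have hF : F.IsSaturated p := hE.2.1
  have hT : F.StronglyClosed T := hE.2.2.2.1
  have hS'sc : F.StronglyClosed S' := hF'.2.2.2.1
  have hS'S : S' ≤ S := hS'sc.1
  have hsub : F'.IsSubsystemOf F := hF'.2.2.1
  have hF's : F'.IsSaturated p := hF'.1
  have hfinS' : Finite S' := finite_of_le hS'S
  have hS'p : IsPGroup p S' := hS.to_le hS'S
  have hTS' : T ≤ S' := le_sup_left.trans hC
  have hT' : F'.StronglyClosed T := sc_of_subsystem hsub hT hTS'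
  have hBT : autInducedBy T T ≤ B := (autInducedBy_le_autGroup E le_rfl).trans hBE
  have hBn' : ∀ a ∈ F'.autGroup T, ∀ k ∈ B, a * k * a⁻¹ ∈ B :=
    fun a ha => hBn a (autGroup_le_of_subsystem hsub hTS' ha)
  have hsc : F.StronglyClosed (SB S' T B) := SB_stronglyClosed hS F hF hT hS'sc B hBn hBT
  have hhyp : F'.hyperfocalSubgroup p ≤ SB S' T B :=
    hyperfocal_le_SB hS'p F' hF's hT' B hBn' hBT hBp
  have hle' : SB S' T B ≤ S' := SB_le _ _ _
  obtain ⟨F'', ⟨hsat, hidx⟩, -⟩ := Cfsg.Agent.S5113.result p hS'p F' hF's (SB S' T B) hle' hhyp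
  have hsc' : F'.StronglyClosed (SB S' T B) := sc_of_subsystem hsub hsc hle'
  have hnorm : ((SB S' T B).subgroupOf S').Normal :=
    (Subgroup.normal_subgroupOf_iff_le_normalizer hle').2 (Helper87.sc_le_normalizer hsc')
  have hN : F''.IsNormalIn F' p :=
    Cfsg.Agent.S5120.result p hS'p F' hF's (SB S' T B) hle' hnorm hhyp F'' hsat hidx
  have hfinS'' : Finite (SB S' T B) := finite_of_le hsc.1
  have hS''p : IsPGroup p (SB S' T B) := hS.to_le hsc.1
  have hSI : StrongInv F' F := strongInv_of_invariant hS hF hF'.2.2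
  have hTS'' : T ≤ SB S' T B := le_SB hTS' hBT
  have hinv : AutInv F'' (F.autGroup (SB S' T B)) := by
    apply autInv_of_le_invCore
    apply le_of_pRes_le F' hS''p F'' _ hsat hidx.1
    intro P hP
    exact family_le_invCore F'' (F.autGroup (SB S' T B))
      (fun R => (pResidual p (F'.autGroup R)).map (F'.autGroup R).subtype)
      (fun γ hγ R R' e hR h δ hδ => pRes_congr p (MulAut.congr e)
        (fun a ha => congr_mem_of_strongInv hSI (hR.trans hle')
          (mor_of_agree F hsc.1 hγ e hR h) ha) hδ)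
      hidx.2.2 hP
  refine ⟨SB S' T B, F'', weaklyNormal_trans hF' hN.1 hsc hinv, ?_,
    sup_le hTS'' (centralizerIn_le_SB (le_sup_right.trans hC)), ?_, hN, hidx⟩
  · have hfinT : Finite T := finite_of_le hT.1
    have h := le_of_pRes_le F' (hS.to_le hT.1) E (Helper86.restrictTo F'' T hTS'') hE.1 hEF'
      (fun P hP => by
        rw [Helper86.autGroup_restrictTo _ _ _ hP]
        exact hidx.2.2 P (hP.trans hTS''))
    intro P φ hφ
    exact (h P hφ).1
  · have hT'' : F''.StronglyClosed T := sc_of_subsystem hidx.1 hT' hTS''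
    intro α hα
    obtain ⟨τ, hτ, β, hβ, rfl⟩ := exists_mul_of_fullyAutomized F'' (sc_fullyAutomized hsat hT'').1 hα
    refine B.mul_mem ?_ ?_
    · obtain ⟨s, hs, hs'⟩ := (Helper84.mem_autInducedBy_iff _ _ _).1 hτ
      obtain ⟨-, β', hβ', h2⟩ := hs
      have : τ = β' := by
        ext t
        rw [hs', h2]
      rw [this]
      exact hβ'
    · have key : (pResidual p (F''.autGroup T)).map (F''.autGroup T).subtype ≤ B := by
        unfold pResidual
        rw [MonoidHom.map_closure, Subgroup.closure_le]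
        rintro _ ⟨δ, hδ, rfl⟩
        refine hBp _ (autGroup_le_of_subsystem hidx.1 hTS'' δ.2) ?_
        show (orderOf (δ : MulAut T)).Coprime p
        rw [Subgroup.orderOf_coe]
        exact hδ
      exact key hβ

end Cfsg.Agent.Lib.Helper85
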