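import Cfsg.Agent.Lib.Helper85.FusPrimeIdx
import Cfsg.Agent.Lib.Helper86.Centric

set_option autoImplicit false

/-! Subsystems containing `O^{p'}(Aut_F(P))` for all centric `P`, continued (helper85). -/

namespace Cfsg.Agent.Lib.Helper85

open Cfsg Cfsg.FusionSystem Cfsg.Agent.Lib.Helper84

variable {Ω : Type*} [Group Ω] {S : Subgroup Ω}

/-- `P C_S(P)` is centric when `P` is fully centralized. -/
theorem centric_sup_centralizer [Finite S] {F : FusionSystem S} {P : Subgroup Ω}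
    (hP : F.IsFullyCentralized P) : F.IsCentric (P ⊔ centralizerIn S P) := by
  refine ⟨sup_le hP.1 (centralizerIn_le S P), ?_⟩
  rintro _ ⟨φ, hφ, rfl⟩
  obtain ⟨P₁, hP₁⟩ : ∃ P₁, (P.subgroupOf (P ⊔ centralizerIn S P)).map φ = P₁ := ⟨_, rfl⟩
  have hconj : F.IsConj P P₁ := hP₁ ▸ Helper86.isConj_map F hφ le_sup_left
  have hcard := hP.2 P₁ hconj
  have hC₁ : ((centralizerIn S P).subgroupOf (P ⊔ centralizerIn S P)).map φ ≤
      centralizerIn S P₁ := by
    rintro _ ⟨c, hc, rfl⟩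
    exact map_mem_centralizerIn F hφ hP₁ c hc.2
  have hfin : Finite (centralizerIn S P₁) := finite_of_le (centralizerIn_le S P₁)
  have hcard2 : Nat.card (((centralizerIn S P).subgroupOf (P ⊔ centralizerIn S P)).map φ) =
      Nat.card (centralizerIn S P) := by
    rw [Subgroup.card_map_of_injective (F.injective_of_mem hφ)]
    exact card_subgroupOf_of_le le_sup_right
  have heq := Subgroup.eq_of_le_of_card_ge hC₁ (by rw [hcard2]; exact hcard)
  intro c hc
  have h1 : c ∈ centralizerIn S P₁ := by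
    refine ⟨hc.1, ?_⟩
    refine Subgroup.centralizer_le ?_ hc.2
    rw [← hP₁]
    exact Helper86.map_le_range φ
  rw [← heq] at h1
  exact Helper86.map_le_range φ h1

/-- An automorphism in `F` of a fully centralized receptive subgroup `P` extends to an automorphism of
`P C_S(P)`. -/
theorem exists_aut_extension [Finite S] (F : FusionSystem S) {P : Subgroup Ω}
    (hPr : F.IsReceptive P) {δ : MulAut P} (hδ : δ ∈ F.autGroup P) :
    ∃ δ' ∈ F.autGroup (P ⊔ centralizerIn S P),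
      ∀ x : P, δ' (Subgroup.inclusion le_sup_left x) = Subgroup.inclusion le_sup_left (δ x) := by
  have hPS := hPr.1
  have hδF := (mem_autGroup_iff F hPS δ).1 hδ
  have hrange : (P.subtype.comp δ.toMonoidHom).range = P := range_subtype_comp_equiv δ
  obtain ⟨ψ, hψ, hψ'⟩ := hPr.2 P _ hδF hrange
  have hle : P ⊔ centralizerIn S P ≤ extender S P (P.subtype.comp δ.toMonoidHom) :=
    sup_le (le_extender hPS _ (F.le_of_mem hδF).2) (centralizerIn_le_extender _)
  have hψ₀ := restrict_mem F hψ hle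
  set ψ₀ := ψ.comp (Subgroup.inclusion hle) with hψ₀def
  have hext : ∀ x : P, ψ₀ (Subgroup.inclusion le_sup_left x) = (δ x : P) := fun x =>
    hψ' x x.2 _
  have hmap : (P.subgroupOf (P ⊔ centralizerIn S P)).map ψ₀ = P := by
    rw [map_subgroupOf_left_eq_range ψ₀ (P.subtype.comp δ.toMonoidHom) hext, hrange]
  have hRS : P ⊔ centralizerIn S P ≤ S := sup_le hPS (centralizerIn_le S P)
  have : Finite ↥(P ⊔ centralizerIn S P) := finite_of_le hRS
  have hr : ψ₀.range = P ⊔ centralizerIn S P := by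
    apply Subgroup.eq_of_le_of_card_ge
    · rintro _ ⟨x, rfl⟩
      refine map_sup_mem ψ₀ (fun x => ?_) (fun c => ?_) x
      · rw [hext]; exact (δ x).2
      · exact map_mem_centralizerIn F hψ₀ hmap _ c.2.2
    · exact (Nat.card_congr (MonoidHom.ofInjective (F.injective_of_mem hψ₀)).toEquiv).le
  refine ⟨equivOfRange ψ₀ (F.injective_of_mem hψ₀) hr,
    (mem_autGroup_iff F hRS _).2 (mor_equivOfRange F hψ₀ hr), fun x => ?_⟩
  exact Subtype.ext (hext x)

theorem pElt_le_of_fullyCentralized [Finite S] {p : ℕ} [Fact p.Prime]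
    (F E : FusionSystem S)
    (h : ∀ P : Subgroup Ω, F.IsCentric P → pElt p (F.autGroup P) ≤ E.autGroup P)
    {P : Subgroup Ω} (hPc : F.IsFullyCentralized P) (hPr : F.IsReceptive P) :
    pElt p (F.autGroup P) ≤ E.autGroup P := by
  have hPS := hPr.1
  have hRc := centric_sup_centralizer hPc
  have hRS := hRc.1
  have hfin : Finite (MulAut ↥(P ⊔ centralizerIn S P)) := finite_mulAut_of_le hRS
  unfold pElt
  rw [Subgroup.closure_le]
  rintro δ ⟨hδ, k, hk⟩
  obtain ⟨δ', hδ', hext⟩ := exists_aut_extension F hPr hδ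
  obtain ⟨n, hn, i, hi⟩ := exists_pow_pElement (p := p) δ' k
  have h1 : δ' ^ n ∈ E.autGroup (P ⊔ centralizerIn S P) :=
    h _ hRc (mem_pElt_of_pow (Subgroup.pow_mem _ hδ' n) hi)
  have hpow : ∀ (m : ℕ) (x : P), (δ' ^ m) (Subgroup.inclusion le_sup_left x) =
      Subgroup.inclusion le_sup_left ((δ ^ m) x) := by
    intro m
    induction m with
    | zero => intro x; simp
    | succ m ih =>
      intro x
      rw [pow_succ, pow_succ, MulAut.mul_apply, MulAut.mul_apply, hext, ih]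
  have hδn : δ ^ n = δ := pow_eq_of_mod (by rw [← hk]; exact pow_orderOf_eq_one δ) hn
  rw [SetLike.mem_coe, mem_autGroup_iff E hPS]
  refine mem_of_eq_on E ((mem_autGroup_iff E hRS _).1 h1) le_sup_left (fun x => ?_)
  have h2 := congrArg Subtype.val (hpow n x)
  rw [hδn] at h2
  exact h2.symm

/-- All three conclusions. -/
theorem primeIdx_main [Finite S] {p : ℕ} [Fact p.Prime] (hS : IsPGroup p S)
    (F : FusionSystem S) (hF : F.IsSaturated p) (E : FusionSystem S) (hEF : E.IsSubsystemOf F)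
    (h : ∀ P : Subgroup Ω, F.IsCentric P → pElt p (F.autGroup P) ≤ E.autGroup P) :
    (∀ P : Subgroup Ω, P ≤ S → pElt p (F.autGroup P) ≤ E.autGroup P) ∧
    (∀ (P : Subgroup Ω) (φ : P →* Ω), φ ∈ F.Hom P → ∃ α ∈ F.autGroup S, ∃ φ₀ ∈ E.Hom P,
      ∀ (x : P) (hx : φ₀ x ∈ S), φ x = ((α ⟨φ₀ x, hx⟩ : S) : Ω)) ∧
    ∀ P : Subgroup Ω, E.IsCentric P ↔ F.IsCentric P := by
  have h2 : ∀ (P : Subgroup Ω) (φ : P →* Ω), φ ∈ F.Hom P → ∃ α ∈ F.autGroup S, ∃ φ₀ ∈ E.Hom P,
      ∀ (x : P) (hx : φ₀ x ∈ S), φ x = ((α ⟨φ₀ x, hx⟩ : S) : Ω) := by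
    intro P φ hφ
    obtain ⟨α, hα, φ₀, hφ₀, h3⟩ := le_frattini_of_centric hS F hF E h P hφ
    exact ⟨α, hα, φ₀, hφ₀.1, h3⟩
  refine ⟨?_, h2, ?_⟩
  · intro P hP
    obtain ⟨P', hPP', hP'⟩ := exists_fullyNormalized F hP
    obtain ⟨φ, hφ, hφr⟩ := hPP'
    obtain ⟨α, hα, φ₀, hφ₀, h3⟩ := h2 P φ hφ
    have hφ₀S := (E.le_of_mem hφ₀).2
    have he₀E := mor_equivOfRange E hφ₀ rfl
    have he₀F := mor_equivOfRange F (hEF P hφ₀) rfl
    set e₀ := equivOfRange φ₀ (E.injective_of_mem hφ₀) rfl with he₀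
    have hP₀S : φ₀.range ≤ S := range_le E hφ₀
    have hconj₀ : F.IsConj P φ₀.range := ⟨φ₀, hEF P hφ₀, rfl⟩
    -- `z ∈ P₀ ↔ α z ∈ P'`
    have hiff : ∀ z : S, ((α z : S) : Ω) ∈ P' → (z : Ω) ∈ φ₀.range := by
      intro z hz
      rw [← hφr] at hz
      obtain ⟨x, hx⟩ := hz
      rw [h3 x (hφ₀S x)] at hx
      have := α.injective (Subtype.ext hx)
      exact ⟨x, congrArg Subtype.val this⟩
    have hiff' : ∀ z : S, (z : Ω) ∈ φ₀.range → ((α z : S) : Ω) ∈ P' := by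
      rintro z ⟨x, hx⟩
      rw [← hφr]
      refine ⟨x, ?_⟩
      rw [h3 x (hφ₀S x)]
      congr 2
      exact Subtype.ext hx
    have hfinP₀ : Finite φ₀.range := finite_of_le hP₀S
    have hP₀n : F.IsFullyNormalized φ₀.range := by
      refine ⟨hP₀S, fun Q hQ => ?_⟩
      have hc1 : F.IsConj P' Q :=
        isConj_trans (isConj_symm ⟨φ, hφ, hφr⟩) (isConj_trans hconj₀ hQ)
      refine (hP'.2 Q hc1).trans ?_
      have hmem : ∀ g : normalizerIn S P', ((α⁻¹ ⟨g, g.2.1⟩ : S) : Ω) ∈ normalizerIn S φ₀.range := by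
        intro g
        refine ⟨(α⁻¹ _).2, ?_⟩
        apply mem_normalizer_of_finite
        intro z hz
        have hzS : z ∈ S := hP₀S hz
        have h4 := hiff (α⁻¹ ⟨g, g.2.1⟩ * ⟨z, hzS⟩ * (α⁻¹ ⟨g, g.2.1⟩)⁻¹) (by
          rw [map_mul, map_mul, map_inv, MulAut.apply_inv_self]
          exact conj_mem_of_mem_normalizer g.2.2 (hiff' ⟨z, hzS⟩ hz))
        exact h4
      have : Finite (normalizerIn S φ₀.range) := finite_of_le (normalizerIn_le S _)
      apply Nat.card_le_card_of_injective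
        (fun g => (⟨_, hmem g⟩ : normalizerIn S φ₀.range))
      intro a b hab
      have h5 : ((α⁻¹ ⟨a, a.2.1⟩ : S) : Ω) = (α⁻¹ ⟨b, b.2.1⟩ : S) :=
        congrArg (Subtype.val : normalizerIn S φ₀.range → Ω) hab
      have h6 := (α⁻¹).injective (Subtype.ext h5)
      exact Subtype.ext (congrArg (Subtype.val : S → Ω) h6)
    obtain ⟨hc, -, hr⟩ := sat_fullyNormalized hS hF hP₀n
    have hstep := pElt_le_of_fullyCentralized F E h hc hr
    unfold pElt
    rw [Subgroup.closure_le]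
    rintro δ ⟨hδ, k, hk⟩
    have h7 : MulAut.congr e₀ δ ∈ E.autGroup φ₀.range := by
      apply hstep
      refine mem_pElt (congr_mem_autGroup he₀F hδ) (k := k) ?_
      rw [← hk]
      exact (MulAut.congr e₀).orderOf_eq δ
    have h8 := congr_mem_autGroup he₀E.symm h7
    have e1 : MulAut.congr e₀.symm (MulAut.congr e₀ δ) = δ := by
      ext x; simp [MulAut.congr_apply]
    rwa [e1] at h8
  · intro P
    constructor
    · rintro ⟨hP, hc⟩
      refine ⟨hP, ?_⟩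
      rintro _ ⟨φ, hφ, rfl⟩
      obtain ⟨α, hα, φ₀, hφ₀, h3⟩ := h2 P φ hφ
      have hφ₀S := (E.le_of_mem hφ₀).2
      have h4 := hc φ₀.range ⟨φ₀, hφ₀, rfl⟩
      intro c hcc
      have h5 : ((α⁻¹ ⟨c, hcc.1⟩ : S) : Ω) ∈ centralizerIn S φ₀.range := by
        refine ⟨(α⁻¹ _).2, ?_⟩
        show ((α⁻¹ ⟨c, hcc.1⟩ : S) : Ω) ∈ Subgroup.centralizer (φ₀.range : Set Ω)
        rw [Subgroup.mem_centralizer_iff]
        rintro _ ⟨x, rfl⟩
        have h6 := Subgroup.mem_centralizer_iff.mp hcc.2 (φ x) ⟨x, rfl⟩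
        rw [h3 x (hφ₀S x)] at h6
        have h7 : α ⟨φ₀ x, hφ₀S x⟩ * ⟨c, hcc.1⟩ = ⟨c, hcc.1⟩ * α ⟨φ₀ x, hφ₀S x⟩ := Subtype.ext h6
        have h8 := congrArg (fun z => ((α⁻¹ z : S) : Ω)) h7
        simpa using h8
      obtain ⟨x, hx⟩ := h4 h5
      refine ⟨x, ?_⟩
      rw [h3 x (hφ₀S x)]
      have : (⟨φ₀ x, hφ₀S x⟩ : S) = α⁻¹ ⟨c, hcc.1⟩ := Subtype.ext hx
      rw [this]; simp
    · rintro ⟨hP, hc⟩
      refine ⟨hP, ?_⟩
      rintro Q ⟨φ, hφ, hr⟩
      exact hc Q ⟨φ, hEF P hφ, hr⟩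

end Cfsg.Agent.Lib.Helper85
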