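import Cfsg.Agent.Lib.Helper85.FusPIndex
import Cfsg.Agent.Lib.Helper85.FusPrimeIdx2
import Cfsg.Agent.Lib.Helper85.FusFrattini2
import Cfsg.Agent.Lib.Helper87.FusClosed2

set_option autoImplicit false

/-! Saturated subsystems of `p`-power index over a normal subgroup are normal (helper85). -/

namespace Cfsg.Agent.Lib.Helper85

open Cfsg Cfsg.FusionSystem Cfsg.Agent.Lib.Helper84

variable {Ω : Type*} [Group Ω] {S T : Subgroup Ω}

theorem gen_mem_hyperfocal (F : FusionSystem S) (p : ℕ) {P : Subgroup Ω} (hP : P ≤ S)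
    {β : MulAut P} (hβ : β ∈ (pResidual p (F.autGroup P)).map (F.autGroup P).subtype) (x : P) :
    (x : Ω)⁻¹ * (β x : P) ∈ F.hyperfocalSubgroup p := by
  obtain ⟨b, hb, rfl⟩ := hβ
  exact Subgroup.subset_closure ⟨P, b, x, hP, hb, rfl⟩

/-- decomposition `Aut_F(P) = Aut_S(P) O^p(Aut_F(P))` for fully automized `P`. -/
theorem exists_mul_of_fullyAutomized [Finite S] {p : ℕ} [Fact p.Prime] (F : FusionSystem S)
    {P : Subgroup Ω} (hP : F.IsFullyAutomized p P) {α : MulAut P} (hα : α ∈ F.autGroup P) :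
    ∃ τ ∈ autInducedBy S P, ∃ β ∈ (pResidual p (F.autGroup P)).map (F.autGroup P).subtype,
      α = τ * β := by
  obtain ⟨hPS, R, hR⟩ := hP
  have hfin : Finite (F.autGroup P) := finite_autGroup F hPS
  obtain ⟨τ, hτ, β, hβ, hαeq⟩ := Cfsg.Agent.Lib.Helper34.exists_mul_pResidual
    (R : Subgroup (F.autGroup P)) R.not_dvd_index ⟨α, hα⟩
  rw [hR, Subgroup.mem_subgroupOf] at hτ
  exact ⟨τ, hτ, β, ⟨β, hβ, rfl⟩, congrArg Subtype.val hαeq⟩

theorem stronglyClosed_of_hyperfocal_le [Finite S] {p : ℕ} [Fact p.Prime] (hS : IsPGroup p S)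
    (F : FusionSystem S) (hF : F.IsSaturated p) (hTS : T ≤ S)
    (hTn : ∀ g ∈ S, ∀ t ∈ T, g * t * g⁻¹ ∈ T) (hT : F.hyperfocalSubgroup p ≤ T) :
    F.StronglyClosed T := by
  apply Helper87.stronglyClosed_of_aut hS F hF T hTS
  intro P hP α hα x hx
  have hPn : F.IsFullyNormalized P := by
    rcases hP with rfl | hP
    · exact fullyNormalized_self F
    · exact hP.2.1
  obtain ⟨τ, hτ, β, hβ, rfl⟩ :=
    exists_mul_of_fullyAutomized F (sat_fullyNormalized hS hF hPn).2.1 hα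
  obtain ⟨g, hg, hg'⟩ := (Helper84.mem_autInducedBy_iff S P _).1 hτ
  rw [MulAut.mul_apply, hg']
  apply hTn g hg
  have h1 := hT (gen_mem_hyperfocal F p hPn.1 hβ x)
  have : ((β x : P) : Ω) = x * ((x : Ω)⁻¹ * (β x : P)) := by group
  rw [this]
  exact T.mul_mem hx h1

theorem pRes_le_invCore {p : ℕ} (F : FusionSystem S) (hTS : T ≤ S) (E : FusionSystem T)
    (h : ∀ P : Subgroup Ω, P ≤ T →
      (pResidual p (F.autGroup P)).map (F.autGroup P).subtype ≤ E.autGroup P)
    {R : Subgroup Ω} (hRT : R ≤ T) :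
    (pResidual p (F.autGroup R)).map (F.autGroup R).subtype ≤
      (invCore E (F.autGroup T)).autGroup R := by
  have hRS := hRT.trans hTS
  conv_lhs => unfold pResidual
  rw [MonoidHom.map_closure, Subgroup.closure_le]
  rintro _ ⟨δ, hδ, rfl⟩
  rw [SetLike.mem_coe, mem_autGroup_iff _ hRT]
  refine ⟨(mem_autGroup_iff E hRT _).1 (h R hRT ⟨δ, Subgroup.subset_closure hδ, rfl⟩),
    fun α hα P' hcov => ?_⟩
  have hαF := (mem_autGroup_iff F hTS α).1 hα
  obtain ⟨R', hR'⟩ : ∃ R', (R.subgroupOf T).map (T.subtype.comp α.toMonoidHom) = R' := ⟨_, rfl⟩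
  have he := mor_restrictEquiv F hαF hRT hR'
  set e := restrictEquiv (T.subtype.comp α.toMonoidHom) (F.injective_of_mem hαF) hRT hR' with hedef
  have hR'T : R' ≤ T := by
    rw [← hR']
    rintro _ ⟨x, -, rfl⟩
    exact (α x).2
  have hδ' : MulAut.congr e (δ : MulAut R) ∈ E.autGroup R' := by
    apply h R' hR'T
    refine ⟨⟨_, congr_mem_autGroup he δ.2⟩, Subgroup.subset_closure ?_, rfl⟩
    show Nat.Coprime (orderOf (⟨_, congr_mem_autGroup he δ.2⟩ : F.autGroup R')) p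
    rw [← Subgroup.orderOf_coe, (MulAut.congr e).orderOf_eq, Subgroup.orderOf_coe]
    exact hδ
  have hle : P' ≤ R' := by
    intro y hy
    obtain ⟨x, hx, hxS, rfl⟩ := hcov y hy
    rw [← hR']
    exact ⟨⟨x, hxS⟩, hx, rfl⟩
  refine ⟨_, restrict_mem E ((mem_autGroup_iff E hR'T _).1 hδ') hle, ?_⟩
  intro x y hx hφ hy
  have e1 : Subgroup.inclusion hle y = e x := Subtype.ext hy
  rw [MonoidHom.comp_apply, e1]
  show (((MulAut.congr e (δ : MulAut R)) (e x) : R') : Ω) = _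
  rw [MulAut.congr_apply, MulEquiv.trans_apply, MulEquiv.trans_apply, MulEquiv.symm_apply_apply]
  rfl

theorem autInv_of_hasPPowerIndexIn [Finite S] {p : ℕ} [Fact p.Prime] (hS : IsPGroup p S)
    (F : FusionSystem S) (hTS : T ≤ S) (E : FusionSystem T) (hEs : E.IsSaturated p)
    (hEi : E.HasPPowerIndexIn F p) : AutInv E (F.autGroup T) := by
  have : Finite T := finite_of_le hTS
  have hD : (invCore E (F.autGroup T)).HasPPowerIndexIn F p :=
    ⟨fun P φ hφ => hEi.1 P hφ.1, hEi.2.1, fun P hP => pRes_le_invCore F hTS E hEi.2.2 hP⟩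
  have hle := le_of_hasPPowerIndexIn F (hS.to_le hTS) E _ hEs hEi.1 hD
  intro P P' φ hφ α hα hP' h
  obtain ⟨χ, hχ, hχ'⟩ := autInv_invCore E (F.autGroup T) P P' φ (hle P hφ) α hα hP' h
  exact ⟨χ, hχ.1, hχ'⟩

theorem frattini_of_hasPPowerIndexIn [Finite S] {p : ℕ} [Fact p.Prime] (hS : IsPGroup p S)
    (F : FusionSystem S) (hF : F.IsSaturated p) (hT : F.StronglyClosed T) (E : FusionSystem T)
    (hEi : E.HasPPowerIndexIn F p) (hinv : AutInv E (F.autGroup T)) :
    ∀ P : Subgroup Ω, P ≤ T → F.Hom P ⊆ (frattiniSystem E (F.autGroup T) hinv).Hom P := by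
  have hfinT : Finite T := finite_of_le hT.1
  apply sc_induction F hT
  · intro φ hφ
    have hrange : φ.range = T := by
      apply Subgroup.eq_of_le_of_card_ge
      · rintro _ ⟨x, rfl⟩
        exact hT.2 T le_rfl φ hφ x
      · exact (Nat.card_congr (MonoidHom.ofInjective (F.injective_of_mem hφ)).toEquiv).le
    have hα : equivOfRange φ (F.injective_of_mem hφ) hrange ∈ F.autGroup T :=
      (mem_autGroup_iff F hT.1 _).2 (mor_equivOfRange F hφ hrange)
    exact ⟨_, hα, T.subtype, subtype_mem E le_rfl, fun x hx => rfl⟩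
  · intro Q hQ hQT ih P hPT e he
    obtain ⟨-, hQa, hQr⟩ := sat_fullyNormalized hS hF hQ
    have hfin : Finite (MulAut Q) := finite_mulAut_of_le hQ.1
    have hSyl : SylIn p (autInducedBy S Q) (F.autGroup Q) := hQa.2
    have hUA : (autInducedBy T P).map (MulAut.congr e).toMonoidHom ≤ F.autGroup Q := by
      rintro _ ⟨β, hβ, rfl⟩
      refine congr_mem_autGroup he (autInducedBy_le_autGroup F he.le_left ?_)
      obtain ⟨g, hg, hg'⟩ := (Helper84.mem_autInducedBy_iff T P _).1 hβ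
      exact (Helper84.mem_autInducedBy_iff S P _).2 ⟨g, hT.1 hg, hg'⟩
    have hUp : IsPGroup p ((autInducedBy T P).map (MulAut.congr e).toMonoidHom) :=
      (isPGroup_autInducedBy (hS.to_le hT.1) P).map _
    obtain ⟨χ₀, hχ₀, hχU⟩ := hSyl.exists_conj_le hUA hUp
    obtain ⟨τ, hτ, χ, hχ, rfl⟩ := exists_mul_of_fullyAutomized F hQa hχ₀
    have hχE : χ ∈ E.autGroup Q := hEi.2.2 Q hQT.le hχ
    have hχF : χ ∈ F.autGroup Q := by
      obtain ⟨b, -, rfl⟩ := hχ
      exact b.2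
    refine mor_of_conj_into_sylow hS F hT.1 _ hQr hPT ih e he χ ?_ hχF ?_
    · rw [mem_autGroup_iff _ hQT.le]
      exact le_frattiniSystem E _ hinv Q ((mem_autGroup_iff E hQT.le χ).1 hχE)
    · intro t htT ht
      have h1 := hχU ⟨MulAut.congr e (conjAut P t ht),
        ⟨conjAut P t ht, conjAut_mem_autInducedBy ht htT, rfl⟩, rfl⟩
      have e1 : MulAut.congr (e.trans χ) (conjAut P t ht) =
          τ⁻¹ * (MulAut.conj (τ * χ)).toMonoidHom (MulAut.congr e (conjAut P t ht)) * τ := by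
        ext x; simp [MulAut.congr_apply, MulAut.mul_apply, MulAut.inv_def]
      rw [e1]
      exact Subgroup.mul_mem _ (Subgroup.mul_mem _ (Subgroup.inv_mem _ hτ) h1) hτ

end Cfsg.Agent.Lib.Helper85
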