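import Cfsg.Agent.Lib.Helper85.PIdxF0b
import Cfsg.Agent.Lib.Helper85.FusPIndex2
import Cfsg.Agent.S5119

set_option autoImplicit false

/-! Strong invariance, transitivity of weak normality, invariant cores (helper85, for S5202). -/

namespace Cfsg.Agent.Lib.Helper85

open Cfsg Cfsg.FusionSystem Cfsg.Agent.Lib.Helper84

variable {Ω : Type*} [Group Ω] {S : Subgroup Ω}

/-- the strong form of invariance -/
def StrongInv {T : Subgroup Ω} (E : FusionSystem T) (F : FusionSystem S) : Prop :=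
  ∀ (P Q : Subgroup Ω) (hPQ : P ≤ Q) (_ : Q ≤ T) (φ : P →* Ω) (_ : φ ∈ E.Hom P)
    (hφQ : ∀ x : P, φ x ∈ Q) (ψ : Q →* Ω) (_ : ψ ∈ F.Hom Q),
    ∃ χ ∈ E.Hom ((P.subgroupOf Q).map ψ),
      ∀ (x : P) (hx : ψ (Subgroup.inclusion hPQ x) ∈ (P.subgroupOf Q).map ψ),
        χ ⟨ψ (Subgroup.inclusion hPQ x), hx⟩ = ψ ⟨φ x, hφQ x⟩

theorem strongInv_of_invariant [Finite S] {p : ℕ} [Fact p.Prime] (hS : IsPGroup p S)
    {F : FusionSystem S} (hF : F.IsSaturated p) {T : Subgroup Ω} {E : FusionSystem T}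
    (h : E.IsInvariantIn F) : StrongInv E F :=
  (Cfsg.Agent.S5119.result p hS F hF E h.1 h.2.1).1 h

theorem sc_of_subsystem {F : FusionSystem S} {S' : Subgroup Ω} {F' : FusionSystem S'}
    (hsub : F'.IsSubsystemOf F) {T : Subgroup Ω} (hT : F.StronglyClosed T) (hTS' : T ≤ S') :
    F'.StronglyClosed T :=
  ⟨hTS', fun P hP φ hφ x => hT.2 P hP φ (hsub P hφ) x⟩

/-- an invariant subsystem is invariant in every saturated intermediate system -/
theorem invariant_of_le [Finite S] {p : ℕ} [Fact p.Prime] (hS : IsPGroup p S)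
    {F : FusionSystem S} (hF : F.IsSaturated p) {T : Subgroup Ω} {E : FusionSystem T}
    (h : E.IsInvariantIn F) {S' : Subgroup Ω} (hS'S : S' ≤ S) {F' : FusionSystem S'}
    (hF' : F'.IsSaturated p) (hsub : F'.IsSubsystemOf F) (hE : E.IsSubsystemOf F')
    (hTS' : T ≤ S') : E.IsInvariantIn F' := by
  have : Finite S' := finite_of_le hS'S
  refine (Cfsg.Agent.S5119.result p (hS.to_le hS'S) F' hF' E hE
    (sc_of_subsystem hsub h.2.1 hTS')).2 ?_
  intro P Q hPQ hQT φ hφ hφQ ψ hψ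
  exact strongInv_of_invariant hS hF h P Q hPQ hQT φ hφ hφQ ψ (hsub Q hψ)

theorem congr_mem_of_strongInv {T : Subgroup Ω} {E : FusionSystem T} {F : FusionSystem S}
    (h : StrongInv E F) {R R' : Subgroup Ω} (hR : R ≤ T) {e : R ≃* R'}
    (he : Mor F e.toMonoidHom) {δ : MulAut R} (hδ : δ ∈ E.autGroup R) :
    MulAut.congr e δ ∈ E.autGroup R' := by
  have hδ' := (mem_autGroup_iff E hR δ).1 hδ
  obtain ⟨χ, hχ, hχ'⟩ := h R R le_rfl hR (R.subtype.comp δ.toMonoidHom) hδ' (fun x => (δ x).2)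
    (R'.subtype.comp e.toMonoidHom) he
  have hle : R' ≤ (R.subgroupOf R).map (R'.subtype.comp e.toMonoidHom) := by
    intro y hy
    exact ⟨e.symm ⟨y, hy⟩, (e.symm ⟨y, hy⟩).2, by simp⟩
  have hR'T : R' ≤ T := hle.trans (E.le_of_mem hχ).1
  rw [mem_autGroup_iff E hR'T]
  refine mem_of_eq_on E hχ hle (fun y => ?_)
  have h1 := hχ' (e.symm y) ⟨e.symm y, (e.symm y).2, rfl⟩
  have e1 : (⟨(R'.subtype.comp e.toMonoidHom) (Subgroup.inclusion le_rfl (e.symm y)),
      ⟨e.symm y, (e.symm y).2, rfl⟩⟩ :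
      ↥((R.subgroupOf R).map (R'.subtype.comp e.toMonoidHom))) = ⟨y, hle y.2⟩ := by
    apply Subtype.ext
    show ((e (e.symm y) : R') : Ω) = y
    rw [MulEquiv.apply_symm_apply]
  rw [e1] at h1
  rw [h1]
  rfl

theorem exists_res_aut' (F : FusionSystem S) {T W : Subgroup Ω} (hT : F.StronglyClosed T)
    (hTW : T ≤ W) (hWS : W ≤ S) {α : MulAut W} (hα : α ∈ F.autGroup W) :
    ∃ β ∈ F.autGroup T, ∀ t : T, ((β t : T) : Ω) = ((α ⟨t, hTW t.2⟩ : W) : Ω) := by
  have hαF := (mem_autGroup_iff F hWS α).1 hα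
  have hst : α ∈ stabIn W T := fun x => (sc_mem_iff hT hαF x).symm
  refine ⟨resStab hTW ⟨α, hst⟩, ?_, fun t => rfl⟩
  rw [mem_autGroup_iff F hT.1]
  exact mem_of_eq_on F hαF hTW (fun x => rfl)

/-- transitivity of weak normality for an invariant subsystem -/
theorem weaklyNormal_trans {p : ℕ} {F : FusionSystem S} {S' S'' : Subgroup Ω}
    {F' : FusionSystem S'} {F'' : FusionSystem S''} (h1 : F'.IsWeaklyNormalIn F p)
    (h2 : F''.IsWeaklyNormalIn F' p) (hsc : F.StronglyClosed S'')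
    (hinv : AutInv F'' (F.autGroup S'')) : F''.IsWeaklyNormalIn F p := by
  obtain ⟨-, hF, hsub1, hS', -, hfr1⟩ := h1
  obtain ⟨hF'', -, hsub2, hS'', -, hfr2⟩ := h2
  refine ⟨hF'', hF, fun P φ hφ => hsub1 P (hsub2 P hφ), hsc, autInv'_of_autInv hinv, ?_⟩
  intro P hP φ hφ
  obtain ⟨α, hα, φ₁, hφ₁, e1⟩ := hfr1 P (hP.trans hS''.1) φ hφ
  obtain ⟨α', hα', φ₂, hφ₂, e2⟩ := hfr2 P hP φ₁ hφ₁
  obtain ⟨β, hβ, e3⟩ := exists_res_aut' F hsc hS''.1 hS'.1 hα
  have hα'F : α' ∈ F.autGroup S'' := autGroup_le_of_subsystem hsub1 hS''.1 hα'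
  refine ⟨β * α', Subgroup.mul_mem _ hβ hα'F, φ₂, hφ₂, fun x hx => ?_⟩
  rw [MulAut.mul_apply, e3, e1 x ((F'.le_of_mem hφ₁).2 x)]
  congr 2
  exact Subtype.ext (e2 x hx)

/-- a family of automorphism groups stable under `Γ` and contained in `E` lies in the
`Γ`-invariant core of `E` -/
theorem family_le_invCore {T : Subgroup Ω} (E : FusionSystem T) (Γ : Subgroup (MulAut T))
    (𝒪 : ∀ P : Subgroup Ω, Subgroup (MulAut P))
    (hΓ : ∀ γ ∈ Γ, ∀ (R R' : Subgroup Ω) (e : R ≃* R') (hR : R ≤ T),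
      (∀ x : R, ((e x : R') : Ω) = ((γ ⟨x, hR x.2⟩ : T) : Ω)) → ∀ δ ∈ 𝒪 R, MulAut.congr e δ ∈ 𝒪 R')
    (h : ∀ P : Subgroup Ω, P ≤ T → 𝒪 P ≤ E.autGroup P) {R : Subgroup Ω} (hRT : R ≤ T) :
    𝒪 R ≤ (invCore E Γ).autGroup R := by
  intro δ hδ
  rw [mem_autGroup_iff _ hRT]
  refine ⟨(mem_autGroup_iff E hRT _).1 (h R hRT hδ), fun α hα P' hcov => ?_⟩
  obtain ⟨R', hR'⟩ : ∃ R', (R.subgroupOf T).map (T.subtype.comp α.toMonoidHom) = R' := ⟨_, rfl⟩
  have hinj : Function.Injective (T.subtype.comp α.toMonoidHom) :=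
    T.subtype_injective.comp α.injective
  set e := restrictEquiv (T.subtype.comp α.toMonoidHom) hinj hRT hR' with hedef
  have hR'T : R' ≤ T := by
    rw [← hR']
    rintro _ ⟨x, -, rfl⟩
    exact (α x).2
  have hδ' : MulAut.congr e δ ∈ E.autGroup R' :=
    h R' hR'T (hΓ α hα R R' e hRT (fun x => rfl) δ hδ)
  have hle : P' ≤ R' := by
    intro y hy
    obtain ⟨x, hx, hxS, rfl⟩ := hcov y hy
    rw [← hR']
    exact ⟨⟨x, hxS⟩, hx, rfl⟩
  refine ⟨_, restrict_mem E ((mem_autGroup_iff E hR'T _).1 hδ') hle, ?_⟩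
  intro x y hx hφ hy
  have e1 : Subgroup.inclusion hle y = e x := Subtype.ext hy
  rw [MonoidHom.comp_apply, e1]
  show (((MulAut.congr e δ) (e x) : R') : Ω) = _
  rw [MulAut.congr_apply, MulEquiv.trans_apply, MulEquiv.trans_apply, MulEquiv.symm_apply_apply]
  rfl

theorem pRes_congr {X Y : Type*} [Group X] [Group Y] (p : ℕ) (f : X ≃* Y) {A : Subgroup X}
    {B : Subgroup Y} (hAB : ∀ a ∈ A, f a ∈ B) {a : X}
    (ha : a ∈ (pResidual p A).map A.subtype) : f a ∈ (pResidual p B).map B.subtype := by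
  have key : (pResidual p A).map A.subtype ≤
      ((pResidual p B).map B.subtype).comap f.toMonoidHom := by
    conv_lhs => unfold pResidual
    rw [MonoidHom.map_closure, Subgroup.closure_le]
    rintro _ ⟨δ, hδ, rfl⟩
    refine ⟨⟨f δ, hAB δ δ.2⟩, Subgroup.subset_closure ?_, rfl⟩
    show Nat.Coprime (orderOf (⟨f δ, hAB δ δ.2⟩ : B)) p
    rw [← Subgroup.orderOf_coe, f.orderOf_eq, Subgroup.orderOf_coe]
    exact hδ
  exact key ha

theorem pElt_congr {X Y : Type*} [Group X] [Group Y] (p : ℕ) (f : X ≃* Y) {A : Subgroup X}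
    {B : Subgroup Y} (hAB : ∀ a ∈ A, f a ∈ B) {a : X}
    (ha : a ∈ pElt p A) : f a ∈ pElt p B := by
  have key : pElt p A ≤ (pElt p B).comap f.toMonoidHom := by
    unfold pElt
    rw [Subgroup.closure_le]
    rintro δ ⟨hδ, k, hk⟩
    refine Subgroup.subset_closure ⟨hAB δ hδ, k, ?_⟩
    show orderOf (f δ) = _
    rw [f.orderOf_eq]
    exact hk
  exact key ha

/-- the variant of `le_of_hasPPowerIndexIn` using only the automizer condition -/
theorem le_of_pRes_le {p : ℕ} [Fact p.Prime] (F : FusionSystem S) {T : Subgroup Ω}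
    [Finite T] (hT : IsPGroup p T) (E D : FusionSystem T) (hE : E.IsSaturated p)
    (hEF : E.IsSubsystemOf F)
    (hD : ∀ P : Subgroup Ω, P ≤ T →
      (pResidual p (F.autGroup P)).map (F.autGroup P).subtype ≤ D.autGroup P) : E ≤ D := by
  apply alperin hT E hE
  intro P hP
  have hPn : E.IsFullyNormalized P := by
    rcases hP with rfl | hP
    · exact fullyNormalized_self E
    · exact hP.2.1
  have hPT : P ≤ T := hPn.1
  obtain ⟨-, R, hR⟩ := (sat_fullyNormalized hT hE hPn).2.1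
  have hfin : Finite (E.autGroup P) := finite_autGroup E hPT
  have hle := autGroup_le_of_subsystem hEF hPT
  intro α hα
  obtain ⟨τ, hτ, β, hβ, hαeq⟩ := Cfsg.Agent.Lib.Helper34.exists_mul_pResidual
    (R : Subgroup (E.autGroup P)) R.not_dvd_index ⟨α, hα⟩
  rw [hR, Subgroup.mem_subgroupOf] at hτ
  have h1 : α = (τ : MulAut P) * (β : MulAut P) := congrArg Subtype.val hαeq
  rw [h1]
  refine Subgroup.mul_mem _ (autInducedBy_le_autGroup D hPT hτ) ?_
  apply hD P hPT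
  have h2 := pResidual_map_le_of_injective p (Subgroup.inclusion hle)
    (Subgroup.inclusion_injective hle) ⟨β, hβ, rfl⟩
  exact ⟨_, h2, rfl⟩

end Cfsg.Agent.Lib.Helper85
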