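import Cfsg.Agent.S5086
import Cfsg.Agent.Lib.Helper85.FusFactor2
import Cfsg.Agent.Lib.Helper84.FusionSat2
import Cfsg.Agent.Lib.Helper86.Centric
import Cfsg.Agent.Lib.Helper87.FusUtil
import Cfsg.Agent.Lib.Lead.Cores

set_option autoImplicit false

/-! A normal subsystem of a constrained system is constrained (helper85). -/

namespace Cfsg.Agent.Lib.Helper85

open Cfsg Cfsg.FusionSystem Cfsg.Agent.Lib.Helper84 Cfsg.Agent.Lib.Helper87

variable {Ω : Type*} [Group Ω] {S : Subgroup Ω}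

/-- an element of `S` normalizing a centric radical `P` and inducing on it an element of a normal
`p`-subgroup of `Aut_F(P)` lies in `P`. -/
theorem mem_of_radical_centric {p : ℕ} (F : FusionSystem S) {P : Subgroup Ω}
    (hc : F.IsCentric P) (hr : F.IsRadical p P) {u : Ω} (huS : u ∈ S)
    (huN : u ∈ Subgroup.normalizer (P : Set Ω)) (B : Subgroup (F.autGroup P)) (hBn : B.Normal)
    (hBp : IsPGroup p B)
    (huB : ∀ h : conjAut P u huN ∈ F.autGroup P, (⟨conjAut P u huN, h⟩ : F.autGroup P) ∈ B) :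
    u ∈ P := by
  have h := autInducedBy_le_autGroup F hc.1 (conjAut_mem_autInducedBy huN huS)
  have h1 := Cfsg.Agent.Lib.Lead.le_pCore hBn hBp (huB h)
  have h2 : conjAut P u huN ∈ (pCore p (F.autGroup P)).map (F.autGroup P).subtype := ⟨_, h1, rfl⟩
  rw [hr.2] at h2
  obtain ⟨y, hy⟩ := h2
  have h3 : (y : Ω)⁻¹ * u ∈ centralizerIn S P := by
    refine ⟨S.mul_mem (S.inv_mem (hc.1 y.2)) huS, ?_⟩
    apply Subgroup.mem_centralizer_iff.2
    intro x hx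
    have h4 : (y : Ω) * x * (y : Ω)⁻¹ = u * x * u⁻¹ :=
      congrArg (Subtype.val : P → Ω) (DFunLike.congr_fun hy (⟨x, hx⟩ : P))
    calc x * ((y : Ω)⁻¹ * u) = (y : Ω)⁻¹ * ((y : Ω) * x * (y : Ω)⁻¹) * u := by group
      _ = (y : Ω)⁻¹ * u * x := by rw [h4]; group
  have h5 := hc.2 P (isConj_refl F hc.1) h3
  have h6 := P.mul_mem y.2 h5
  rwa [mul_inv_cancel_left] at h6

theorem pow_apply_of_fixed {P : Type*} [Group P] (α : MulAut P) (x : P)
    (h : α (x⁻¹ * α x) = x⁻¹ * α x) (k : ℕ) : (α ^ k) x = x * (x⁻¹ * α x) ^ k := by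
  induction k with
  | zero => simp
  | succ k ih =>
    rw [pow_succ', MulAut.mul_apply, ih, map_mul, map_pow, h, pow_succ', ← mul_assoc,
      mul_inv_cancel_left]

/-- the automorphisms in `A` centralizing `R` and `Q/R`. -/
def chainStab {P : Subgroup Ω} (A : Subgroup (MulAut P)) (R Q : Subgroup Ω) (hRQ : R ≤ Q)
    (hQ : ∀ α ∈ A, ∀ x : P, ((α x : P) : Ω) ∈ Q ↔ (x : Ω) ∈ Q)
    (hR : ∀ α ∈ A, ∀ x : P, ((α x : P) : Ω) ∈ R ↔ (x : Ω) ∈ R) : Subgroup A where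
  carrier := {α | ∀ x : P, ((x : Ω) ∈ R → (α : MulAut P) x = x) ∧
    ((x : Ω) ∈ Q → (x : Ω)⁻¹ * (((α : MulAut P) x : P) : Ω) ∈ R)}
  one_mem' := fun x => ⟨fun _ => rfl, fun _ => by
    show (x : Ω)⁻¹ * (x : Ω) ∈ R
    rw [inv_mul_cancel]; exact R.one_mem⟩
  mul_mem' := by
    intro a b ha hb x
    refine ⟨fun hx => ?_, fun hx => ?_⟩
    · show (a : MulAut P) ((b : MulAut P) x) = x
      rw [(hb x).1 hx, (ha x).1 hx]
    · show (x : Ω)⁻¹ * (((a : MulAut P) ((b : MulAut P) x) : P) : Ω) ∈ R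
      have h1 := (hb x).2 hx
      have h2 := (ha ((b : MulAut P) x)).2 ((hQ b b.2 x).mpr hx)
      have h3 := R.mul_mem h1 h2
      rwa [mul_assoc, mul_inv_cancel_left] at h3
  inv_mem' := by
    intro a ha x
    have e : (a : MulAut P) ((a : MulAut P)⁻¹ x) = x := MulAut.apply_inv_self _ _ _
    refine ⟨fun hx => ?_, fun hx => ?_⟩
    · show (a : MulAut P)⁻¹ x = x
      have h1 : ((((a : MulAut P)⁻¹ x : P)) : Ω) ∈ R := (hR a a.2 _).mp (by rw [e]; exact hx)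
      have h2 := (ha _).1 h1
      rw [e] at h2
      exact h2.symm
    · show (x : Ω)⁻¹ * ((((a : MulAut P)⁻¹ x : P)) : Ω) ∈ R
      have h1 : ((((a : MulAut P)⁻¹ x : P)) : Ω) ∈ Q := (hQ a a.2 _).mp (by rw [e]; exact hx)
      have h2 := (ha _).2 h1
      rw [e] at h2
      have h3 := R.inv_mem h2
      rwa [mul_inv_rev, inv_inv] at h3

theorem chainStab_normal {P : Subgroup Ω} (A : Subgroup (MulAut P)) (R Q : Subgroup Ω)
    (hRQ : R ≤ Q) (hQ : ∀ α ∈ A, ∀ x : P, ((α x : P) : Ω) ∈ Q ↔ (x : Ω) ∈ Q)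
    (hR : ∀ α ∈ A, ∀ x : P, ((α x : P) : Ω) ∈ R ↔ (x : Ω) ∈ R) :
    (chainStab A R Q hRQ hQ hR).Normal := by
  constructor
  intro a ha g x
  have e : (g : MulAut P) ((g : MulAut P)⁻¹ x) = x := MulAut.apply_inv_self _ _ _
  refine ⟨fun hx => ?_, fun hx => ?_⟩
  · show (g : MulAut P) ((a : MulAut P) ((g : MulAut P)⁻¹ x)) = x
    have h1 : ((((g : MulAut P)⁻¹ x : P)) : Ω) ∈ R := (hR g g.2 _).mp (by rw [e]; exact hx)
    rw [(ha _).1 h1, e]
  · show (x : Ω)⁻¹ * (((g : MulAut P) ((a : MulAut P) ((g : MulAut P)⁻¹ x)) : P) : Ω) ∈ R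
    have h1 : ((((g : MulAut P)⁻¹ x : P)) : Ω) ∈ Q := (hQ g g.2 _).mp (by rw [e]; exact hx)
    have h2 := (ha _).2 h1
    have h3 : (((g : MulAut P) (((g : MulAut P)⁻¹ x)⁻¹ * (a : MulAut P) ((g : MulAut P)⁻¹ x)) : P) : Ω)
        ∈ R := (hR g g.2 _).mpr h2
    rw [map_mul, map_inv, e] at h3
    exact h3

theorem chainStab_isPGroup [Finite S] {p : ℕ} [Fact p.Prime] (hS : IsPGroup p S)
    {P : Subgroup Ω} (hPS : P ≤ S) (A : Subgroup (MulAut P)) (R Q : Subgroup Ω)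
    (hRQ : R ≤ Q) (hQP : Q ≤ P) (hcent : centralizerIn S Q ≤ Q)
    (hQn : ∀ x ∈ P, ∀ q ∈ Q, x * q * x⁻¹ ∈ Q)
    (hQ : ∀ α ∈ A, ∀ x : P, ((α x : P) : Ω) ∈ Q ↔ (x : Ω) ∈ Q)
    (hR : ∀ α ∈ A, ∀ x : P, ((α x : P) : Ω) ∈ R ↔ (x : Ω) ∈ R) :
    IsPGroup p (chainStab A R Q hRQ hQ hR) := by
  have hQS := hQP.trans hPS
  have hfinQ : Finite Q := finite_of_le hQS
  have hfinR : Finite R := finite_of_le (hRQ.trans hQS)
  obtain ⟨a, ha⟩ := IsPGroup.iff_card.mp (hS.to_le (hRQ.trans hQS))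
  obtain ⟨b, hb⟩ := IsPGroup.iff_card.mp (hS.to_le hQS)
  rintro ⟨⟨α, hαA⟩, hα⟩
  refine ⟨a + b, ?_⟩
  apply Subtype.ext
  apply Subtype.ext
  show α ^ p ^ (a + b) = 1
  have hα' : ∀ x : P, ((x : Ω) ∈ R → α x = x) ∧ ((x : Ω) ∈ Q → (x : Ω)⁻¹ * ((α x : P) : Ω) ∈ R) := hα
  -- step 1
  have h1 : ∀ x : P, (x : Ω) ∈ Q → (α ^ p ^ a) x = x := by
    intro x hx
    have h2 := (hα' x).2 hx
    have h3 : α (x⁻¹ * α x) = x⁻¹ * α x := (hα' (x⁻¹ * α x)).1 h2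
    rw [pow_apply_of_fixed α x h3]
    have h4 : (⟨(x : Ω)⁻¹ * ((α x : P) : Ω), h2⟩ : R) ^ p ^ a = 1 := by
      rw [← ha]; exact pow_card_eq_one'
    have h4' : ((x : Ω)⁻¹ * ((α x : P) : Ω)) ^ p ^ a = 1 := congrArg (Subtype.val : R → Ω) h4
    have h5 : (x⁻¹ * α x) ^ p ^ a = 1 := by
      apply Subtype.ext
      rw [Subgroup.coe_pow, Subgroup.coe_mul, Subgroup.coe_inv, Subgroup.coe_one]
      exact h4'
    rw [h5, mul_one]
  -- step 2
  have h2 : ∀ x : P, ((x : Ω)⁻¹ * (((α ^ p ^ a) x : P) : Ω)) ∈ Q := by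
    intro x
    apply hcent
    refine ⟨S.mul_mem (S.inv_mem (hPS x.2)) (hPS ((α ^ p ^ a) x).2), ?_⟩
    apply Subgroup.mem_centralizer_iff.2
    intro q hq
    have hx : (x : Ω) * q * (x : Ω)⁻¹ ∈ Q := hQn x x.2 q hq
    have h3 := h1 (x * ⟨q, hQP hq⟩ * x⁻¹) hx
    rw [map_mul, map_mul, map_inv, h1 ⟨q, hQP hq⟩ hq] at h3
    have h4 : (((α ^ p ^ a) x : P) : Ω) * q * (((α ^ p ^ a) x : P) : Ω)⁻¹ = (x : Ω) * q * (x : Ω)⁻¹ :=
      congrArg (Subtype.val : P → Ω) h3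
    obtain ⟨y, hy⟩ : ∃ y : Ω, y = (((α ^ p ^ a) x : P) : Ω) := ⟨_, rfl⟩
    rw [← hy] at h4 ⊢
    calc q * ((x : Ω)⁻¹ * y) = (x : Ω)⁻¹ * ((x : Ω) * q * (x : Ω)⁻¹) * y := by group
      _ = (x : Ω)⁻¹ * y * q := by rw [← h4]; group
  ext x
  rw [pow_add, pow_mul]
  have h3 : (α ^ p ^ a) (x⁻¹ * (α ^ p ^ a) x) = x⁻¹ * (α ^ p ^ a) x := h1 _ (h2 x)
  rw [pow_apply_of_fixed (α ^ p ^ a) x h3]
  have h4 : (⟨(x : Ω)⁻¹ * (((α ^ p ^ a) x : P) : Ω), h2 x⟩ : Q) ^ p ^ b = 1 := by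
    rw [← hb]; exact pow_card_eq_one'
  have h4' : ((x : Ω)⁻¹ * (((α ^ p ^ a) x : P) : Ω)) ^ p ^ b = 1 :=
    congrArg (Subtype.val : Q → Ω) h4
  have h5 : (x⁻¹ * (α ^ p ^ a) x) ^ p ^ b = 1 := by
    apply Subtype.ext
    rw [Subgroup.coe_pow, Subgroup.coe_mul, Subgroup.coe_inv, Subgroup.coe_one]
    exact h4'
  rw [h5, mul_one]
  rfl

theorem aut_mem_iff_of_sc [Finite S] (F : FusionSystem S) {Q P : Subgroup Ω}
    (hQ : F.StronglyClosed Q) (hQP : Q ≤ P) (hPS : P ≤ S) :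
    ∀ α ∈ F.autGroup P, ∀ x : P, ((α x : P) : Ω) ∈ Q ↔ (x : Ω) ∈ Q := by
  intro α hα x
  exact mem_stronglyClosed_iff F hQ hQP ((mem_autGroup_iff F hPS α).mp hα) x

/-- the centralizer of a normal subgroup, intersected with a strongly closed subgroup, is strongly
closed. -/
theorem sc_centralizerIn (F : FusionSystem S) {T R : Subgroup Ω} (hT : F.StronglyClosed T)
    (hR : F.IsNormal R) : F.StronglyClosed (centralizerIn T R) := by
  refine ⟨inf_le_left.trans hT.1, fun P hP φ hφ x => ⟨hT.2 P (hP.trans inf_le_left) φ hφ x, ?_⟩⟩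
  apply Subgroup.mem_centralizer_iff.2
  intro r hr
  obtain ⟨ψ, -, h1, h2⟩ := hR.2 P φ hφ
  rw [← h2] at hr
  obtain ⟨r', hr', rfl⟩ := hr
  rw [← h1 x, ← map_mul, ← map_mul]
  congr 1
  apply Subtype.ext
  exact (Subgroup.mem_centralizer_iff.1 (hP x.2).2) r' hr'

theorem constrained_of_normalIn [Finite S] {p : ℕ} [Fact p.Prime] (hS : IsPGroup p S)
    (F : FusionSystem S) (hF : F.IsConstrained p) {T : Subgroup Ω} (E : FusionSystem T)
    (hE : E.IsNormalIn F p) : E.IsConstrained p := by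
  obtain ⟨hFsat, Q₀, hQ₀n, hQ₀c⟩ := hF
  obtain ⟨⟨hEsat, -, hsub, hTsc, -, -⟩, -⟩ := hE
  have hTS : T ≤ S := hTsc.1
  have hfinT : Finite T := finite_of_le hTS
  have hTp : IsPGroup p T := hS.to_le hTS
  have hQn : F.IsNormal F.core := isNormal_core F
  have hQS : F.core ≤ S := hQn.1
  have hQc : F.IsCentric F.core := Cfsg.Agent.Lib.Helper86.centric_of_le F hQ₀c (le_sSup hQ₀n) hQS
  obtain ⟨hQsc, hQrad⟩ := (Cfsg.Agent.S5086.result p hS F hFsat F.core).mp hQn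
  have hRS : F.core ⊓ T ≤ S := inf_le_left.trans hQS
  have hRsc : F.StronglyClosed (F.core ⊓ T) :=
    ⟨hRS, fun P hP φ hφ x => ⟨hQsc.2 P (hP.trans inf_le_left) φ hφ x,
      hTsc.2 P (hP.trans inf_le_right) φ hφ x⟩⟩
  have hRn : F.IsNormal (F.core ⊓ T) := (Cfsg.Agent.S5086.result p hS F hFsat _).mpr
    ⟨hRsc, fun P hc hr => inf_le_left.trans (hQrad P hc hr)⟩
  have hCsc : F.StronglyClosed (centralizerIn T (F.core ⊓ T)) := sc_centralizerIn F hTsc hRn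
  -- `C_T(R)` lies in every centric radical subgroup
  have hCrad : ∀ P : Subgroup Ω, F.IsCentric P → F.IsRadical p P →
      centralizerIn T (F.core ⊓ T) ≤ P := by
    intro P hc hr
    by_contra hcon
    obtain ⟨u, huC, huN, huP⟩ := exists_mem_normalizing_not_mem hS hCsc.1 hc.1
      (hc.1.trans (sc_le_normalizer hCsc)) hcon
    apply huP
    have hQP : F.core ≤ P := hQrad P hc hr
    have huS : u ∈ S := hCsc.1 huC
    have i1 := aut_mem_iff_of_sc F hQsc hQP hc.1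
    have i2 := aut_mem_iff_of_sc F hRsc (inf_le_left.trans hQP) hc.1
    refine mem_of_radical_centric F hc hr huS huN
      (chainStab (F.autGroup P) (F.core ⊓ T) F.core inf_le_left i1 i2)
      (chainStab_normal _ _ _ _ _ _)
      (chainStab_isPGroup hS hc.1 _ _ _ _ hQP (hQc.2 _ (isConj_refl F hQS))
        (fun x hx q hq => sc_conj_mem hQsc (hc.1 hx) hq) _ _) ?_
    intro h x
    refine ⟨fun hx => ?_, fun hx => ?_⟩
    · apply Subtype.ext
      show u * (x : Ω) * u⁻¹ = x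
      rw [← (Subgroup.mem_centralizer_iff.1 huC.2) x hx]
      group
    · show (x : Ω)⁻¹ * (u * (x : Ω) * u⁻¹) ∈ F.core ⊓ T
      refine ⟨F.core.mul_mem (F.core.inv_mem hx) (sc_conj_mem hQsc huS hx), ?_⟩
      have h1 : (x : Ω)⁻¹ * u * (x : Ω)⁻¹⁻¹ ∈ T := sc_conj_mem hTsc (S.inv_mem (hc.1 x.2)) huC.1
      have h2 := T.mul_mem h1 (T.inv_mem huC.1)
      have e : (x : Ω)⁻¹ * u * (x : Ω)⁻¹⁻¹ * u⁻¹ = (x : Ω)⁻¹ * (u * (x : Ω) * u⁻¹) := by group
      rwa [e] at h2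
  have hCn : F.IsNormal (centralizerIn T (F.core ⊓ T)) :=
    (Cfsg.Agent.S5086.result p hS F hFsat _).mpr ⟨hCsc, hCrad⟩
  have hCR : centralizerIn T (F.core ⊓ T) ≤ F.core ⊓ T := le_inf (le_sSup hCn) inf_le_left
  -- `R` is normal in `E`
  have hRscE : E.StronglyClosed (F.core ⊓ T) :=
    ⟨inf_le_right, fun P hP φ hφ x => hRsc.2 P hP φ (hsub P hφ) x⟩
  have hRradE : ∀ P : Subgroup Ω, E.IsCentric P → E.IsRadical p P → F.core ⊓ T ≤ P := by
    intro P hc hr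
    by_contra hcon
    obtain ⟨u, huR, huN, huP⟩ := exists_mem_normalizing_not_mem hTp hRscE.1 hc.1
      (hc.1.trans (sc_le_normalizer hRscE)) hcon
    apply huP
    have hle : autInducedBy (F.core ⊓ T) P ≤ E.autGroup P := by
      intro α hα
      obtain ⟨g, hg, hg'⟩ := (Helper84.mem_autInducedBy_iff _ _ α).1 hα
      exact autInducedBy_le_autGroup E hc.1 ((Helper84.mem_autInducedBy_iff _ _ α).2 ⟨g, hg.2, hg'⟩)
    refine mem_of_radical_centric E hc hr huR.2 huN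
      ((autInducedBy (F.core ⊓ T) P).subgroupOf (E.autGroup P)) ?_ ?_ ?_
    · constructor
      intro a ha γ
      rw [Subgroup.mem_subgroupOf] at ha ⊢
      obtain ⟨g, hg, hg'⟩ := (Helper84.mem_autInducedBy_iff _ _ _).1 ha
      have hγ : P.subtype.comp (γ : MulAut P).toMonoidHom ∈ F.Hom P :=
        hsub P ((mem_autGroup_iff E hc.1 γ).mp γ.2)
      obtain ⟨ψ, hψ, h1, h2⟩ := hQn.2 P _ hγ
      have hgPQ : g ∈ P ⊔ F.core := (le_sup_right : F.core ≤ _) hg.1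
      refine (Helper84.mem_autInducedBy_iff _ _ _).2 ⟨ψ ⟨g, hgPQ⟩, ⟨?_, ?_⟩, fun x => ?_⟩
      · exact h2.le ⟨⟨g, hgPQ⟩, hg.1, rfl⟩
      · exact sc_map_mem hTsc hψ ⟨g, hgPQ⟩ hg.2
      · show (((γ : MulAut P) ((a : MulAut P) ((γ : MulAut P)⁻¹ x)) : P) : Ω) = _
        have e1 := h1 ((a : MulAut P) ((γ : MulAut P)⁻¹ x))
        have e2 := h1 ((γ : MulAut P)⁻¹ x)
        have e3 : (P.subtype.comp (γ : MulAut P).toMonoidHom) ((γ : MulAut P)⁻¹ x) = x := by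
          show (((γ : MulAut P) ((γ : MulAut P)⁻¹ x) : P) : Ω) = x
          rw [MulAut.apply_inv_self]
        rw [e3] at e2
        refine e1.symm.trans ?_
        have e4 : Subgroup.inclusion (le_sup_left : P ≤ P ⊔ F.core)
            ((a : MulAut P) ((γ : MulAut P)⁻¹ x)) =
            ⟨g, hgPQ⟩ * Subgroup.inclusion le_sup_left ((γ : MulAut P)⁻¹ x) * ⟨g, hgPQ⟩⁻¹ :=
          Subtype.ext (hg' _)
        rw [e4, map_mul, map_mul, map_inv, e2]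
    · exact ((isPGroup_autInducedBy (hS.to_le hRS) P)).comap_subtype
    · intro h
      exact Subgroup.mem_subgroupOf.mpr (conjAut_mem_autInducedBy huN huR)
  have hRnE : E.IsNormal (F.core ⊓ T) :=
    (Cfsg.Agent.S5086.result p hTp E hEsat _).mpr ⟨hRscE, hRradE⟩
  refine ⟨hEsat, F.core ⊓ T, hRnE, inf_le_right, ?_⟩
  rintro Q' ⟨φ, hφ, rfl⟩
  have hfinR : Finite ↥(F.core ⊓ T) := finite_of_le hRS
  have hrange : φ.range = F.core ⊓ T := by
    apply Subgroup.eq_of_le_of_card_ge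
    · rintro _ ⟨x, rfl⟩
      exact hRscE.2 _ le_rfl φ hφ x
    · exact (Nat.card_congr (MonoidHom.ofInjective (E.injective_of_mem hφ)).toEquiv).le
  rw [hrange]
  exact hCR

end Cfsg.Agent.Lib.Helper85
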