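import Cfsg.Agent.Lib.Helper84.FusionHyperfocal
import Cfsg.Agent.Lib.Helper85.SylIn2

set_option autoImplicit false

/-! Uniqueness of saturated subsystems of `p`-power index over a given subgroup, and the subsystem
of `O^p(G)` (helper85). -/

namespace Cfsg.Agent.Lib.Helper85

open Cfsg Cfsg.FusionSystem Cfsg.Agent.Lib.Helper84

variable {Ω : Type*} [Group Ω] {S : Subgroup Ω}

theorem autGroup_le_of_subsystem {T : Subgroup Ω} {E : FusionSystem T} {F : FusionSystem S}
    (h : E.IsSubsystemOf F) {P : Subgroup Ω} (hP : P ≤ T) : E.autGroup P ≤ F.autGroup P := by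
  have hPS : P ≤ S := (F.le_of_mem (h P (subtype_mem E hP))).1
  intro α hα
  rw [mem_autGroup_iff F hPS]
  exact h P ((mem_autGroup_iff E hP α).1 hα)

/-- A saturated subsystem over `T` is contained in every subsystem over `T` of `p`-power index. -/
theorem le_of_hasPPowerIndexIn {p : ℕ} [Fact p.Prime] (F : FusionSystem S) {T : Subgroup Ω}
    [Finite T] (hT : IsPGroup p T) (E D : FusionSystem T) (hE : E.IsSaturated p)
    (hEF : E.IsSubsystemOf F) (hD : D.HasPPowerIndexIn F p) : E ≤ D := by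
  apply alperin hT E hE
  intro P hP
  have hPn : E.IsFullyNormalized P := by
    rcases hP with rfl | hP
    · exact fullyNormalized_self E
    · exact hP.2.1
  have hPT : P ≤ T := hPn.1
  obtain ⟨-, R, hR⟩ := (sat_fullyNormalized hT hE hPn).2.1
  have hfin : Finite (E.autGroup P) := finite_autGroup E hPT
  have hle := autGroup_le_of_subsystem hEF hPT
  intro α hα
  obtain ⟨τ, hτ, β, hβ, hαeq⟩ := Cfsg.Agent.Lib.Helper34.exists_mul_pResidual
    (R : Subgroup (E.autGroup P)) R.not_dvd_index ⟨α, hα⟩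
  rw [hR, Subgroup.mem_subgroupOf] at hτ
  have h1 : α = (τ : MulAut P) * (β : MulAut P) := congrArg Subtype.val hαeq
  rw [h1]
  refine Subgroup.mul_mem _ (autInducedBy_le_autGroup D hPT hτ) ?_
  apply hD.2.2 P hPT
  have h2 := pResidual_map_le_of_injective p (Subgroup.inclusion hle)
    (Subgroup.inclusion_injective hle) ⟨β, hβ, rfl⟩
  exact ⟨_, h2, rfl⟩

theorem eq_of_hasPPowerIndexIn {p : ℕ} [Fact p.Prime] (F : FusionSystem S) {T T' : Subgroup Ω}
    [Finite T] (hT : IsPGroup p T) (hTT' : T = T') (E : FusionSystem T) (D : FusionSystem T')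
    (hE : E.IsSaturated p) (hEF : E.HasPPowerIndexIn F p) (hD : D.IsSaturated p)
    (hDF : D.HasPPowerIndexIn F p) (P : Subgroup Ω) : E.Hom P = D.Hom P := by
  subst hTT'
  exact Set.Subset.antisymm (le_of_hasPPowerIndexIn F hT E D hE hEF.1 hDF P)
    (le_of_hasPPowerIndexIn F hT D E hD hDF.1 hEF P)

section group

variable {G : Type*} [Group G]

theorem sylIn_inf_pResidual [Finite G] (p : ℕ) [Fact p.Prime] (S : Sylow p G) :
    SylIn p ((S : Subgroup G) ⊓ pResidual p G) (pResidual p G) := by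
  have hKn : (pResidual p G).Normal := Cfsg.Agent.Lib.Helper34.pResidual_normal p G
  have h1 : SylIn p (S : Subgroup G) ⊤ := by
    rw [sylIn_iff_card le_top, Subgroup.card_top]
    exact S.card_eq_multiplicity
  exact h1.inf_normal le_top le_top (by rw [Subgroup.normalizer_eq_top])

theorem fusSub_pResidual_hasPPowerIndexIn [Finite G] (p : ℕ) [Fact p.Prime] (S : Sylow p G)
    (h : (S : Subgroup G) ⊓ pResidual p G ≤ pResidual p G) :
    (fusionSystemOfSubgroup (pResidual p G) ((S : Subgroup G) ⊓ pResidual p G) h).HasPPowerIndexIn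
      (groupFusionSystem (S : Subgroup G)) p := by
  refine ⟨?_, (hyperfocal_groupFus p S).le, ?_⟩
  · rintro P φ ⟨hP, hφ, g, -, hg⟩
    exact ⟨hP.trans inf_le_left, fun x => (hφ x).1, g, hg⟩
  · intro P hP
    have hPS : P ≤ (S : Subgroup G) := hP.trans inf_le_left
    rw [Cfsg.Agent.Lib.Helper89.fusSub_autGroup h hP]
    unfold pResidual
    rw [MonoidHom.map_closure, Subgroup.closure_le]
    rintro _ ⟨β, hβ, rfl⟩
    obtain ⟨-, -, g, hg⟩ :=
      (mem_autGroup_iff (groupFusionSystem (S : Subgroup G)) hPS (β : MulAut P)).1 β.2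
    have hg' : ∀ x : P, (((β : MulAut P) x : P) : G) = g * x * g⁻¹ := hg
    obtain ⟨k, hk⟩ := Cfsg.Agent.Lib.Helper47.exists_pow_coprime (p := p) g
    have hβ' : Nat.Coprime (orderOf (β : MulAut P)) p := by
      rw [Subgroup.orderOf_coe]; exact hβ
    obtain ⟨m, hm⟩ := exists_pow_eq_self_of_coprime (x := (β : MulAut P)) (n := p ^ k)
      (Nat.Coprime.pow_left k hβ'.symm)
    have h1 := groupFus_aut_pow (groupFus_aut_pow hg' (p ^ k)) m
    rw [hm] at h1
    have h2 : (g ^ p ^ k) ^ m ∈ Subgroup.closure {g : G | Nat.Coprime (orderOf g) p} := by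
      apply Subgroup.pow_mem
      exact Subgroup.subset_closure hk
    exact (Helper84.mem_autInducedBy_iff _ P _).2 ⟨_, h2, h1⟩

end group

end Cfsg.Agent.Lib.Helper85
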