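import Cfsg.Agent.Lib.Helper85.FusPrimeIdx2
import Cfsg.Agent.Lib.Helper85.FusConstr
import Cfsg.Agent.Lib.Helper85.FusPIndex
import Cfsg.Agent.Lib.Helper84.FusionNormSys
import Cfsg.Agent.Lib.Helper47.PCore

set_option autoImplicit false

/-! `p`-stability of fusion systems (helper85). -/

namespace Cfsg.Agent.Lib.Helper85

open Cfsg Cfsg.FusionSystem Cfsg.Agent.Lib.Helper84

/-- membership in `O_p(A)`, read inside the ambient group -/
theorem mem_pCore_map_iff {X : Type*} [Group X] {p : ℕ} (A : Subgroup X) (x : X) :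
    x ∈ (pCore p A).map A.subtype ↔ ∃ N : Subgroup X, N ≤ A ∧ IsPGroup p N ∧
      (∀ a ∈ A, ∀ n ∈ N, a * n * a⁻¹ ∈ N) ∧ x ∈ N := by
  constructor
  · intro hx
    refine ⟨(pCore p A).map A.subtype, Subgroup.map_subtype_le _,
      (Cfsg.Agent.Lib.Helper47.pCore_isPGroup).map _, ?_, hx⟩
    rintro a ha _ ⟨n, hn, rfl⟩
    exact ⟨⟨a, ha⟩ * n * ⟨a, ha⟩⁻¹,
      (Cfsg.Agent.Lib.Helper47.pCore_normal (p := p) (G := A)).conj_mem n hn ⟨a, ha⟩, rfl⟩
  · rintro ⟨N, hNA, hNp, hNn, hx⟩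
    have h1 : (N.subgroupOf A).Normal := by
      constructor
      intro n hn a
      exact hNn a a.2 n hn
    have h2 : IsPGroup p (N.subgroupOf A) :=
      hNp.of_equiv (Subgroup.subgroupOfEquivOfLe hNA).symm
    exact ⟨⟨x, hNA hx⟩, Cfsg.Agent.Lib.Helper47.le_pCore h1 h2 hx, rfl⟩

/-- quadratic action -/
def Quad {Q : Type*} [Group Q] (χ : MulAut Q) : Prop :=
  ∀ a : Q, (χ a⁻¹) * a * (χ a⁻¹) * (χ (χ a)) = 1

/-- every quadratic element of `A` lies in `O_p(A)` -/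
def PS (p : ℕ) {Q : Type*} [Group Q] (A : Subgroup (MulAut Q)) : Prop :=
  ∀ χ : MulAut Q, χ ∈ A → Quad χ → χ ∈ (pCore p A).map A.subtype

theorem PS.mono {p : ℕ} {Q : Type*} [Group Q] {A B : Subgroup (MulAut Q)} (h : PS p A)
    (hBA : B ≤ A) : PS p B := by
  intro χ hχ hq
  obtain ⟨N, hNA, hNp, hNn, hx⟩ := (mem_pCore_map_iff A χ).1 (h χ (hBA hχ) hq)
  refine (mem_pCore_map_iff B χ).2 ⟨N ⊓ B, inf_le_right, hNp.to_le inf_le_left, ?_, hx, hχ⟩
  rintro a ha n ⟨hn, hnB⟩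
  exact ⟨hNn a (hBA ha) n hn, B.mul_mem (B.mul_mem ha hnB) (B.inv_mem ha)⟩

theorem Quad.congr {Q P : Type*} [Group Q] [Group P] (e : Q ≃* P) {χ : MulAut Q}
    (h : Quad (MulAut.congr e χ)) : Quad χ := by
  intro a
  have := h (e a)
  simp only [MulAut.congr_apply, MulEquiv.trans_apply, MulEquiv.symm_apply_apply, ← map_inv] at this
  apply e.injective
  rw [map_mul, map_mul, map_mul, map_one]
  exact this

theorem PS.congr {p : ℕ} {Q P : Type*} [Group Q] [Group P] (e : Q ≃* P)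
    {A : Subgroup (MulAut Q)} (h : PS p A) : PS p (A.map (MulAut.congr e).toMonoidHom) := by
  rintro _ ⟨χ, hχ, rfl⟩ hq
  obtain ⟨N, hNA, hNp, hNn, hx⟩ := (mem_pCore_map_iff A χ).1 (h χ hχ (Quad.congr e hq))
  refine (mem_pCore_map_iff _ _).2 ⟨N.map (MulAut.congr e).toMonoidHom, Subgroup.map_mono hNA,
    hNp.map _, ?_, ⟨χ, hx, rfl⟩⟩
  rintro _ ⟨a, ha, rfl⟩ _ ⟨n, hn, rfl⟩
  exact ⟨a * n * a⁻¹, hNn a ha n hn, by rw [map_mul, map_mul, map_inv]⟩

variable {Ω : Type*} [Group Ω] {S : Subgroup Ω}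

theorem PS.of_isConj {p : ℕ} {F : FusionSystem S} {Q Q' : Subgroup Ω} (hc : F.IsConj Q Q')
    (h : PS p (F.autGroup Q)) : PS p (F.autGroup Q') := by
  obtain ⟨e, he⟩ := (isConj_iff F).1 hc
  rw [← map_congr_autGroup he]
  exact h.congr e

/-- stability on the fully normalized subgroups gives stability on all subgroups -/
theorem PS.of_fullyNormalized [Finite S] {p : ℕ} {F : FusionSystem S}
    (h : ∀ Q : Subgroup Ω, F.IsFullyNormalized Q → PS p (F.autGroup Q)) {Q : Subgroup Ω}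
    (hQ : Q ≤ S) : PS p (F.autGroup Q) := by
  obtain ⟨Q', hc, hn⟩ := exists_fullyNormalized F hQ
  exact (h Q' hn).of_isConj (isConj_symm hc)

/-- a quadratic automorphism of a finite `p`-group is a `p`-element -/
theorem Quad.pow_card {Q : Type*} [Group Q] [Finite Q] {χ : MulAut Q} (h : Quad χ) :
    χ ^ Nat.card Q = 1 := by
  ext a
  have h1 : χ (a⁻¹ * χ a) = a⁻¹ * χ a := by
    have := h a
    rw [map_mul]
    have e : χ a⁻¹ * a * χ a⁻¹ * χ (χ a) = (a⁻¹ * χ a)⁻¹ * (χ a⁻¹ * χ (χ a)) := by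
      rw [mul_inv_rev, inv_inv, map_inv]
      group
    rw [e, inv_mul_eq_one] at this
    exact this.symm
  rw [pow_apply_of_fixed χ a h1, pow_card_eq_one', mul_one, MulAut.one_apply]

end Cfsg.Agent.Lib.Helper85
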