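import Cfsg.Agent.Lib.Helper85.PIdxChi
import Cfsg.Agent.Lib.Helper85.FusPStable
import Cfsg.Agent.Lib.Helper88.FusCentric

set_option autoImplicit false

/-! The system `K`, `p`-elements, `T`-centric subgroups (helper85). -/

namespace Cfsg.Agent.Lib.Helper85

open Cfsg Cfsg.FusionSystem Cfsg.Agent.Lib.Helper84

variable {Ω : Type*} [Group Ω] {S : Subgroup Ω}

namespace ChiCtx

variable {p : ℕ} {F : FusionSystem S} {T : Subgroup Ω} {E : FusionSystem T}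
  {Kχ : Subgroup (MulAut T)}

/-- the maps of `F` whose restriction to `T` lies in `D`. -/
def K [Finite S] [Fact p.Prime] (hS : IsPGroup p S) (c : ChiCtx p F T E Kχ) : FusionSystem S :=
  overSystem F c.hT c.D (c.D_conj hS)

theorem K_le [Finite S] [Fact p.Prime] (hS : IsPGroup p S) (c : ChiCtx p F T E Kχ) : c.K hS ≤ F :=
  overSystem_le _ _ _ _

/-- `p`-elements of `Aut_F(P)` lie in `K`. -/
theorem pElt_mem_K [Finite S] [Fact p.Prime] (hS : IsPGroup p S) (c : ChiCtx p F T E Kχ)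
    {P : Subgroup Ω} (hP : P ≤ S) {δ : MulAut P} (hδ : δ ∈ F.autGroup P) {k : ℕ}
    (hk : δ ^ p ^ k = 1) : P.subtype.comp δ.toMonoidHom ∈ (c.K hS).Hom P := by
  have hδF := (mem_autGroup_iff F hP δ).1 hδ
  obtain ⟨P', e, he, s, hs, hes⟩ := exists_conj_to_S F c.hF hP hδ hk
  refine ⟨hδF, ?_⟩
  have heU : (P'.subtype.comp e.toMonoidHom).comp
      (Subgroup.inclusion (inf_le_left : P ⊓ T ≤ P)) ∈ F.Hom (P ⊓ T) := restrict_mem F he _
  obtain ⟨α₁, hα₁, ρ₀, hρ₀, h1⟩ := c.hfrat (P ⊓ T) inf_le_right _ heU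
  have hρT := (E.le_of_mem hρ₀).2
  obtain ⟨κ, hκdef⟩ : ∃ κ : MulAut T,
      κ = α₁⁻¹ * conjAut T s (Helper87.sc_le_normalizer c.hT hs) * α₁ := ⟨_, rfl⟩
  have hκ : κ ∈ Kχ := by
    have := c.hKn α₁⁻¹ (inv_mem hα₁) _ (c.conjAut_mem_K hS hs)
    rw [inv_inv] at this
    rw [hκdef]; exact this
  have hδU : ∀ x : (P ⊓ T : Subgroup Ω), ((δ ⟨x, x.2.1⟩ : P) : Ω) ∈ P ⊓ T :=
    fun x => ⟨(δ _).2, (sc_mem_iff c.hT hδF ⟨x, x.2.1⟩).2 x.2.2⟩
  have key : ∀ x : (P ⊓ T : Subgroup Ω),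
      ρ₀ ⟨δ ⟨x, x.2.1⟩, hδU x⟩ = ((κ ⟨ρ₀ x, hρT x⟩ : T) : Ω) := by
    intro x
    have e1 : ((e ⟨x, x.2.1⟩ : P') : Ω) = ((α₁ ⟨ρ₀ x, hρT x⟩ : T) : Ω) := h1 x (hρT x)
    have e2 : ((e (δ ⟨x, x.2.1⟩) : P') : Ω) = ((α₁ ⟨ρ₀ ⟨δ ⟨x, x.2.1⟩, hδU x⟩, hρT _⟩ : T) : Ω) :=
      h1 ⟨_, hδU x⟩ (hρT _)
    have e3 := hes ⟨x, x.2.1⟩
    have e4 : α₁ ⟨ρ₀ ⟨δ ⟨x, x.2.1⟩, hδU x⟩, hρT _⟩ =
        conjAut T s (Helper87.sc_le_normalizer c.hT hs) (α₁ ⟨ρ₀ x, hρT x⟩) := by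
      apply Subtype.ext
      rw [← e2, e3, e1]
      rfl
    rw [hκdef, MulAut.mul_apply, MulAut.mul_apply, ← e4, MulAut.inv_apply_self]
  have ha : ρ₀ ∈ c.D.Hom (P ⊓ T) := c.E_le_D _ hρ₀
  have hrT : ρ₀.range ≤ T := by
    rintro _ ⟨x, rfl⟩; exact hρT x
  have hb := c.K_restrict hκ hrT
  obtain ⟨ψ, hψ, hψ'⟩ := c.D.inv_mem ha
  have hc1 : (T.subtype.comp κ.toMonoidHom).comp (ρ₀.codRestrict T hρT) ∈ c.D.Hom (P ⊓ T) :=
    comp_mem' c.D ha hb (fun x => ⟨x, rfl⟩) (fun x => rfl)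
  have hr : ∀ x : (P ⊓ T : Subgroup Ω),
      ((T.subtype.comp κ.toMonoidHom).comp (ρ₀.codRestrict T hρT)) x ∈ ρ₀.range := by
    intro x
    exact ⟨_, key x⟩
  refine comp_mem' c.D hc1 hψ hr (fun x => ?_)
  have e5 : (⟨((T.subtype.comp κ.toMonoidHom).comp (ρ₀.codRestrict T hρT)) x, hr x⟩ : ρ₀.range) =
      ⟨ρ₀ ⟨δ ⟨x, x.2.1⟩, hδU x⟩, ⟨_, rfl⟩⟩ := Subtype.ext (key x).symm
  rw [e5, hψ']
  rfl

end ChiCtx

/-- `U ≤ T` contains its centralizer in `T`, and so do its `F`-conjugates. -/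
def TC (F : FusionSystem S) (T U : Subgroup Ω) : Prop :=
  U ≤ T ∧ ∀ U', F.IsConj U U' → centralizerIn T U' ≤ U'

theorem TC.conj {F : FusionSystem S} {T U U' : Subgroup Ω} (hT : F.StronglyClosed T)
    (h : TC F T U) (hc : F.IsConj U U') : TC F T U' := by
  refine ⟨?_, fun _ h' => h.2 _ (isConj_trans hc h')⟩
  obtain ⟨φ, hφ, rfl⟩ := hc
  rintro _ ⟨x, rfl⟩
  exact hT.2 U h.1 φ hφ x

theorem TC.mono {F : FusionSystem S} {T U W : Subgroup Ω} (h : TC F T U) (hUW : U ≤ W)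
    (hWT : W ≤ T) : TC F T W := by
  refine ⟨hWT, ?_⟩
  rintro W' ⟨φ, hφ, rfl⟩
  have h1 := h.2 _ (Helper86.isConj_map F hφ hUW)
  intro c hc
  apply Helper86.map_le_range (Q := U) φ
  apply h1
  refine ⟨hc.1, ?_⟩
  have hc2 : c ∈ Subgroup.centralizer ((φ.range : Subgroup Ω) : Set Ω) := hc.2
  show c ∈ Subgroup.centralizer _
  rw [Subgroup.mem_centralizer_iff] at hc2 ⊢
  intro y hy
  exact hc2 y (Helper86.map_le_range φ hy)

theorem TC.centric {F : FusionSystem S} {T U : Subgroup Ω} (h : TC F T U) {E : FusionSystem T}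
    (hsub : E.IsSubsystemOf F) : E.IsCentric U := by
  refine ⟨h.1, ?_⟩
  rintro Q ⟨φ, hφ, hQ⟩
  exact h.2 Q ⟨φ, hsub U hφ, hQ⟩

theorem isConj_inf {F : FusionSystem S} {T P Q : Subgroup Ω} (hT : F.StronglyClosed T)
    (hc : F.IsConj P Q) : F.IsConj (P ⊓ T) (Q ⊓ T) := by
  obtain ⟨φ, hφ, rfl⟩ := hc
  refine ⟨φ.comp (Subgroup.inclusion inf_le_left), restrict_mem F hφ _, ?_⟩
  ext y
  constructor
  · rintro ⟨x, rfl⟩
    exact ⟨⟨_, rfl⟩, Helper87.sc_map_mem hT hφ _ x.2.2⟩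
  · rintro ⟨⟨x, rfl⟩, hx⟩
    exact ⟨⟨x, x.2, (sc_mem_iff hT hφ x).1 hx⟩, rfl⟩

theorem pCore_map_equiv {X Y : Type*} [Group X] [Group Y] {p : ℕ} (f : X ≃* Y) {A : Subgroup X}
    {B : Subgroup Y} (hAB : A.map f.toMonoidHom = B) {x : X}
    (hx : x ∈ (pCore p A).map A.subtype) : f x ∈ (pCore p B).map B.subtype := by
  obtain ⟨N, hNA, hNp, hNn, hxN⟩ := (mem_pCore_map_iff A x).1 hx
  refine (mem_pCore_map_iff B _).2 ⟨N.map f.toMonoidHom, ?_, hNp.map _, ?_, ⟨x, hxN, rfl⟩⟩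
  · rw [← hAB]; exact Subgroup.map_mono hNA
  · rw [← hAB]
    rintro _ ⟨a, ha, rfl⟩ _ ⟨n, hn, rfl⟩
    exact ⟨a * n * a⁻¹, hNn a ha n hn, by simp⟩

theorem radical_of_mor {p : ℕ} {F : FusionSystem S} {P P' : Subgroup Ω} {e : P ≃* P'}
    (he : Mor F e.toMonoidHom) (hr : F.IsRadical p P) : F.IsRadical p P' := by
  refine ⟨he.symm.le_left, ?_⟩
  ext y
  constructor
  · intro hy
    have h1 := pCore_map_equiv (MulAut.congr e.symm) (map_congr_autGroup he.symm) hy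
    rw [hr.2] at h1
    obtain ⟨g, hg⟩ := h1
    refine ⟨e g, ?_⟩
    ext x
    have h2 := DFunLike.congr_fun hg (e.symm x)
    simp only [MulAut.conj_apply, MulAut.congr_apply, MulEquiv.trans_apply, MulEquiv.symm_symm,
      MulEquiv.apply_symm_apply] at h2
    have h3 := congrArg e h2
    simp only [map_mul, map_inv, MulEquiv.apply_symm_apply] at h3
    rw [MulAut.conj_apply, h3]
  · rintro ⟨g, rfl⟩
    have h1 : MulAut.conj (e.symm g) ∈ (pCore p (F.autGroup P)).map (F.autGroup P).subtype := by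
      rw [hr.2]; exact ⟨_, rfl⟩
    have h2 := pCore_map_equiv (MulAut.congr e) (map_congr_autGroup he) h1
    have h3 : MulAut.congr e (MulAut.conj (e.symm g)) = MulAut.conj g := by
      ext x
      simp [MulAut.congr_apply]
    rwa [h3] at h2

theorem radical_of_isConj {p : ℕ} {F : FusionSystem S} {P P' : Subgroup Ω}
    (hc : F.IsConj P P') (hr : F.IsRadical p P) : F.IsRadical p P' := by
  obtain ⟨e, he⟩ := (isConj_iff F).1 hc
  exact radical_of_mor he hr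

/-- Step 1 of: `P ⊓ T` is `T`-centric for `P` centric radical. -/
theorem cent_le_of_centric_radical [Finite S] {p : ℕ} [Fact p.Prime] (hS : IsPGroup p S)
    (F : FusionSystem S) {T : Subgroup Ω} (hT : F.StronglyClosed T) {P : Subgroup Ω}
    (hc : F.IsCentric P) (hr : F.IsRadical p P) : centralizerIn T (P ⊓ T) ≤ P ⊓ T := by
  have hPS := hc.1
  suffices h : centralizerIn T (P ⊓ T) ≤ P from le_inf h inf_le_left
  by_contra hnot
  have hconj : ∀ x ∈ P, ∀ c ∈ centralizerIn T (P ⊓ T), x * c * x⁻¹ ∈ centralizerIn T (P ⊓ T) := by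
    intro x hx c hc'
    refine ⟨Helper87.sc_conj_mem hT (hPS hx) hc'.1, ?_⟩
    apply Subgroup.mem_centralizer_iff.2
    intro y hy
    have hy' : x⁻¹ * y * x ∈ P ⊓ T := by
      refine ⟨P.mul_mem (P.mul_mem (P.inv_mem hx) hy.1) hx, ?_⟩
      have := Helper87.sc_conj_mem hT (S.inv_mem (hPS hx)) hy.2
      rwa [inv_inv] at this
    have h1 := Subgroup.mem_centralizer_iff.1 hc'.2 _ hy'
    calc y * (x * c * x⁻¹) = x * ((x⁻¹ * y * x) * c) * x⁻¹ := by group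
      _ = x * c * x⁻¹ * y := by rw [h1]; group
  have hN : P ≤ Subgroup.normalizer ((centralizerIn T (P ⊓ T) : Subgroup Ω) : Set Ω) := by
    intro x hx
    apply mem_normalizer_of_conj_mem
    · exact hconj x hx
    · intro c hc'
      have := hconj x⁻¹ (P.inv_mem hx) c hc'
      rwa [inv_inv] at this
  obtain ⟨u, hu, huN, huP⟩ := Helper87.exists_mem_normalizing_not_mem hS
    (inf_le_left.trans hT.1) hPS hN hnot
  apply huP
  have hQ : ∀ α ∈ F.autGroup P, ∀ x : P, ((α x : P) : Ω) ∈ P ↔ (x : Ω) ∈ P :=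
    fun α _ x => ⟨fun _ => x.2, fun _ => (α x).2⟩
  have hR : ∀ α ∈ F.autGroup P, ∀ x : P, ((α x : P) : Ω) ∈ P ⊓ T ↔ (x : Ω) ∈ P ⊓ T := by
    intro α hα x
    have h1 := sc_mem_iff hT ((mem_autGroup_iff F hPS α).1 hα) x
    exact ⟨fun h => ⟨x.2, h1.1 h.2⟩, fun h => ⟨(α x).2, h1.2 h.2⟩⟩
  refine mem_of_radical_centric F hc hr (hT.1 hu.1) huN
    (chainStab (F.autGroup P) (P ⊓ T) P inf_le_left hQ hR) (chainStab_normal _ _ _ _ _ _)
    (chainStab_isPGroup hS hPS _ _ _ _ le_rfl (Helper86.centric_self_le F hc)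
      (fun x hx q hq => P.mul_mem (P.mul_mem hx hq) (P.inv_mem hx)) _ _) ?_
  intro h x
  refine ⟨fun hx => ?_, fun _ => ?_⟩
  · apply Subtype.ext
    show u * (x : Ω) * u⁻¹ = x
    rw [← Subgroup.mem_centralizer_iff.1 hu.2 _ hx, mul_inv_cancel_right]
  · show (x : Ω)⁻¹ * (u * (x : Ω) * u⁻¹) ∈ P ⊓ T
    refine ⟨P.mul_mem (P.inv_mem x.2) (conj_mem_of_mem_normalizer huN x.2), ?_⟩
    have h1 := Helper87.sc_conj_mem hT (S.inv_mem (hPS x.2)) hu.1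
    rw [inv_inv] at h1
    have h2 := T.mul_mem h1 (T.inv_mem hu.1)
    have h3 : (x : Ω)⁻¹ * (u * (x : Ω) * u⁻¹) = (x : Ω)⁻¹ * u * (x : Ω) * u⁻¹ := by group
    rw [h3]; exact h2

end Cfsg.Agent.Lib.Helper85
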