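import Cfsg.Agent.Lib.Helper85.FusInvCore
import Cfsg.Agent.Lib.Helper88.FusCentric

set_option autoImplicit false

/-! Subsystems containing `O^{p'}(Aut_F(P))` for all centric `P` (helper85). -/

namespace Cfsg.Agent.Lib.Helper85

open Cfsg Cfsg.FusionSystem Cfsg.Agent.Lib.Helper84

section pElt

variable {X : Type*} [Group X]

/-- the subgroup of `A` generated by its elements of `p`-power order, inside the ambient group. -/
def pElt (p : ℕ) (A : Subgroup X) : Subgroup X :=
  Subgroup.closure {a | a ∈ A ∧ ∃ k : ℕ, orderOf a = p ^ k}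

theorem map_closure_pElt (p : ℕ) (A : Subgroup X) :
    (Subgroup.closure {α : A | ∃ k : ℕ, orderOf α = p ^ k}).map A.subtype = pElt p A := by
  unfold pElt
  rw [MonoidHom.map_closure]
  congr 1
  ext a
  constructor
  · rintro ⟨α, ⟨k, hk⟩, rfl⟩
    exact ⟨α.2, k, by rw [← hk]; exact Subgroup.orderOf_coe α⟩
  · rintro ⟨ha, k, hk⟩
    exact ⟨⟨a, ha⟩, ⟨k, by rw [← hk, ← Subgroup.orderOf_coe]⟩, rfl⟩

theorem pElt_le (p : ℕ) (A : Subgroup X) : pElt p A ≤ A := by
  unfold pElt
  rw [Subgroup.closure_le]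
  exact fun a ha => ha.1

theorem mem_pElt {p : ℕ} {A : Subgroup X} {a : X} (ha : a ∈ A) {k : ℕ} (hk : orderOf a = p ^ k) :
    a ∈ pElt p A := Subgroup.subset_closure ⟨ha, k, hk⟩

theorem mem_pElt_of_pow {p : ℕ} [hp : Fact p.Prime] {A : Subgroup X} {a : X} (ha : a ∈ A) {k : ℕ}
    (hk : a ^ p ^ k = 1) : a ∈ pElt p A := by
  obtain ⟨j, -, hj⟩ := (Nat.dvd_prime_pow hp.out).mp (orderOf_dvd_of_pow_eq_one hk)
  exact mem_pElt ha hj

theorem le_normalizer_pElt [Finite X] (p : ℕ) (A : Subgroup X) :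
    A ≤ Subgroup.normalizer ((pElt p A : Subgroup X) : Set X) := by
  intro g hg
  apply mem_normalizer_of_finite
  have : (pElt p A).map (MulAut.conj g).toMonoidHom ≤ pElt p A := by
    unfold pElt
    rw [MonoidHom.map_closure, Subgroup.closure_le]
    rintro _ ⟨a, ⟨ha, k, hk⟩, rfl⟩
    refine Subgroup.subset_closure ⟨A.mul_mem (A.mul_mem hg ha) (A.inv_mem hg), k, ?_⟩
    rw [← hk]
    exact (MulAut.conj g).orderOf_eq a
  intro b hb
  exact this ⟨b, hb, rfl⟩

theorem le_pElt_of_isPGroup {p : ℕ} [Fact p.Prime] {A U : Subgroup X} (hU : U ≤ A)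
    (hp : IsPGroup p U) : U ≤ pElt p A := by
  intro u hu
  obtain ⟨k, hk⟩ := hp ⟨u, hu⟩
  exact mem_pElt_of_pow (hU hu) (k := k) (congrArg Subtype.val hk)

end pElt

variable {Ω : Type*} [Group Ω] {S : Subgroup Ω}

theorem centric_of_fullyCentralized [Finite S] {F : FusionSystem S} {R : Subgroup Ω}
    (hR : F.IsFullyCentralized R) (hcen : centralizerIn S R ≤ R) : F.IsCentric R := by
  refine ⟨hR.1, fun Q hQ => ?_⟩
  obtain ⟨e, he⟩ := (isConj_iff F).1 hQ
  have hQS : Q ≤ S := isConj_le_right hQ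
  have hmem : ∀ c : centralizerIn S R, ((e ⟨c, hcen c.2⟩ : Q) : Ω) ∈ Q ⊓ centralizerIn S Q := by
    intro c
    refine ⟨(e _).2, hQS (e _).2, ?_⟩
    show ((e ⟨c, hcen c.2⟩ : Q) : Ω) ∈ Subgroup.centralizer (Q : Set Ω)
    rw [Subgroup.mem_centralizer_iff]
    intro y hy
    have h1 : (e.symm ⟨y, hy⟩ : R) * ⟨c, hcen c.2⟩ = ⟨c, hcen c.2⟩ * e.symm ⟨y, hy⟩ :=
      Subtype.ext (Subgroup.mem_centralizer_iff.mp c.2.2 _ (e.symm ⟨y, hy⟩).2)
    have h2 := congrArg (fun z => ((e z : Q) : Ω)) h1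
    simpa using h2
  have hfin : Finite (centralizerIn S Q) := finite_of_le (centralizerIn_le S Q)
  have hcard : Nat.card (centralizerIn S R) ≤ Nat.card (Q ⊓ centralizerIn S Q : Subgroup Ω) := by
    have : Finite (Q ⊓ centralizerIn S Q : Subgroup Ω) := finite_of_le (inf_le_left.trans hQS)
    apply Nat.card_le_card_of_injective (fun c => (⟨_, hmem c⟩ : (Q ⊓ centralizerIn S Q : Subgroup Ω)))
    intro a b hab
    have h1 : ((e ⟨a, hcen a.2⟩ : Q) : Ω) = e ⟨b, hcen b.2⟩ :=
      congrArg (Subtype.val : (Q ⊓ centralizerIn S Q : Subgroup Ω) → Ω) hab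
    have h2 := e.injective (Subtype.ext h1)
    exact Subtype.ext (congrArg (Subtype.val : R → Ω) h2)
  have heq : Q ⊓ centralizerIn S Q = centralizerIn S Q :=
    Subgroup.eq_of_le_of_card_ge inf_le_right ((hR.2 Q hQ).trans hcard)
  rw [← heq]
  exact inf_le_left

/-- An automorphism of a receptive `R` whose extender is larger than `R` lies in `𝒢`, if all maps on larger
subgroups do. -/
theorem aut_mem_of_extender [Finite S] (F 𝒢 : FusionSystem S) {R : Subgroup Ω}
    (hRr : F.IsReceptive R)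
    (ih : ∀ Q' : Subgroup Ω, Q' ≤ S → Nat.card R < Nat.card Q' → F.Hom Q' ⊆ 𝒢.Hom Q')
    {ν : MulAut R} (hν : ν ∈ F.autGroup R) {g : Ω}
    (hg : g ∈ extender S R (R.subtype.comp ν.toMonoidHom)) (hgR : g ∉ R) : ν ∈ 𝒢.autGroup R := by
  have hRS := hRr.1
  rw [mem_autGroup_iff _ hRS]
  have hνF := (mem_autGroup_iff F hRS ν).1 hν
  have hrange : (R.subtype.comp ν.toMonoidHom).range = R := range_subtype_comp_equiv ν
  obtain ⟨ψ, hψ, hψ'⟩ := hRr.2 R _ hνF hrange
  have hRle : R ≤ extender S R (R.subtype.comp ν.toMonoidHom) :=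
    le_extender hRS _ (F.le_of_mem hνF).2
  have hlt : R < extender S R (R.subtype.comp ν.toMonoidHom) :=
    lt_of_le_of_ne hRle (fun h => hgR (h ▸ hg))
  have hextS : extender S R (R.subtype.comp ν.toMonoidHom) ≤ S :=
    (extender_le S R _).trans (normalizerIn_le S R)
  have : Finite (extender S R (R.subtype.comp ν.toMonoidHom)) := finite_of_le hextS
  have hψE := ih _ hextS (card_lt_card_of_lt hlt) hψ
  exact mem_of_eq_on _ hψE hRle (fun x => (hψ' x x.2 (hRle x.2)).symm)

/-- an element of `N_S(R)` lies in the extender of `ν` if `ν` normalizes `Aut_S(R)`. -/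
theorem mem_extender_of_normalizes {R : Subgroup Ω} {ν : MulAut R}
    (hνN : ν ∈ Subgroup.normalizer ((autInducedBy S R : Subgroup (MulAut R)) : Set (MulAut R)))
    {g : Ω} (hgS : g ∈ S) (hgN : g ∈ Subgroup.normalizer (R : Set Ω)) :
    g ∈ extender S R (R.subtype.comp ν.toMonoidHom) := by
  rw [mem_extender_iff]
  refine ⟨hgS, hgN, ?_⟩
  have hc : conjAut R g hgN ∈ autInducedBy S R := conjAut_mem_autInducedBy hgN hgS
  have h2 := ((Subgroup.mem_normalizer_iff.mp hνN) _).mp hc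
  obtain ⟨h, hhS, hh⟩ := (Helper84.mem_autInducedBy_iff S R _).1 h2
  refine ⟨h, hhS, fun x hx => ?_⟩
  have h3 := hh (ν x)
  simp only [MulAut.mul_apply, MulAut.inv_apply_self] at h3
  exact h3

theorem pElt_le_invCore {p : ℕ} (F E : FusionSystem S)
    (h : ∀ P : Subgroup Ω, F.IsCentric P → pElt p (F.autGroup P) ≤ E.autGroup P)
    {R : Subgroup Ω} (hR : F.IsCentric R) :
    pElt p (F.autGroup R) ≤ (invCore E (F.autGroup S)).autGroup R := by
  have hRS := hR.1
  unfold pElt
  rw [Subgroup.closure_le]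
  rintro δ ⟨hδ, k, hk⟩
  rw [SetLike.mem_coe, mem_autGroup_iff _ hRS]
  refine ⟨(mem_autGroup_iff E hRS δ).1 (h R hR (mem_pElt hδ hk)), fun α hα P' hcov => ?_⟩
  have hαF := (mem_autGroup_iff F le_rfl α).1 hα
  obtain ⟨R', hR'⟩ : ∃ R', (R.subgroupOf S).map (S.subtype.comp α.toMonoidHom) = R' := ⟨_, rfl⟩
  have he := mor_restrictEquiv F hαF hRS hR'
  set e := restrictEquiv (S.subtype.comp α.toMonoidHom) (F.injective_of_mem hαF) hRS hR' with hedef
  have hR'c : F.IsCentric R' := Helper88.centric_of_isConj hR ((isConj_iff F).2 ⟨e, he⟩)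
  have hδ' : MulAut.congr e δ ∈ E.autGroup R' := by
    apply h R' hR'c
    refine mem_pElt (congr_mem_autGroup he hδ) (k := k) ?_
    rw [← hk]
    exact (MulAut.congr e).orderOf_eq δ
  have hle : P' ≤ R' := by
    intro y hy
    obtain ⟨x, hx, hxS, rfl⟩ := hcov y hy
    rw [← hR']
    exact ⟨⟨x, hxS⟩, hx, rfl⟩
  refine ⟨_, restrict_mem E ((mem_autGroup_iff E hR'c.1 _).1 hδ') hle, ?_⟩
  intro x y hx hφ hy
  have e1 : Subgroup.inclusion hle y = e x := Subtype.ext hy
  rw [MonoidHom.comp_apply, e1]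
  show (((MulAut.congr e δ) (e x) : R') : Ω) = _
  rw [MulAut.congr_apply, MulEquiv.trans_apply, MulEquiv.trans_apply, MulEquiv.symm_apply_apply]
  rfl

/-- Every map of `F` is an element of `Aut_F(S)` composed with a map of (the invariant core of) `E`. -/
theorem le_frattini_of_centric [Finite S] {p : ℕ} [Fact p.Prime] (hS : IsPGroup p S)
    (F : FusionSystem S) (hF : F.IsSaturated p) (E : FusionSystem S)
    (h : ∀ P : Subgroup Ω, F.IsCentric P → pElt p (F.autGroup P) ≤ E.autGroup P) :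
    F ≤ frattiniSystem (invCore E (F.autGroup S)) (F.autGroup S) (autInv_invCore _ _) := by
  apply le_of_aut_induction hS F hF
  · intro φ hφ
    have hrange := range_eq_of_card F hφ
    have hα : equivOfRange φ (F.injective_of_mem hφ) hrange ∈ F.autGroup S :=
      (mem_autGroup_iff F le_rfl _).2 (mor_equivOfRange F hφ hrange)
    exact ⟨_, hα, S.subtype, subtype_mem _ le_rfl, fun x hx => rfl⟩
  · intro R hR hRS ih
    obtain ⟨hRc, hRa, hRr⟩ := sat_fullyNormalized hS hF hR
    by_cases hcen : centralizerIn S R ≤ R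
    · have hRcen : F.IsCentric R := centric_of_fullyCentralized hRc hcen
      have hfin : Finite (MulAut R) := finite_mulAut_of_le hR.1
      have hSyl : SylIn p (autInducedBy S R) (F.autGroup R) := hRa.2
      have hAB : autInducedBy S R ≤ pElt p (F.autGroup R) :=
        le_pElt_of_isPGroup (autInducedBy_le_autGroup F hR.1) (isPGroup_autInducedBy hS R)
      have hSylB := hSyl.of_le hAB (pElt_le p _)
      intro γ hγ
      obtain ⟨b, hb, ν, hν, hνN, rfl⟩ :=
        hSylB.frattini hAB (pElt_le p _) (le_normalizer_pElt p _) hγ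
      refine Subgroup.mul_mem _ ?_ ?_
      · rw [mem_autGroup_iff _ hR.1]
        exact le_frattiniSystem _ _ _ R
          ((mem_autGroup_iff _ hR.1 b).1 (pElt_le_invCore F E h hRcen hb))
      · obtain ⟨g, hg, hgR⟩ := SetLike.exists_of_lt (lt_normalizerIn hS hRS)
        exact aut_mem_of_extender F _ hRr ih hν (mem_extender_of_normalizes hνN hg.1 hg.2) hgR
    · obtain ⟨c, hc, hcR⟩ := SetLike.not_le_iff_exists.mp hcen
      intro ν hν
      exact aut_mem_of_extender F _ hRr ih hν (centralizerIn_le_extender _ hc) hcR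

end Cfsg.Agent.Lib.Helper85
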