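import Cfsg.Agent.Lib.Helper85.PIdxFrat
import Cfsg.Agent.Lib.Helper85.FusPIndex

set_option autoImplicit false

/-! The `p'`-residual subsystem: candidate and hypotheses of the saturation criterion (helper85). -/

namespace Cfsg.Agent.Lib.Helper85

open Cfsg Cfsg.FusionSystem Cfsg.Agent.Lib.Helper84

variable {Ω : Type*} [Group Ω] {S : Subgroup Ω}

/-- the intersection of all saturated subsystems of index prime to `p`. -/
def interSystem (F : FusionSystem S) (p : ℕ) : FusionSystem S where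
  Hom P := {φ | φ ∈ F.Hom P ∧
    ∀ D : FusionSystem S, D.IsSaturated p → D.HasPrimeToPIndexIn F p → φ ∈ D.Hom P}
  le_of_mem h := F.le_of_mem h.1
  injective_of_mem h := F.injective_of_mem h.1
  conj_mem := fun hP hg => ⟨F.conj_mem hP hg, fun D _ _ => D.conj_mem hP hg⟩
  comp_mem := fun hφ hψ h =>
    ⟨F.comp_mem hφ.1 hψ.1 h, fun D h1 h2 => D.comp_mem (hφ.2 D h1 h2) (hψ.2 D h1 h2) h⟩
  inv_mem := by
    intro P φ hφ
    obtain ⟨ψ, hψ, hψ'⟩ := F.inv_mem hφ.1
    refine ⟨ψ, ⟨hψ, fun D h1 h2 => ?_⟩, hψ'⟩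
    obtain ⟨ψ₂, hψ₂, hψ₂'⟩ := D.inv_mem (hφ.2 D h1 h2)
    have : ψ = ψ₂ := by
      ext ⟨_, x, rfl⟩
      rw [hψ', hψ₂']
    rw [this]; exact hψ₂

/-- the candidate for `O^{p'}(F)`. -/
def resSystem (F : FusionSystem S) (p : ℕ) : FusionSystem S :=
  genSystem (interSystem F p) {P | F.IsCentric P}

theorem resSystem_le_inter (F : FusionSystem S) (p : ℕ) : resSystem F p ≤ interSystem F p :=
  genSystem_le _ _

theorem resSystem_le (F : FusionSystem S) (p : ℕ) : resSystem F p ≤ F :=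
  fun P _ h => (resSystem_le_inter F p P h).1

theorem resSystem_min (F : FusionSystem S) (p : ℕ) (D : FusionSystem S) (h1 : D.IsSaturated p)
    (h2 : D.HasPrimeToPIndexIn F p) : (resSystem F p).IsSubsystemOf D :=
  fun P _ h => (resSystem_le_inter F p P h).2 D h1 h2

theorem pElt_le_inter (F : FusionSystem S) (p : ℕ) {P : Subgroup Ω} (hP : P ≤ S) :
    pElt p (F.autGroup P) ≤ (interSystem F p).autGroup P := by
  intro δ hδ
  rw [mem_autGroup_iff _ hP]
  refine ⟨(mem_autGroup_iff F hP δ).1 (pElt_le p _ hδ), fun D _ h2 => ?_⟩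
  have h3 := h2.2 P hP
  rw [map_closure_pElt] at h3
  exact (mem_autGroup_iff D hP δ).1 (h3 hδ)

variable [Finite S] {p : ℕ} [Fact p.Prime] (hS : IsPGroup p S) (F : FusionSystem S)
  (hF : F.IsSaturated p)

include hS hF

theorem resSystem_main :
    (∀ P : Subgroup Ω, P ≤ S → pElt p (F.autGroup P) ≤ (resSystem F p).autGroup P) ∧
    FratProp F (resSystem F p) ∧ ∀ P : Subgroup Ω, (resSystem F p).IsCentric P ↔ F.IsCentric P := by
  apply primeIdx_main hS F hF (resSystem F p) (resSystem_le F p)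
  intro P hP
  have h1 : (resSystem F p).autGroup P = (interSystem F p).autGroup P :=
    genSystem_autGroup _ _ hP
  rw [h1]
  exact pElt_le_inter F p hP.1

theorem resSystem_primeIdx : (resSystem F p).HasPrimeToPIndexIn F p := by
  refine ⟨resSystem_le F p, fun P hP => ?_⟩
  rw [map_closure_pElt]
  exact (resSystem_main hS F hF).1 P hP

theorem resSystem_conj : ∀ P ∈ {P | F.IsCentric P}, ∀ Q, (resSystem F p).IsConj P Q →
    Q ∈ {P | F.IsCentric P} :=
  fun _ hP _ h => Helper88.centric_of_isConj hP (Helper88.isConj_of_le (resSystem_le F p) h)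

theorem resSystem_gen : ∀ E' : FusionSystem S,
    (∀ P ∈ {P | F.IsCentric P}, (resSystem F p).Hom P ⊆ E'.Hom P) → resSystem F p ≤ E' :=
  fun E' h => genSystem_gen _ _ E' h

theorem resSystem_sat : ∀ P ∈ {P | F.IsCentric P}, ∃ Q, (resSystem F p).IsConj P Q ∧
    (resSystem F p).IsFullyAutomized p Q ∧ (resSystem F p).IsReceptive Q := by
  intro P hP
  obtain ⟨Q, hPQ, hQfn⟩ := exists_fn_conj F (resSystem F p) (resSystem_main hS F hF).2.1
    (resSystem_le F p) hP.1
  have hQH : F.IsCentric Q := resSystem_conj hS F hF P hP Q hPQ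
  obtain ⟨-, hQa, hQr⟩ := sat_fullyNormalized hS hF hQfn
  have hQS := hQfn.1
  have hfin : Finite (MulAut Q) := finite_mulAut_of_le hQS
  refine ⟨Q, hPQ, ⟨hQS, ?_⟩, hQS, ?_⟩
  · have hSyl : SylIn p (autInducedBy S Q) (F.autGroup Q) := hQa.2
    exact hSyl.of_le (autInducedBy_le_autGroup _ hQS)
      (autGroup_le_of_subsystem (resSystem_le F p) hQS)
  · intro P' φ hφ hr
    have hφF := resSystem_le F p _ hφ
    obtain ⟨ψ, hψ, hψ'⟩ := hQr.2 P' φ hφF hr
    have hP'H : F.IsCentric P' := Helper88.centric_of_isConj hQH (isConj_symm ⟨φ, hφF, hr⟩)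
    have hle : P' ≤ extender S P' φ := le_extender hP'H.1 φ (F.le_of_mem hφF).2
    have hextS : extender S P' φ ≤ S := (extender_le S P' φ).trans (normalizerIn_le S P')
    have hextH : F.IsCentric (extender S P' φ) := Helper86.centric_of_le F hP'H hle hextS
    refine ⟨ψ, le_genSystem _ _ hextH ⟨hψ, fun D h1 h2 => ?_⟩, hψ'⟩
    refine Helper88.mem_of_restrict_centric_mem hS hF h1 h2.1 hψ _ P' hle hP'H le_rfl ?_
    have h3 := (resSystem_le_inter F p _ hφ).2 D h1 h2
    exact mem_of_eq_on D h3 le_rfl (fun x => hψ' x x.2 _)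

theorem resSystem_star : ∀ P : Subgroup Ω, (resSystem F p).IsCentric P → P ∉ {P | F.IsCentric P} →
    ∃ Q, (resSystem F p).IsConj P Q ∧
    ¬ (autInducedBy S Q ⊓ (pCore p ↥((resSystem F p).autGroup Q)).map
      ((resSystem F p).autGroup Q).subtype ≤ Inn Q) :=
  fun P hP hP' => absurd (((resSystem_main hS F hF).2.2 P).1 hP) hP'

theorem resSystem_isResidual (hsat : (resSystem F p).IsSaturated p) :
    F.IsPPrimeResidual p (resSystem F p) :=
  ⟨hsat, resSystem_primeIdx hS F hF, fun D h1 h2 => resSystem_min F p D h1 h2⟩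

end Cfsg.Agent.Lib.Helper85
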