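import Cfsg.Agent.Lib.Helper85.SatNormal3

set_option autoImplicit false

/-! Saturation criterion, the case of a subgroup preserved by all maps (BCGLO1 Lemma 2.4) (helper85). -/

namespace Cfsg.Agent.Lib.Helper85

open Cfsg Cfsg.FusionSystem Cfsg.Agent.Lib.Helper84

variable {Ω : Type*} [Group Ω] {S : Subgroup Ω}

namespace NormCtx

variable {p : ℕ} [Fact p.Prime] {F : FusionSystem S} {P : Subgroup Ω} [Finite S]
  (hS : IsPGroup p S) (c : NormCtx p F P)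

include hS c

theorem aut_le_XX
    (hgen : ∀ α ∈ F.autGroup P, α ∈ Subgroup.closure {α : MulAut P | ∃ (R : Subgroup Ω)
      (hPR : P < R) (φ : R →* Ω), φ ∈ F.Hom R ∧ ∀ x : P, φ ⟨x, hPR.le x.2⟩ = α x}) :
    F.autGroup P ≤ XX p F P (c.le_U hS) := by
  intro α hα
  refine (Subgroup.closure_le _).2 ?_ (hgen α hα)
  rintro α' ⟨R, hPR, φ, hφ, hφ'⟩
  obtain ⟨α'', hα'', h2⟩ := c.good_all hS (Nat.card S) R hPR (F.le_of_mem hφ).1
    (Nat.le_add_left _ _) φ hφ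
  have : α' = α'' := by
    ext x
    rw [← hφ' x, h2 x (hPR.le x.2)]
  rw [SetLike.mem_coe, this]; exact hα''

theorem U_good (hlt : P < U p F P) :
    F.IsFullyAutomized p (U p F P) ∧ F.IsReceptive (U p F P) := by
  obtain ⟨Q, hc, ha, hr⟩ := c.hgood _ U_le hlt
  obtain ⟨φ, hφ, hφr⟩ := hc
  have h1 := c.map_U_eq hS le_rfl hφ
  have h2 : Q = U p F P := by
    refine hφr.symm.trans (Eq.trans ?_ h1)
    ext y
    constructor
    · rintro ⟨x, rfl⟩; exact ⟨x, rfl⟩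
    · rintro ⟨x, rfl⟩; exact ⟨_, rfl⟩
  rw [h2] at ha hr
  exact ⟨ha, hr⟩

theorem P_fullyAutomized (hlt : P < U p F P) (hXX : F.autGroup P ≤ XX p F P (c.le_U hS)) :
    F.IsFullyAutomized p P := by
  obtain ⟨Q', rfl, -, -, h⟩ := exists_fullyAutomized_image hS F (c.U_good hS hlt).1 (c.le_U hS)
    (fun Q => Q = P) rfl
    (by
      rintro Q' rfl γ hγ
      exact c.hn _ (c.le_U hS) _ ((mem_autGroup_iff F U_le γ).1 hγ))
    (by
      rintro Q' rfl hQ' α hα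
      exact hXX hα)
    (by
      rintro Q' rfl - g hg
      exact ⟨hg.1, c.U_normal hg.1⟩)
  exact h

theorem P_receptive (hlt : P < U p F P) (hXX : F.autGroup P ≤ XX p F P (c.le_U hS)) :
    F.IsReceptive P := by
  obtain ⟨hUa, hUr⟩ := c.U_good hS hlt
  have hPU := c.le_U hS
  have hUS : U p F P ≤ S := U_le
  have hfin : Finite (MulAut (U p F P)) := finite_mulAut_of_le hUS
  refine ⟨c.hPS, fun Q φ hφ hr => ?_⟩
  obtain ⟨ψ₀, hψ₀, -, hψ₀r, -⟩ := inv_mem' F hφ hr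
  have hQP : Q = P := by
    refine hψ₀r.symm.trans (Eq.trans ?_ (c.hn P le_rfl ψ₀ hψ₀))
    ext y
    constructor
    · rintro ⟨x, rfl⟩; exact ⟨x, x.2, rfl⟩
    · rintro ⟨x, -, rfl⟩; exact ⟨x, rfl⟩
  subst hQP
  have hα : equivOfRange φ (F.injective_of_mem hφ) hr ∈ F.autGroup Q :=
    (mem_autGroup_iff F c.hPS _).2 (mor_equivOfRange F hφ hr)
  obtain ⟨β, hβ, hβ'⟩ := hXX hα
  have hβφ : ∀ x : Q, ((β ⟨x, hPU x.2⟩ : U p F Q) : Ω) = φ x := hβ'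
  have hφQ : ∀ x : Q, φ x ∈ Q := fun x => hr.le ⟨x, rfl⟩
  have hNS : extender S Q φ ≤ S := (extender_le S Q φ).trans (normalizerIn_le S Q)
  -- the group `M'`
  have hSyl : SylIn p (autInducedBy S (U p F Q)) (F.autGroup (U p F Q)) := hUa.2
  have hTM : autInducedBy S (U p F Q) ≤
      F.autGroup (U p F Q) ⊓ liftSub hPU (autInducedBy S Q) := by
    intro a ha
    refine ⟨autInducedBy_le_autGroup F hUS ha, ?_⟩
    obtain ⟨s, hs, hs'⟩ := (Helper84.mem_autInducedBy_iff _ _ _).1 ha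
    exact ⟨conjAut Q s (c.le_normalizer hs), conjAut_mem_autInducedBy _ hs,
      fun x => hs' ⟨x, hPU x.2⟩⟩
  have hSylM := hSyl.of_le hTM inf_le_left
  have hXM : (autInducedBy (extender S Q φ) (U p F Q)).map (MulAut.conj β).toMonoidHom ≤
      F.autGroup (U p F Q) ⊓ liftSub hPU (autInducedBy S Q) := by
    rintro _ ⟨a, ha, rfl⟩
    obtain ⟨g, hg, hg'⟩ := (Helper84.mem_autInducedBy_iff _ _ _).1 ha
    obtain ⟨hgS, hgN, h, hhS, hh⟩ := (mem_extender_iff S Q φ g).1 hg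
    have haF : a ∈ F.autGroup (U p F Q) :=
      autInducedBy_le_autGroup F hUS ((Helper84.mem_autInducedBy_iff _ _ _).2 ⟨g, hgS, hg'⟩)
    refine ⟨Subgroup.mul_mem _ (Subgroup.mul_mem _ hβ haF) (Subgroup.inv_mem _ hβ),
      conjAut Q h (c.le_normalizer hhS), conjAut_mem_autInducedBy _ hhS, fun x => ?_⟩
    obtain ⟨y, hy⟩ : ∃ y : Q, φ y = x := by
      have : (x : Ω) ∈ φ.range := hr.ge x.2
      exact this
    have hx : β ⟨y, hPU y.2⟩ = ⟨x, hPU x.2⟩ := Subtype.ext ((hβφ y).trans hy)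
    show ((β (a (β⁻¹ ⟨x, hPU x.2⟩)) : U p F Q) : Ω) = h * x * h⁻¹
    rw [← hx, MulAut.inv_apply_self]
    have hgy : g * (y : Ω) * g⁻¹ ∈ Q := conj_mem_of_mem_normalizer hgN y.2
    have h1 : a ⟨y, hPU y.2⟩ = ⟨g * (y : Ω) * g⁻¹, hPU hgy⟩ := Subtype.ext (hg' _)
    rw [h1]
    have h2 := hβφ ⟨_, hgy⟩
    rw [h2, hh y hgy, hy]
  have hXp : IsPGroup p
      ((autInducedBy (extender S Q φ) (U p F Q)).map (MulAut.conj β).toMonoidHom) :=
    (isPGroup_autInducedBy (hS.to_le hNS) _).map _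
  obtain ⟨m, hm, hmX⟩ := hSylM.exists_conj_le hXM hXp
  obtain ⟨αm, hαm, hαm'⟩ := hm.2
  obtain ⟨s, hs, hs'⟩ := (Helper84.mem_autInducedBy_iff _ _ _).1 hαm
  have ht : conjAut (U p F Q) s (c.U_normal hs) ∈ autInducedBy S (U p F Q) :=
    conjAut_mem_autInducedBy _ hs
  obtain ⟨t, htdef⟩ : ∃ t : MulAut (U p F Q), t = conjAut (U p F Q) s (c.U_normal hs) := ⟨_, rfl⟩
  rw [← htdef] at ht
  obtain ⟨θ, hθdef⟩ : ∃ θ : MulAut (U p F Q), θ = t⁻¹ * m * β := ⟨_, rfl⟩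
  have hθF : θ ∈ F.autGroup (U p F Q) := by
    rw [hθdef]
    exact Subgroup.mul_mem _ (Subgroup.mul_mem _
      (Subgroup.inv_mem _ (autInducedBy_le_autGroup F hUS ht)) hm.1) hβ
  have hθφ : ∀ x : Q, ((θ ⟨x, hPU x.2⟩ : U p F Q) : Ω) = φ x := by
    intro x
    have h1 : β ⟨x, hPU x.2⟩ = ⟨φ x, hPU (hφQ x)⟩ := Subtype.ext (hβφ x)
    have h2 : m ⟨φ x, hPU (hφQ x)⟩ = t ⟨φ x, hPU (hφQ x)⟩ := by
      apply Subtype.ext
      rw [hαm' ⟨φ x, hφQ x⟩, hs', htdef]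
      rfl
    rw [hθdef, MulAut.mul_apply, MulAut.mul_apply, h1, h2, MulAut.inv_apply_self]
  have hθF' : (U p F Q).subtype.comp θ.toMonoidHom ∈ F.Hom (U p F Q) :=
    (mem_autGroup_iff F hUS θ).1 hθF
  obtain ⟨ψ, hψ, hψ'⟩ := hUr.2 _ _ hθF' (range_subtype_comp_equiv θ)
  have hNle : extender S Q φ ≤ extender S (U p F Q) ((U p F Q).subtype.comp θ.toMonoidHom) := by
    intro g hg
    have hgS := hNS hg
    have hgU := c.U_normal hgS
    rw [mem_extender_iff]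
    refine ⟨hgS, hgU, ?_⟩
    have h1 : m * (β * conjAut (U p F Q) g hgU * β⁻¹) * m⁻¹ ∈ autInducedBy S (U p F Q) :=
      hmX ⟨_, ⟨_, conjAut_mem_autInducedBy hgU hg, rfl⟩, rfl⟩
    have h2 : θ * conjAut (U p F Q) g hgU * θ⁻¹ ∈ autInducedBy S (U p F Q) := by
      have h3 := Subgroup.mul_mem _ (Subgroup.mul_mem _ (Subgroup.inv_mem _ ht) h1) ht
      have h4 : θ * conjAut (U p F Q) g hgU * θ⁻¹ =
          t⁻¹ * (m * (β * conjAut (U p F Q) g hgU * β⁻¹) * m⁻¹) * t := by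
        rw [hθdef]; group
      rw [h4]; exact h3
    obtain ⟨h', hh'S, hh'⟩ := (Helper84.mem_autInducedBy_iff _ _ _).1 h2
    refine ⟨h', hh'S, fun x hx => ?_⟩
    have h5 := hh' (θ x)
    simp only [MulAut.mul_apply, MulAut.inv_apply_self] at h5
    exact h5
  refine ⟨_, restrict_mem F hψ hNle, fun x hP hN => ?_⟩
  have h6 := hψ' x (hPU hP) (hNle hN)
  exact h6.trans (hθφ ⟨x, hP⟩)

end NormCtx

/-- BCGLO1 Lemma 2.4: the case of a subgroup `P` preserved by all maps. -/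
theorem normal_good {Ω : Type*} [Group Ω] {S : Subgroup Ω} [Finite S] {p : ℕ} [Fact p.Prime]
    (hS : IsPGroup p S) (F : FusionSystem S) {P : Subgroup Ω} (hPS : P ≤ S)
    (hn : ∀ (R : Subgroup Ω), P ≤ R → ∀ φ : R →* Ω, φ ∈ F.Hom R → (P.subgroupOf R).map φ = P)
    (hgood : ∀ R : Subgroup Ω, R ≤ S → P < R →
      ∃ Q, F.IsConj R Q ∧ F.IsFullyAutomized p Q ∧ F.IsReceptive Q)
    (hgen : ∀ α ∈ F.autGroup P, α ∈ Subgroup.closure {α : MulAut P | ∃ (R : Subgroup Ω)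
      (hPR : P < R) (φ : R →* Ω), φ ∈ F.Hom R ∧ ∀ x : P, φ ⟨x, hPR.le x.2⟩ = α x})
    (hU : ¬ (autInducedBy S P ⊓ (pCore p ↥(F.autGroup P)).map (F.autGroup P).subtype ≤ Inn P) ∨
      ¬ centralizerIn S P ≤ P) :
    F.IsFullyAutomized p P ∧ F.IsReceptive P := by
  have c : NormCtx p F P := ⟨hPS, hn, hgood⟩
  have hlt := c.lt_U hS hU
  have hXX := c.aut_le_XX hS hgen
  exact ⟨c.P_fullyAutomized hS hlt hXX, c.P_receptive hS hlt hXX⟩

end Cfsg.Agent.Lib.Helper85
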