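import Cfsg.Agent.Lib.Helper85.FusResLimit

set_option autoImplicit false

namespace Cfsg.Agent.Lib.Helper85

open Cfsg Cfsg.FusionSystem Cfsg.Agent.Lib.Helper84 Cfsg.Agent.Lib.Helper87 Cfsg.Agent.S5256

variable {Ω : Type*} [Group Ω] {S : Subgroup Ω}

/-- restriction of elements of `O^p(Aut_F(P))` to `P ∩ T`, `T` strongly closed. -/
theorem pRes_restrict_sc [Finite S] (p : ℕ) [Fact p.Prime] (F : FusionSystem S)
    {T : Subgroup Ω} (hT : F.StronglyClosed T) {P : Subgroup Ω} (hPS : P ≤ S)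
    {α : F.autGroup P} (hα : α ∈ pResidual p (F.autGroup P)) :
    ∃ β ∈ pResidual p (F.autGroup (P ⊓ T)), ∀ x : ↥(P ⊓ T),
      (α : MulAut P) (Subgroup.inclusion inf_le_left x) =
        Subgroup.inclusion inf_le_left ((β : MulAut ↥(P ⊓ T)) x) := by
  have hfinP : Finite P := finite_of_le hPS
  have hNS : P ⊓ T ≤ S := inf_le_left.trans hPS
  have hfinN : Finite ↥(P ⊓ T) := finite_of_le hNS
  let W := (relAut (Subgroup.inclusion (inf_le_left : P ⊓ T ≤ P)) (F.autGroup (P ⊓ T))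
    (F.autGroup P)).comap
    (MulEquiv.prodComm : F.autGroup P × F.autGroup (P ⊓ T) ≃* _).toMonoidHom
  have htot : ∀ g : F.autGroup P, ∃ h : F.autGroup (P ⊓ T), (g, h) ∈ W := by
    intro g
    have hg : P.subtype.comp (g : MulAut P).toMonoidHom ∈ F.Hom P :=
      (mem_autGroup_iff F hPS g).mp g.2
    have hg' := Lib.Helper85.restrict_mem F hg (inf_le_left : P ⊓ T ≤ P)
    obtain ⟨β, hβ⟩ := exists_aut_of_hom F hg' (fun x =>
      ⟨((g : MulAut P) _).2, sc_map_mem hT hg _ x.2.2⟩)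
    refine ⟨β, ?_⟩
    show ∀ x : ↥(P ⊓ T), (g : MulAut P) (Subgroup.inclusion inf_le_left x) =
      Subgroup.inclusion inf_le_left ((β : MulAut ↥(P ⊓ T)) x)
    intro x
    apply Subtype.ext
    exact (hβ x).symm
  obtain ⟨β, hβ, hW⟩ := Cfsg.Agent.Lib.Helper86.exists_mem_pResidual_of_rel p W htot hα
  exact ⟨β, hβ, hW⟩

theorem hyperfocal_eq_of_hasPPowerIndexIn [Finite S] {p : ℕ} [Fact p.Prime] (hS : IsPGroup p S)
    (F : FusionSystem S) {T : Subgroup Ω} (hT : F.StronglyClosed T) (E : FusionSystem T)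
    (hEsat : E.IsSaturated p) (hidx : E.HasPPowerIndexIn F p) :
    E.hyperfocalSubgroup p = F.hyperfocalSubgroup p := by
  obtain ⟨hsub, hhypT, hres⟩ := hidx
  have hTS : T ≤ S := hT.1
  have hfinT : Finite T := finite_of_le hTS
  have hTp : IsPGroup p T := hS.to_le hTS
  have hHsc : E.StronglyClosed (E.hyperfocalSubgroup p) := Cfsg.Agent.S5124.result p hTp E hEsat
  apply le_antisymm
  · exact hyperfocal_mono hTS E F p (fun P hP => autGroup_le_of_subsystem hsub hP)
  -- (R)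
  have hR : ∀ (P : Subgroup Ω) (hPS : P ≤ S) (α : F.autGroup P),
      α ∈ pResidual p (F.autGroup P) → ∀ n : P, (n : Ω) ∈ T →
        (n : Ω)⁻¹ * (((α : MulAut P) n : P) : Ω) ∈ E.hyperfocalSubgroup p := by
    intro P hPS α hα n hn
    obtain ⟨β, hβ, h⟩ := pRes_restrict_sc p F hT hPS hα
    have h1 : (β : MulAut ↥(P ⊓ T)) ∈
        (pResidual p (E.autGroup (P ⊓ T))).map (E.autGroup (P ⊓ T)).subtype :=
      pResidual_map_le_of_le p (hres _ inf_le_right) ⟨β, hβ, rfl⟩
    have h2 := gen_mem_hyperfocal E p inf_le_right h1 ⟨n, n.2, hn⟩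
    have h3 := congrArg (Subtype.val : P → Ω) (h ⟨n, n.2, hn⟩)
    have h4 : Subgroup.inclusion (inf_le_left : P ⊓ T ≤ P) ⟨n, n.2, hn⟩ = n := Subtype.ext rfl
    rw [h4] at h3
    rw [h3]
    exact h2
  unfold hyperfocalSubgroup
  rw [Subgroup.closure_le]
  rintro _ ⟨P, α, x, hPS, hα, rfl⟩
  -- the subgroup of good automorphisms
  let W : Subgroup (F.autGroup P) :=
    { carrier := {a | ∀ x : P, (x : Ω)⁻¹ * (((a : MulAut P) x : P) : Ω) ∈ E.hyperfocalSubgroup p}
      one_mem' := fun x => by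
        show (x : Ω)⁻¹ * (x : Ω) ∈ _
        rw [inv_mul_cancel]; exact Subgroup.one_mem _
      mul_mem' := by
        intro a b ha hb x
        show (x : Ω)⁻¹ * (((a : MulAut P) ((b : MulAut P) x) : P) : Ω) ∈ _
        have h3 := Subgroup.mul_mem _ (hb x) (ha ((b : MulAut P) x))
        rwa [mul_assoc, mul_inv_cancel_left] at h3
      inv_mem' := by
        intro a ha x
        show (x : Ω)⁻¹ * ((((a : MulAut P)⁻¹ x : P)) : Ω) ∈ _
        have h2 := ha ((a : MulAut P)⁻¹ x)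
        rw [MulAut.apply_inv_self] at h2
        have h3 := Subgroup.inv_mem _ h2
        rwa [mul_inv_rev, inv_inv] at h3 }
  have hW : pResidual p (F.autGroup P) ≤ W := by
    unfold pResidual
    rw [Subgroup.closure_le]
    intro a ha
    have haR : a ∈ pResidual p (F.autGroup P) := Subgroup.subset_closure ha
    intro x
    obtain ⟨n, hn⟩ : ∃ n : P, n = x⁻¹ * (a : MulAut P) x := ⟨_, rfl⟩
    have hnT : (n : Ω) ∈ T := by
      rw [hn]
      exact hhypT (Subgroup.subset_closure ⟨P, a, x, hPS, haR, rfl⟩)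
    have hax : (a : MulAut P) x = x * n := by rw [hn, mul_inv_cancel_left]
    have key : ∀ k : ℕ, ∃ h ∈ E.hyperfocalSubgroup p,
        (x : Ω)⁻¹ * ((((a : MulAut P) ^ k) x : P) : Ω) = (n : Ω) ^ k * h := by
      intro k
      induction k with
      | zero => exact ⟨1, Subgroup.one_mem _, by simp⟩
      | succ k ih =>
        obtain ⟨h, hh, hk⟩ := ih
        have h1 := hR P hPS (a ^ k) (Subgroup.pow_mem _ haR k) n hnT
        have h2 : (n : Ω)⁻¹ * h * (n : Ω)⁻¹⁻¹ ∈ E.hyperfocalSubgroup p :=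
          sc_conj_mem hHsc (T.inv_mem hnT) hh
        refine ⟨(n : Ω)⁻¹ * h * (n : Ω)⁻¹⁻¹ * ((n : Ω)⁻¹ * ((((a ^ k : F.autGroup P) : MulAut P) n : P) : Ω)),
          Subgroup.mul_mem _ h2 h1, ?_⟩
        have e1 : (((a : MulAut P) ^ (k + 1)) x : P) =
            ((a : MulAut P) ^ k) x * ((a : MulAut P) ^ k) n := by
          rw [pow_succ, MulAut.mul_apply, hax, map_mul]
        rw [e1, Subgroup.coe_mul, ← mul_assoc, hk, Subgroup.coe_pow]
        rw [pow_succ]
        group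
    obtain ⟨h, hh, hk⟩ := key (orderOf a)
    have e2 : (a : MulAut P) ^ orderOf a = 1 := by
      rw [← Subgroup.coe_pow, pow_orderOf_eq_one]; rfl
    rw [e2] at hk
    have e3 : (n : Ω) ^ orderOf a = h⁻¹ := by
      have : (x : Ω)⁻¹ * (x : Ω) = (n : Ω) ^ orderOf a * h := hk
      rw [inv_mul_cancel] at this
      exact eq_inv_of_mul_eq_one_left this.symm
    obtain ⟨j, hj⟩ := (hS.to_le hPS) n
    have hj' : (n : Ω) ^ p ^ j = 1 := by
      have := congrArg (Subtype.val : P → Ω) hj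
      simpa using this
    have hfin : (n : Ω) ∈ E.hyperfocalSubgroup p := by
      apply mem_of_pow_mem_coprime (Nat.Coprime.pow_right j ha)
      · rw [e3]; exact Subgroup.inv_mem _ hh
      · rw [hj']; exact Subgroup.one_mem _
    rw [hn] at hfin
    exact hfin
  exact hW hα x

theorem hasPPowerIndexIn_trans [Finite S] {p : ℕ} [Fact p.Prime] (hS : IsPGroup p S)
    (F : FusionSystem S) {T : Subgroup Ω} (hT : F.StronglyClosed T) (E : FusionSystem T)
    (hEsat : E.IsSaturated p) (hidx : E.HasPPowerIndexIn F p)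
    (D : FusionSystem (E.hyperfocalSubgroup p)) (hD : D.HasPPowerIndexIn E p) :
    D.HasPPowerIndexIn F p := by
  refine ⟨fun P => (hD.1 P).trans (hidx.1 P),
    (hyperfocal_eq_of_hasPPowerIndexIn hS F hT E hEsat hidx).ge, fun P hP => ?_⟩
  have hPT : P ≤ T := hP.trans (hyperfocal_le E p)
  exact (pResidual_map_le_of_le p (hidx.2.2 P hPT)).trans (hD.2.2 P hP)

end Cfsg.Agent.Lib.Helper85
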