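import Cfsg.Agent.Lib.Helper85.AbIdxS
import Cfsg.Agent.Lib.Helper84.FusionEssential
import Cfsg.Agent.Lib.Helper84.StronglyEmbedded2
import Cfsg.Agent.Lib.Helper87.CenIdxEss

set_option autoImplicit false

/-! Essential subgroups of a saturated fusion system over a `p`-group with an abelian subgroup of
index `p` (helper85). -/

namespace Cfsg.Agent.Lib.Helper85

open Cfsg Cfsg.FusionSystem Cfsg.Agent.Lib.Helper84 Cfsg.Agent.Lib.Helper87

variable {Ω : Type*} [Group Ω] {S : Subgroup Ω}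

/-- `α` moves `Aut_S(P)` off itself modulo `Inn P`. -/
def GoodAut (F : FusionSystem S) (P : Subgroup Ω) (α : MulAut P) : Prop :=
  α ∈ F.autGroup P ∧ ∀ t ∈ autInducedBy S P, α * t * α⁻¹ ∈ autInducedBy S P → t ∈ Inn P

theorem GoodAut.inv {F : FusionSystem S} {P : Subgroup Ω} {α : MulAut P} (h : GoodAut F P α) :
    GoodAut F P α⁻¹ := by
  refine ⟨(F.autGroup P).inv_mem h.1, fun t ht htt => ?_⟩
  rw [inv_inv] at htt
  have h1 := h.2 _ htt (by
    have : α * (α⁻¹ * t * α) * α⁻¹ = t := by group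
    rw [this]; exact ht)
  have h2 := (inferInstance : (Inn P).Normal).conj_mem _ h1 α
  have : α * (α⁻¹ * t * α) * α⁻¹ = t := by group
  rwa [this] at h2

theorem exists_goodAut [Finite S] {p : ℕ} [Fact p.Prime] (hS : IsPGroup p S) {F : FusionSystem S}
    (hF : F.IsSaturated p) {P : Subgroup Ω} (hP : F.IsEssential p P) : ∃ α, GoodAut F P α := by
  have hlt := ess_lt hS hF hP
  obtain ⟨hc, hfn, hnorm, E, hE⟩ := hP
  have hPS := hc.1
  have hcen : centralizerIn S P ≤ P := hc.2 P (isConj_refl F hPS)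
  obtain ⟨-, ⟨-, R, hR⟩, -⟩ := sat_fullyNormalized hS hF hfn
  haveI := hnorm
  haveI hfin : Finite (F.autGroup P) := finite_autGroup F hPS
  have hI : IsPGroup p ((Inn P).subgroupOf (F.autGroup P)) :=
    (isPGroup_inn hS hPS).of_equiv (Subgroup.subgroupOfEquivOfLe (inn_le_autGroup F hPS)).symm
  have hIT : (Inn P).subgroupOf (F.autGroup P) < R := by
    obtain ⟨y, hyN, hyP⟩ := SetLike.exists_of_lt (lt_normalizerIn hS hlt)
    refine lt_of_le_of_ne ?_ ?_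
    · rw [hR]
      exact Subgroup.comap_mono (inn_le_autInducedBy hPS)
    · intro heq
      have h1 : conjAut P y hyN.2 ∈ autInducedBy S P := conjAut_mem_autInducedBy hyN.2 hyN.1
      have h2 : (⟨conjAut P y hyN.2, autInducedBy_le_autGroup F hPS h1⟩ : F.autGroup P) ∈
          (R : Subgroup (F.autGroup P)) := by rw [hR]; exact h1
      rw [← heq] at h2
      exact hyP (mem_of_conjAut_mem_inn hcen hyN.1 hPS hyN.2 h2)
  rcases stronglyPEmbedded_dichotomy hI R hIT with ⟨-, h⟩ | ⟨h, -⟩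
  · exact absurd ⟨E, hE⟩ h
  · have : ∃ α : F.autGroup P, α ∉ Subgroup.closure {α : F.autGroup P | ∃ t ∈ R,
        t ∉ (Inn P).subgroupOf (F.autGroup P) ∧ α * t * α⁻¹ ∈ R} := by
      by_contra hcon
      push Not at hcon
      exact h (eq_top_iff.2 fun x _ => hcon x)
    obtain ⟨α, hα⟩ := this
    refine ⟨α, α.2, fun t ht htt => ?_⟩
    by_contra htI
    apply hα
    apply Subgroup.subset_closure
    refine ⟨⟨t, autInducedBy_le_autGroup F hPS ht⟩, ?_, htI, ?_⟩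
    · show _ ∈ (R : Subgroup (F.autGroup P))
      rw [hR]; exact ht
    · show _ ∈ (R : Subgroup (F.autGroup P))
      rw [hR]; exact htt

/-- a `p`-subgroup of `Aut_F(P)` of the form `stab2 R'` normalized by `Aut_S(P)` lies in it. -/
theorem stab2_le_autInducedBy [Finite S] {p : ℕ} [Fact p.Prime] (hS : IsPGroup p S)
    {F : FusionSystem S} {P : Subgroup Ω} (hfa : F.IsFullyAutomized p P) (R' : Subgroup P)
    (hinv : ∀ t ∈ autInducedBy S P, ∀ r, t r ∈ R' ↔ r ∈ R') {k : MulAut P} (hk : k ∈ stab2 R')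
    (hkF : k ∈ F.autGroup P) : k ∈ autInducedBy S P := by
  obtain ⟨hPS, R, hR⟩ := hfa
  haveI : Finite P := finite_of_le hPS
  have hPp : IsPGroup p P := hS.to_le hPS
  have hKp : IsPGroup p (stab2 R' ⊓ F.autGroup P : Subgroup (MulAut P)) :=
    (isPGroup_stab2 R' (hPp.to_subgroup R')).to_le inf_le_left
  have hTp : IsPGroup p (autInducedBy S P) := isPGroup_autInducedBy hS P
  have hTF := autInducedBy_le_autGroup F hPS
  have hnorm : autInducedBy S P ≤
      Subgroup.normalizer ((stab2 R' ⊓ F.autGroup P : Subgroup (MulAut P)) : Set (MulAut P)) := by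
    intro t ht
    apply mem_normalizer_of_conj_mem
    · rintro h ⟨h1, h2⟩
      exact ⟨conj_mem_stab2 (hinv t ht) h1,
        (F.autGroup P).mul_mem ((F.autGroup P).mul_mem (hTF ht) h2) ((F.autGroup P).inv_mem (hTF ht))⟩
    · rintro h ⟨h1, h2⟩
      have ht' := (autInducedBy S P).inv_mem ht
      have := conj_mem_stab2 (hinv _ ht') h1
      rw [inv_inv] at this
      exact ⟨this,
        (F.autGroup P).mul_mem ((F.autGroup P).mul_mem ((F.autGroup P).inv_mem (hTF ht)) h2) (hTF ht)⟩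
  have hsup := hKp.to_sup_of_normal_left' hTp hnorm
  have hle : (stab2 R' ⊓ F.autGroup P) ⊔ autInducedBy S P ≤ F.autGroup P :=
    sup_le inf_le_right hTF
  have h1 : IsPGroup p (((stab2 R' ⊓ F.autGroup P) ⊔ autInducedBy S P).subgroupOf (F.autGroup P)) :=
    hsup.of_equiv (Subgroup.subgroupOfEquivOfLe hle).symm
  have h2 := R.is_maximal' h1 (by
    rw [hR]
    exact Subgroup.comap_mono le_sup_right)
  have h3 : (⟨k, hkF⟩ : F.autGroup P) ∈
      ((stab2 R' ⊓ F.autGroup P) ⊔ autInducedBy S P).subgroupOf (F.autGroup P) :=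
    Subgroup.mem_subgroupOf.2 ((le_sup_left : _ ≤ (stab2 R' ⊓ F.autGroup P) ⊔ autInducedBy S P)
      ⟨hk, hkF⟩)
  rw [h2, hR] at h3
  exact h3

/-- the context: an essential subgroup `P` not contained in `A`. -/
structure EssCtx (p : ℕ) (F : FusionSystem S) (A P : Subgroup Ω) (x : Ω) : Prop where
  ab : AbIdx p S A
  hS : IsPGroup p S
  sat : F.IsSaturated p
  ess : F.IsEssential p P
  xP : x ∈ P
  xA : x ∉ A

namespace EssCtx

variable [Finite S] {p : ℕ} [Fact p.Prime] {F : FusionSystem S} {A P : Subgroup Ω} {x : Ω}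

omit [Finite S] [Fact p.Prime] in
theorem PS (c : EssCtx p F A P x) : P ≤ S := c.ess.1.1

omit [Finite S] [Fact p.Prime] in
theorem xS (c : EssCtx p F A P x) : x ∈ S := c.PS c.xP

omit [Finite S] [Fact p.Prime] in
theorem cen (c : EssCtx p F A P x) : centralizerIn S P ≤ P := c.ess.1.2 P (isConj_refl F c.PS)

omit [Finite S] [Fact p.Prime] in
theorem ZS_le (c : EssCtx p F A P x) : ZS S ≤ P := by
  intro z hz
  apply c.cen
  refine ⟨(mem_ZS.1 hz).1, ?_⟩
  apply Subgroup.mem_centralizer_iff.2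
  intro y hy
  exact (mem_ZS.1 hz).2 y (c.PS hy)

theorem fa (c : EssCtx p F A P x) : F.IsFullyAutomized p P :=
  (sat_fullyNormalized c.hS c.sat c.ess.2.1).2.1

theorem decomp (c : EssCtx p F A P x) {y : Ω} (hy : y ∈ P) :
    ∃ j : ℕ, ∃ b ∈ A, b ∈ P ∧ y = x ^ j * b := by
  obtain ⟨j, b, hb, rfl⟩ := c.ab.decompL c.hS c.xS c.xA (c.PS hy)
  refine ⟨j, b, hb, ?_, rfl⟩
  have := P.mul_mem (P.inv_mem (P.pow_mem c.xP j)) hy
  rwa [inv_mul_cancel_left] at this

omit [Finite S] [Fact p.Prime] in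
theorem conj_eq (c : EssCtx p F A P x) {a b : Ω} (ha : a ∈ A) (hb : b ∈ A) (j : ℕ) :
    a * (x ^ j * b) * a⁻¹ = kp (x ^ j) a * (x ^ j * b) := by
  have h1 := c.ab.comm b hb _ (A.inv_mem ha)
  calc a * (x ^ j * b) * a⁻¹ = a * x ^ j * (b * a⁻¹) := by group
    _ = a * x ^ j * (a⁻¹ * b) := by rw [h1]
    _ = kp (x ^ j) a * (x ^ j * b) := by unfold kp; group

theorem conj_mem_of_kp (c : EssCtx p F A P x) {a : Ω} (ha : a ∈ A) (hk : kp x a ∈ P) {y : Ω}
    (hy : y ∈ P) : a * y * a⁻¹ ∈ P := by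
  obtain ⟨j, b, hb, hbP, rfl⟩ := c.decomp hy
  rw [c.conj_eq ha hb]
  refine P.mul_mem (kp_pow_mem hk (fun n hn => ?_) j) hy
  exact P.mul_mem (P.mul_mem c.xP hn) (P.inv_mem c.xP)

theorem kp_inv (c : EssCtx p F A P x) {a : Ω} (ha : a ∈ A) : kp x a⁻¹ = (kp x a)⁻¹ := by
  have h1 := congrArg (Subtype.val : A → Ω) (map_inv (c.ab.kapHom c.hS x c.xS) ⟨a, ha⟩)
  rw [Subgroup.coe_inv] at h1
  exact h1

theorem mem_normalizer_of_kp (c : EssCtx p F A P x) {a : Ω} (ha : a ∈ A) (hk : kp x a ∈ P) :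
    a ∈ Subgroup.normalizer (P : Set Ω) := by
  apply mem_normalizer_of_conj_mem
  · intro y hy
    exact c.conj_mem_of_kp ha hk hy
  · intro y hy
    have := c.conj_mem_of_kp (A.inv_mem ha) (by rw [c.kp_inv ha]; exact P.inv_mem hk) hy
    rwa [inv_inv] at this

omit [Finite S] [Fact p.Prime] in
theorem kp_mem_of_normalizer (c : EssCtx p F A P x) {a : Ω}
    (ha : a ∈ Subgroup.normalizer (P : Set Ω)) : kp x a ∈ P := by
  have := P.mul_mem (conj_mem_of_mem_normalizer ha c.xP) (P.inv_mem c.xP)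
  exact this

/-- the key consequence of `GoodAut`. -/
theorem mem_of_stab2 (c : EssCtx p F A P x) {α : MulAut P} (hα : GoodAut F P α) (R' : Subgroup P)
    (hinv : ∀ t ∈ autInducedBy S P, ∀ r, α (t r) ∈ R' ↔ α r ∈ R') {a : Ω} (haS : a ∈ S)
    (haN : a ∈ Subgroup.normalizer (P : Set Ω)) (hst : conjAut P a haN ∈ stab2 R') : a ∈ P := by
  have hkT : conjAut P a haN ∈ autInducedBy S P := conjAut_mem_autInducedBy haN haS
  have hkF := autInducedBy_le_autGroup F c.PS hkT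
  have h1 := conj_mem_stab2_comap α hst
  have h2 : α⁻¹ * conjAut P a haN * α ∈ F.autGroup P :=
    (F.autGroup P).mul_mem ((F.autGroup P).mul_mem ((F.autGroup P).inv_mem hα.1) hkF) hα.1
  have h3 := stab2_le_autInducedBy c.hS c.fa (R'.comap α.toMonoidHom) hinv h1 h2
  have e : α * (α⁻¹ * conjAut P a haN * α) * α⁻¹ = conjAut P a haN := by group
  have h4 := hα.2 _ h3 (by rw [e]; exact hkT)
  have h5 := (inferInstance : (Inn P).Normal).conj_mem _ h4 α
  rw [e] at h5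
  exact mem_of_conjAut_mem_inn c.cen haS c.PS haN h5

theorem normalA (c : EssCtx p F A P x) : (A.subgroupOf P).Normal := by
  constructor
  intro n hn g
  exact c.ab.conj_mem c.hS (c.PS g.2) hn

theorem indexA (c : EssCtx p F A P x) : (A.subgroupOf P).index = p := by
  refine relIndex_eq_of_cyc c.normalA c.xP c.xA (c.ab.pow_mem c.hS c.xS) (fun k hk => ?_)
  exact c.ab.exists_mul_pow c.hS c.xS c.xA (c.PS hk)

theorem autS_mem_A_iff (c : EssCtx p F A P x) {t : MulAut P} (ht : t ∈ autInducedBy S P) (r : P) :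
    ((t r : P) : Ω) ∈ A ↔ (r : Ω) ∈ A := by
  obtain ⟨g, hg, hg'⟩ := (Helper84.mem_autInducedBy_iff _ _ _).1 ht
  rw [hg', c.ab.conj_mem_iff c.hS hg]

/-- there is an element of `N_A(P)` outside `P`. -/
theorem exists_u (c : EssCtx p F A P x) :
    ∃ u ∈ A, u ∈ Subgroup.normalizer (P : Set Ω) ∧ u ∉ P := by
  obtain ⟨v, hvN, hvP⟩ := SetLike.exists_of_lt (lt_normalizerIn c.hS (ess_lt c.hS c.sat c.ess))
  obtain ⟨j, b, hb, rfl⟩ := c.ab.decompL c.hS c.xS c.xA hvN.1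
  refine ⟨b, hb, ?_, fun hbP => hvP (P.mul_mem (P.pow_mem c.xP j) hbP)⟩
  have h1 : x ^ j ∈ Subgroup.normalizer (P : Set Ω) := Subgroup.le_normalizer (P.pow_mem c.xP j)
  have := Subgroup.mul_mem _ (Subgroup.inv_mem _ h1) hvN.2
  rwa [inv_mul_cancel_left] at this

/-- a good automorphism does not preserve `P ∩ A`. -/
theorem exists_moved (c : EssCtx p F A P x) {α : MulAut P} (hα : GoodAut F P α) :
    ∃ y : P, (y : Ω) ∈ A ∧ ((α y : P) : Ω) ∉ A := by
  by_contra hcon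
  push Not at hcon
  have : Finite P := finite_of_le c.PS
  have hiff := aut_mem_iff_of_finite α (A.subgroupOf P) (fun y hy => hcon y hy)
  obtain ⟨u, huA, huN, huP⟩ := c.exists_u
  apply huP
  refine c.mem_of_stab2 hα (A.subgroupOf P) (fun t ht r => ?_) (c.ab.le huA) huN ⟨?_, ?_⟩
  · rw [hiff, hiff]
    exact c.autS_mem_A_iff ht r
  · intro r hr
    apply Subtype.ext
    show u * r * u⁻¹ = r
    rw [c.ab.comm u huA r hr, mul_inv_cancel_right]
  · intro y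
    show (y : Ω)⁻¹ * (u * y * u⁻¹) ∈ A
    have := A.mul_mem (c.ab.conj_mem' c.hS (c.PS y.2) huA) (A.inv_mem huA)
    simpa [mul_assoc] using this

/-- elements of `P ∩ A ∩ β(P ∩ A)` are central in `S`. -/
theorem mem_ZS_of_inter (c : EssCtx p F A P x) (β : MulAut P) {g : P} (hg : (g : Ω) ∈ A)
    (hg' : ((β⁻¹ g : P) : Ω) ∉ A) {r : P} (hr : (r : Ω) ∈ A) (hr' : ((β⁻¹ r : P) : Ω) ∈ A) :
    (r : Ω) ∈ ZS S := by
  have := c.normalA
  obtain ⟨j, hj⟩ := exists_mul_pow_mem_of_index (A.subgroupOf P) c.indexA (g := β⁻¹ g) hg'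
    (β⁻¹ ⟨x, c.xP⟩)
  have hj' : ((β⁻¹ (⟨x, c.xP⟩ * g ^ j) : P) : Ω) ∈ A := by
    rw [map_mul, map_pow]; exact hj
  have h1 : β⁻¹ r * β⁻¹ (⟨x, c.xP⟩ * g ^ j) = β⁻¹ (⟨x, c.xP⟩ * g ^ j) * β⁻¹ r :=
    Subtype.ext (c.ab.comm _ hr' _ hj')
  rw [← map_mul, ← map_mul] at h1
  have h2 : r * (⟨x, c.xP⟩ * g ^ j) = ⟨x, c.xP⟩ * g ^ j * r := (β⁻¹).injective h1
  have h3 : (r : Ω) * (x * (g : Ω) ^ j) = x * (g : Ω) ^ j * r := congrArg (Subtype.val : P → Ω) h2
  have h4 : (r : Ω) * (g : Ω) ^ j = (g : Ω) ^ j * r := c.ab.comm _ hr _ (A.pow_mem hg j)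
  apply c.ab.mem_ZS_of_comm c.hS c.xS c.xA hr
  have h5 : (r : Ω) * x * (g : Ω) ^ j = x * r * (g : Ω) ^ j := by
    rw [mul_assoc, h3, mul_assoc, ← h4, mul_assoc]
  exact mul_right_cancel h5

/-- `Z(S) ∩ α(Z(S))`. -/
def RR (S : Subgroup Ω) {P : Subgroup Ω} (α : MulAut P) : Subgroup P :=
  (ZS S).subgroupOf P ⊓ ((ZS S).subgroupOf P).comap (α⁻¹).toMonoidHom

omit [Finite S] in
theorem mem_RR {α : MulAut P} {r : P} :
    r ∈ RR S α ↔ (r : Ω) ∈ ZS S ∧ ((α⁻¹ r : P) : Ω) ∈ ZS S := Iff.rfl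

theorem mem_RR_of (c : EssCtx p F A P x) {α : MulAut P} (hα : GoodAut F P α) {r : P}
    (hr : (r : Ω) ∈ A) (hr' : ((α⁻¹ r : P) : Ω) ∈ A) : r ∈ RR S α := by
  obtain ⟨g, hg, hg'⟩ := c.exists_moved hα.inv
  obtain ⟨g₂, hg₂, hg₂'⟩ := c.exists_moved hα
  rw [mem_RR]
  refine ⟨c.mem_ZS_of_inter α hg hg' hr hr', ?_⟩
  refine c.mem_ZS_of_inter α⁻¹ hg₂ (by rw [inv_inv]; exact hg₂') hr' ?_
  rw [inv_inv, MulAut.apply_inv_self]
  exact hr

theorem autS_fix (c : EssCtx p F A P x) {t : MulAut P} (ht : t ∈ autInducedBy S P) {r : P}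
    (hr : (r : Ω) ∈ ZS S) : t r = r := by
  obtain ⟨g, hg, hg'⟩ := (Helper84.mem_autInducedBy_iff _ _ _).1 ht
  apply Subtype.ext
  rw [hg', AbIdx.conj_ZS hr hg]

theorem autS_mem_ZS_iff (c : EssCtx p F A P x) {t : MulAut P} (ht : t ∈ autInducedBy S P) (r : P) :
    ((t r : P) : Ω) ∈ ZS S ↔ (r : Ω) ∈ ZS S := by
  constructor
  · intro h
    have h1 := c.autS_fix ((autInducedBy S P).inv_mem ht) h
    rw [MulAut.inv_apply_self] at h1
    rw [h1]; exact h
  · intro h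
    rw [c.autS_fix ht h]; exact h

/-- an element `a ∈ A` with `[a, x] ∈ Z(S) ∩ α(Z(S))` lies in `P`. -/
theorem mem_of_kp_mem_RR (c : EssCtx p F A P x) {α : MulAut P} (hα : GoodAut F P α) {a : Ω}
    (ha : a ∈ A) (hk : ∃ h : kp x a ∈ P, (⟨kp x a, h⟩ : P) ∈ RR S α) : a ∈ P := by
  obtain ⟨hkP, hkR⟩ := hk
  have haN := c.mem_normalizer_of_kp ha hkP
  refine c.mem_of_stab2 hα (RR S α) (fun t ht r => ?_) (c.ab.le ha) haN ⟨?_, ?_⟩
  · rw [mem_RR, mem_RR, MulAut.inv_apply_self, MulAut.inv_apply_self]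
    constructor
    · rintro ⟨h1, h2⟩
      have h3 := (c.autS_mem_ZS_iff ht r).1 h2
      rw [c.autS_fix ht h3] at h1
      exact ⟨h1, h3⟩
    · rintro ⟨h1, h2⟩
      rw [c.autS_fix ht h2]
      exact ⟨h1, h2⟩
  · intro r hr
    apply Subtype.ext
    show a * r * a⁻¹ = r
    exact AbIdx.conj_ZS hr.1 (c.ab.le ha)
  · intro y
    obtain ⟨j, b, hb, hbP, hy⟩ := c.decomp y.2
    -- the subgroup of `Ω` corresponding to `RR`
    have hN : kp (x ^ j) a ∈ (RR S α).map P.subtype := by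
      refine kp_pow_mem (N := (RR S α).map P.subtype) ⟨_, hkR, rfl⟩ ?_ j
      rintro _ ⟨n, hn, rfl⟩
      have : x * (P.subtype n) * x⁻¹ = P.subtype n := AbIdx.conj_ZS hn.1 c.xS
      rw [this]
      exact ⟨n, hn, rfl⟩
    obtain ⟨n, hn, hn'⟩ := hN
    have h1 : y⁻¹ * conjAut P a haN y = n := by
      apply Subtype.ext
      show (y : Ω)⁻¹ * (a * y * a⁻¹) = n
      have hn'' : (n : Ω) = kp (x ^ j) a := hn'
      have hcm : (y : Ω) * (n : Ω) = (n : Ω) * (y : Ω) := (mem_ZS.1 hn.1).2 y (c.PS y.2)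
      rw [hy, c.conj_eq ha hb, ← hn'', ← hy, ← hcm, inv_mul_cancel_left]
    rw [h1]
    exact hn

/-- `(P ∩ A) / RR` is cyclic of order `p`. -/
theorem exists_mul_pow_mem_RR (c : EssCtx p F A P x) {α : MulAut P} (hα : GoodAut F P α) {g : P}
    (hg : (g : Ω) ∈ A) (hgR : g ∉ RR S α) {y : P} (hy : (y : Ω) ∈ A) :
    ∃ j : ℕ, y * g ^ j ∈ RR S α := by
  have := c.normalA
  have hg' : ((α⁻¹ g : P) : Ω) ∉ A := fun h => hgR (c.mem_RR_of hα hg h)
  obtain ⟨j, hj⟩ := exists_mul_pow_mem_of_index (A.subgroupOf P) c.indexA (g := α⁻¹ g) hg' (α⁻¹ y)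
  refine ⟨j, c.mem_RR_of hα (A.mul_mem hy (A.pow_mem hg j)) ?_⟩
  rw [map_mul, map_pow]
  exact hj

theorem pow_mem_RR (c : EssCtx p F A P x) {α : MulAut P} (hα : GoodAut F P α) {g : P}
    (hg : (g : Ω) ∈ A) : g ^ p ∈ RR S α := by
  have := c.normalA
  refine c.mem_RR_of hα (A.pow_mem hg p) ?_
  rw [map_pow]
  exact pow_mem_of_index (A.subgroupOf P) c.indexA (α⁻¹ g)

end EssCtx

end Cfsg.Agent.Lib.Helper85
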