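import Mathlib

set_option autoImplicit false

/-! Pure group theory used for fusion systems over `p`-groups with an abelian subgroup of index `p`
(helper85). -/

namespace Cfsg.Agent.Lib.Helper85

section cyc

variable {G : Type*} [Group G] {p : ℕ} [Fact p.Prime]

/-- modulo a normal subgroup of prime index every element is a power of a given element outside. -/
theorem exists_mul_pow_mem_of_index (H : Subgroup G) [H.Normal] (hidx : H.index = p) {g : G}
    (hg : g ∉ H) (k : G) : ∃ j : ℕ, k * g ^ j ∈ H := by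
  have hcard : Nat.card (G ⧸ H) = p := hidx
  have hne : (QuotientGroup.mk g : G ⧸ H) ≠ 1 := by
    intro h
    rw [QuotientGroup.eq_one_iff] at h
    exact hg h
  obtain ⟨j, hj⟩ := mem_powers_of_prime_card hcard hne (g' := (QuotientGroup.mk k : G ⧸ H)⁻¹)
  refine ⟨j, ?_⟩
  rw [← QuotientGroup.eq_one_iff, QuotientGroup.mk_mul, QuotientGroup.mk_pow]
  have hj' : (QuotientGroup.mk g : G ⧸ H) ^ j = (QuotientGroup.mk k : G ⧸ H)⁻¹ := hj
  rw [hj', mul_inv_cancel]

theorem pow_mem_of_index (H : Subgroup G) [H.Normal] (hidx : H.index = p) (g : G) :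
    g ^ p ∈ H := by
  have hcard : Nat.card (G ⧸ H) = p := hidx
  rw [← QuotientGroup.eq_one_iff, QuotientGroup.mk_pow, ← hcard]
  exact pow_card_eq_one'

theorem index_eq_of_cyc (H : Subgroup G) [H.Normal] {g : G} (hg : g ∉ H) (hgp : g ^ p ∈ H)
    (h : ∀ k : G, ∃ j : ℕ, k * g ^ j ∈ H) : H.index = p := by
  have hne : (QuotientGroup.mk g : G ⧸ H) ≠ 1 := by
    intro h
    rw [QuotientGroup.eq_one_iff] at h
    exact hg h
  have hp1 : (QuotientGroup.mk g : G ⧸ H) ^ p = 1 := by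
    rw [← QuotientGroup.mk_pow, QuotientGroup.eq_one_iff]
    exact hgp
  have hord : orderOf (QuotientGroup.mk g : G ⧸ H) = p := orderOf_eq_prime hp1 hne
  have htop : Subgroup.zpowers (QuotientGroup.mk g : G ⧸ H) = ⊤ := by
    rw [eq_top_iff]
    intro q _
    obtain ⟨k, rfl⟩ := QuotientGroup.mk_surjective q
    obtain ⟨j, hj⟩ := h k
    rw [← QuotientGroup.eq_one_iff, QuotientGroup.mk_mul, QuotientGroup.mk_pow] at hj
    have : (QuotientGroup.mk k : G ⧸ H) = ((QuotientGroup.mk g : G ⧸ H) ^ j)⁻¹ :=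
      eq_inv_of_mul_eq_one_left hj
    rw [this]
    exact Subgroup.inv_mem _ (Subgroup.pow_mem _ (Subgroup.mem_zpowers _) _)
  show Nat.card (G ⧸ H) = p
  rw [← hord, ← Nat.card_zpowers, htop]
  exact (Nat.card_congr Subgroup.topEquiv.toEquiv).symm

/-- relative versions -/
theorem exists_mul_pow_mem_of_relIndex {H K : Subgroup G} (hn : (H.subgroupOf K).Normal)
    (hidx : (H.subgroupOf K).index = p) {g : G} (hgK : g ∈ K) (hg : g ∉ H) {k : G} (hk : k ∈ K) :
    ∃ j : ℕ, k * g ^ j ∈ H := by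
  haveI := hn
  obtain ⟨j, hj⟩ := exists_mul_pow_mem_of_index (H.subgroupOf K) hidx (g := ⟨g, hgK⟩)
    (fun h => hg h) ⟨k, hk⟩
  exact ⟨j, hj⟩

theorem pow_mem_of_relIndex {H K : Subgroup G} (hn : (H.subgroupOf K).Normal)
    (hidx : (H.subgroupOf K).index = p) {g : G} (hgK : g ∈ K) : g ^ p ∈ H := by
  haveI := hn
  exact pow_mem_of_index (H.subgroupOf K) hidx (⟨g, hgK⟩ : K)

theorem relIndex_eq_of_cyc {H K : Subgroup G} (hn : (H.subgroupOf K).Normal) {g : G} (hgK : g ∈ K)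
    (hg : g ∉ H) (hgp : g ^ p ∈ H) (h : ∀ k ∈ K, ∃ j : ℕ, k * g ^ j ∈ H) :
    (H.subgroupOf K).index = p := by
  haveI := hn
  exact index_eq_of_cyc (H.subgroupOf K) (g := ⟨g, hgK⟩) (fun h => hg h) hgp (fun k => h k k.2)

/-- if `g ^ p ∈ H`, `g ^ j ∈ H` and `g ∉ H` then `p ∣ j`. -/
theorem dvd_of_pow_mem {H : Subgroup G} {g : G} (hg : g ∉ H) (hgp : g ^ p ∈ H) {j : ℕ}
    (hj : g ^ j ∈ H) : p ∣ j := by
  by_contra hnd
  have hcop : Nat.Coprime p j := (Nat.Prime.coprime_iff_not_dvd Fact.out).2 hnd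
  apply hg
  have h1 : g ^ (Nat.gcd p j : ℤ) ∈ H := by
    rw [Nat.gcd_eq_gcd_ab, zpow_add, zpow_mul, zpow_mul, zpow_natCast, zpow_natCast]
    exact H.mul_mem (H.zpow_mem hgp _) (H.zpow_mem hj _)
  rw [hcop] at h1
  simpa using h1

end cyc

section stab

variable {P : Type*} [Group P]

/-- the automorphisms centralizing `R` and `P / R`. -/
def stab2 (R : Subgroup P) : Subgroup (MulAut P) where
  carrier := {β | (∀ r ∈ R, β r = r) ∧ ∀ y, y⁻¹ * β y ∈ R}
  one_mem' := ⟨fun _ _ => rfl, fun y => by simp⟩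
  mul_mem' := by
    rintro a b ⟨ha1, ha2⟩ ⟨hb1, hb2⟩
    refine ⟨fun r hr => ?_, fun y => ?_⟩
    · rw [MulAut.mul_apply, hb1 r hr, ha1 r hr]
    · have := R.mul_mem (hb2 y) (ha2 (b y))
      rwa [mul_assoc, mul_inv_cancel_left] at this
  inv_mem' := by
    rintro a ⟨ha1, ha2⟩
    refine ⟨fun r hr => ?_, fun y => ?_⟩
    · have := congrArg (a⁻¹ : MulAut P) (ha1 r hr)
      rw [MulAut.inv_apply_self] at this
      exact this.symm
    · have := R.inv_mem (ha2 (a⁻¹ y))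
      rwa [MulAut.apply_inv_self, mul_inv_rev, inv_inv] at this

theorem mem_stab2 {R : Subgroup P} {β : MulAut P} :
    β ∈ stab2 R ↔ (∀ r ∈ R, β r = r) ∧ ∀ y, y⁻¹ * β y ∈ R := Iff.rfl

theorem stab2_pow_apply {R : Subgroup P} {β : MulAut P} (hβ : β ∈ stab2 R) (y : P) (k : ℕ) :
    (β ^ k) y = y * (y⁻¹ * β y) ^ k := by
  induction k with
  | zero => simp
  | succ k ih =>
    rw [pow_succ', MulAut.mul_apply, ih, map_mul, map_pow, hβ.1 _ (hβ.2 y), pow_succ', ← mul_assoc,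
      mul_inv_cancel_left]

theorem isPGroup_stab2 {p : ℕ} [Fact p.Prime] (R : Subgroup P) [Finite R] (hR : IsPGroup p R) :
    IsPGroup p (stab2 R) := by
  obtain ⟨n, hn⟩ := IsPGroup.iff_card.mp hR
  rintro ⟨β, hβ⟩
  refine ⟨n, ?_⟩
  apply Subtype.ext
  show β ^ p ^ n = 1
  ext y
  rw [stab2_pow_apply hβ]
  have h1 : (⟨y⁻¹ * β y, hβ.2 y⟩ : R) ^ p ^ n = 1 := by
    rw [← hn]; exact pow_card_eq_one'
  have h2 : (y⁻¹ * β y) ^ p ^ n = 1 := congrArg (Subtype.val : R → P) h1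
  rw [h2, mul_one]
  rfl

theorem conj_mem_stab2_comap {R : Subgroup P} {k : MulAut P} (α : MulAut P) (hk : k ∈ stab2 R) :
    α⁻¹ * k * α ∈ stab2 (R.comap α.toMonoidHom) := by
  refine ⟨fun r hr => ?_, fun y => ?_⟩
  · have hr' : α r ∈ R := hr
    rw [MulAut.mul_apply, MulAut.mul_apply, hk.1 _ hr', MulAut.inv_apply_self]
  · show α (y⁻¹ * (α⁻¹ * k * α) y) ∈ R
    rw [MulAut.mul_apply, MulAut.mul_apply, map_mul, map_inv, MulAut.apply_inv_self]
    exact hk.2 (α y)

/-- an automorphism preserving `R` normalizes `stab2 R`. -/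
theorem conj_mem_stab2 {R : Subgroup P} {k t : MulAut P} (ht : ∀ r, t r ∈ R ↔ r ∈ R)
    (hk : k ∈ stab2 R) : t * k * t⁻¹ ∈ stab2 R := by
  have h := conj_mem_stab2_comap t⁻¹ hk
  rw [inv_inv] at h
  have h2 : R.comap (t⁻¹).toMonoidHom = R := by
    ext r
    show t⁻¹ r ∈ R ↔ r ∈ R
    rw [← ht (t⁻¹ r), MulAut.apply_inv_self]
  rwa [h2] at h

theorem aut_mem_iff_of_finite [Finite P] (α : MulAut P) (H : Subgroup P) (h : ∀ y ∈ H, α y ∈ H)
    (y : P) : α y ∈ H ↔ y ∈ H := by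
  refine ⟨fun hy => ?_, h y⟩
  have hle : H.map α.toMonoidHom ≤ H := by
    rintro _ ⟨z, hz, rfl⟩
    exact h z hz
  have hcard : Nat.card (H.map α.toMonoidHom) = Nat.card H :=
    Subgroup.card_map_of_injective α.injective
  have heq : H.map α.toMonoidHom = H := Subgroup.eq_of_le_of_card_ge hle hcard.ge
  rw [← heq] at hy
  obtain ⟨z, hz, hzy⟩ := hy
  have : z = y := α.injective hzy
  rwa [← this]

end stab

section ker

variable {M : Type*} [Group M] [Finite M]

/-- the kernels of the iterates of an endomorphism. -/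
def kerIter (κ : M →* M) : ℕ → Subgroup M
  | 0 => ⊥
  | j + 1 => (kerIter κ j).comap κ

omit [Finite M] in
theorem mem_kerIter (κ : M →* M) (j : ℕ) (x : M) : x ∈ kerIter κ j ↔ κ^[j] x = 1 := by
  induction j generalizing x with
  | zero => simp [kerIter]
  | succ j ih =>
    show κ x ∈ kerIter κ j ↔ _
    rw [ih, Function.iterate_succ_apply]

omit [Finite M] in
theorem kerIter_le_succ (κ : M →* M) (j : ℕ) : kerIter κ j ≤ kerIter κ (j + 1) := by
  induction j with
  | zero => exact bot_le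
  | succ j ih => exact Subgroup.comap_mono ih

theorem kerIter_relIndex_succ_le (κ : M →* M) (j : ℕ) :
    (kerIter κ (j + 1)).relIndex (kerIter κ (j + 2)) ≤ (kerIter κ j).relIndex (kerIter κ (j + 1)) := by
  show ((kerIter κ j).comap κ).relIndex ((kerIter κ (j + 1)).comap κ) ≤ _
  rw [Subgroup.relIndex_comap]
  refine Subgroup.relIndex_le_of_le_right (Subgroup.map_comap_le _ _) ?_
  exact Subgroup.index_ne_zero_of_finite

theorem kerIter_relIndex_le (κ : M →* M) (j₀ q : ℕ)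
    (h : (kerIter κ j₀).relIndex (kerIter κ (j₀ + 1)) ≤ q) (i : ℕ) :
    (kerIter κ (j₀ + i)).relIndex (kerIter κ (j₀ + i + 1)) ≤ q ∧
      (kerIter κ j₀).relIndex (kerIter κ (j₀ + i)) ≤ q ^ i := by
  have hmono : ∀ i, kerIter κ j₀ ≤ kerIter κ (j₀ + i) := by
    intro i
    induction i with
    | zero => exact le_rfl
    | succ i ih => exact ih.trans (kerIter_le_succ κ _)
  induction i with
  | zero =>
    refine ⟨h, ?_⟩
    simp
  | succ i ih =>
    refine ⟨(kerIter_relIndex_succ_le κ (j₀ + i)).trans ih.1, ?_⟩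
    have h1 := Subgroup.relIndex_mul_relIndex (kerIter κ j₀) (kerIter κ (j₀ + i))
      (kerIter κ (j₀ + i + 1)) (hmono i) (kerIter_le_succ κ _)
    show (kerIter κ j₀).relIndex (kerIter κ (j₀ + i + 1)) ≤ _
    rw [← h1, pow_succ]
    exact Nat.mul_le_mul ih.2 ih.1

/-- if the index of `ker κ^j₀` exceeds `q ^ i` then `κ ^ (j₀ + i)` is not trivial. -/
theorem exists_iterate_ne_one (κ : M →* M) (j₀ q i : ℕ)
    (h : (kerIter κ j₀).relIndex (kerIter κ (j₀ + 1)) ≤ q) (hlt : q ^ i < (kerIter κ j₀).index) :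
    ∃ x : M, κ^[j₀ + i] x ≠ 1 := by
  by_contra hcon
  push Not at hcon
  have htop : kerIter κ (j₀ + i) = ⊤ := by
    rw [eq_top_iff]
    intro x _
    rw [mem_kerIter]
    exact hcon x
  have h1 := (kerIter_relIndex_le κ j₀ q h i).2
  rw [htop, Subgroup.relIndex_top_right] at h1
  omega

end ker

end Cfsg.Agent.Lib.Helper85
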