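import Cfsg.Agent.Lib.Helper85.AbIdxGrp
import Cfsg.Agent.Lib.Helper87.CenIdx

set_option autoImplicit false

/-! A nonabelian finite `p`-group `S` with an abelian subgroup `A` of index `p` (helper85). -/

namespace Cfsg.Agent.Lib.Helper85

open Cfsg Cfsg.FusionSystem Cfsg.Agent.Lib.Helper84 Cfsg.Agent.Lib.Helper87

variable {Ω : Type*} [Group Ω]

structure AbIdx (p : ℕ) (S A : Subgroup Ω) : Prop where
  le : A ≤ S
  comm : ∀ a ∈ A, ∀ b ∈ A, a * b = b * a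
  idx : (A.subgroupOf S).index = p
  nonab : ∃ s ∈ S, ∃ t ∈ S, s * t ≠ t * s

theorem abIdx_of {p : ℕ} {S A : Subgroup Ω} (hna : ¬ IsMulCommutative ↥S)
    (hA : A ≤ S ∧ IsMulCommutative ↥A ∧ (A.subgroupOf S).index = p) : AbIdx p S A := by
  refine ⟨hA.1, fun a ha b hb => ?_, hA.2.2, ?_⟩
  · exact congrArg (Subtype.val : A → Ω) (hA.2.1.is_comm.comm ⟨a, ha⟩ ⟨b, hb⟩)
  · by_contra hcon
    push Not at hcon
    exact hna ⟨⟨fun a b => Subtype.ext (hcon a a.2 b b.2)⟩⟩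

/-- `[a, y]`. -/
def kp (y a : Ω) : Ω := a * y * a⁻¹ * y⁻¹

theorem kp_succ (y a : Ω) (i : ℕ) : kp (y ^ (i + 1)) a = kp y a * (y * kp (y ^ i) a * y⁻¹) := by
  unfold kp
  rw [pow_succ']
  group

theorem kp_zero (y a : Ω) : kp (y ^ 0) a = 1 := by
  unfold kp
  simp

theorem kp_pow_mem {N : Subgroup Ω} {y a : Ω} (h1 : kp y a ∈ N) (h2 : ∀ n ∈ N, y * n * y⁻¹ ∈ N)
    (i : ℕ) : kp (y ^ i) a ∈ N := by
  induction i with
  | zero => rw [kp_zero]; exact N.one_mem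
  | succ i ih => rw [kp_succ]; exact N.mul_mem h1 (h2 _ ih)

theorem conj_kp (y a : Ω) : y * kp y a * y⁻¹ = kp y (y * a * y⁻¹) := by
  unfold kp
  group

namespace AbIdx

variable {p : ℕ} [Fact p.Prime] {S A : Subgroup Ω} [Finite S]

theorem normal (h : AbIdx p S A) (hS : IsPGroup p S) : (A.subgroupOf S).Normal := by
  apply Subgroup.normal_of_index_eq_minFac_card
  obtain ⟨n, hn⟩ := IsPGroup.iff_card.mp hS
  have hp : p.Prime := Fact.out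
  have hn0 : n ≠ 0 := by
    rintro rfl
    have h1 := (A.subgroupOf S).index_dvd_card
    rw [hn, h.idx, pow_zero] at h1
    exact hp.one_lt.ne' (Nat.dvd_one.1 h1)
  rw [h.idx, hn, hp.pow_minFac hn0]

theorem conj_mem (h : AbIdx p S A) (hS : IsPGroup p S) {s a : Ω} (hs : s ∈ S) (ha : a ∈ A) :
    s * a * s⁻¹ ∈ A :=
  (h.normal hS).conj_mem ⟨a, h.le ha⟩ ha ⟨s, hs⟩

theorem conj_mem' (h : AbIdx p S A) (hS : IsPGroup p S) {s a : Ω} (hs : s ∈ S) (ha : a ∈ A) :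
    s⁻¹ * a * s ∈ A := by
  have := h.conj_mem hS (S.inv_mem hs) ha
  rwa [inv_inv] at this

theorem conj_mem_iff (h : AbIdx p S A) (hS : IsPGroup p S) {s a : Ω} (hs : s ∈ S) :
    s * a * s⁻¹ ∈ A ↔ a ∈ A := by
  refine ⟨fun ha => ?_, h.conj_mem hS hs⟩
  have := h.conj_mem' hS hs ha
  simpa [mul_assoc] using this

theorem exists_mul_pow (h : AbIdx p S A) (hS : IsPGroup p S) {x : Ω} (hx : x ∈ S) (hxA : x ∉ A)
    {s : Ω} (hs : s ∈ S) : ∃ j : ℕ, s * x ^ j ∈ A :=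
  exists_mul_pow_mem_of_relIndex (h.normal hS) h.idx hx hxA hs

theorem pow_mem (h : AbIdx p S A) (hS : IsPGroup p S) {x : Ω} (hx : x ∈ S) : x ^ p ∈ A :=
  pow_mem_of_relIndex (h.normal hS) h.idx hx

/-- `s = x ^ j * b`. -/
theorem decompL (h : AbIdx p S A) (hS : IsPGroup p S) {x : Ω} (hx : x ∈ S) (hxA : x ∉ A)
    {s : Ω} (hs : s ∈ S) : ∃ j : ℕ, ∃ b ∈ A, s = x ^ j * b := by
  obtain ⟨j, hj⟩ := h.exists_mul_pow hS hx hxA (S.inv_mem hs)
  refine ⟨j, _, A.inv_mem hj, ?_⟩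
  group

/-- `s = a * x ^ j`. -/
theorem decompR (h : AbIdx p S A) (hS : IsPGroup p S) {x : Ω} (hx : x ∈ S) (hxA : x ∉ A)
    {s : Ω} (hs : s ∈ S) : ∃ j : ℕ, ∃ a ∈ A, s = a * x ^ j := by
  obtain ⟨j, b, hb, rfl⟩ := h.decompL hS hx hxA hs
  refine ⟨j, _, h.conj_mem hS (S.pow_mem hx j) hb, ?_⟩
  group

theorem mem_ZS_of_comm (h : AbIdx p S A) (hS : IsPGroup p S) {x : Ω} (hx : x ∈ S) (hxA : x ∉ A)
    {a : Ω} (ha : a ∈ A) (hax : a * x = x * a) : a ∈ ZS S := by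
  rw [mem_ZS]
  refine ⟨h.le ha, fun s hs => ?_⟩
  obtain ⟨j, b, hb, rfl⟩ := h.decompL hS hx hxA hs
  have h1 : Commute a (x ^ j) := (show Commute a x from hax).pow_right j
  rw [mul_assoc, h.comm b hb a ha, ← mul_assoc, ← h1.eq, mul_assoc]

theorem ZS_le (h : AbIdx p S A) (hS : IsPGroup p S) : ZS S ≤ A := by
  intro z hz
  by_contra hzA
  obtain ⟨s, hs, t, ht, hst⟩ := h.nonab
  apply hst
  rw [mem_ZS] at hz
  obtain ⟨i, b, hb, rfl⟩ := h.decompL hS hz.1 hzA hs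
  obtain ⟨j, c, hc, rfl⟩ := h.decompL hS hz.1 hzA ht
  have h1 : ∀ w ∈ S, ∀ n : ℕ, Commute w (z ^ n) := fun w hw n =>
    (show Commute w z from hz.2 w hw).pow_right n
  have e1 : b * z ^ j = z ^ j * b := (h1 b (h.le hb) j).eq
  have e2 : c * z ^ i = z ^ i * c := (h1 c (h.le hc) i).eq
  have e3 : z ^ i * z ^ j = z ^ j * z ^ i := by rw [← pow_add, ← pow_add, add_comm]
  calc z ^ i * b * (z ^ j * c) = z ^ i * (b * z ^ j) * c := by group
    _ = z ^ i * z ^ j * (b * c) := by rw [e1]; group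
    _ = z ^ j * z ^ i * (c * b) := by rw [e3, h.comm b hb c hc]
    _ = z ^ j * (z ^ i * c) * b := by group
    _ = z ^ j * c * (z ^ i * b) := by rw [← e2]; group

theorem kp_mem (h : AbIdx p S A) (hS : IsPGroup p S) {y a : Ω} (hy : y ∈ S) (ha : a ∈ A) :
    kp y a ∈ A := by
  have := A.mul_mem ha (h.conj_mem hS hy (A.inv_mem ha))
  unfold kp
  simpa [mul_assoc] using this

theorem kp_mul (h : AbIdx p S A) (hS : IsPGroup p S) {y a b : Ω} (hy : y ∈ S) (ha : a ∈ A)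
    (hb : b ∈ A) : kp y (a * b) = kp y a * kp y b := by
  have h1 := h.comm _ (h.kp_mem hS hy hb) _ (h.conj_mem hS hy (A.inv_mem ha))
  calc kp y (a * b) = a * (kp y b * (y * a⁻¹ * y⁻¹)) := by unfold kp; group
    _ = a * ((y * a⁻¹ * y⁻¹) * kp y b) := by rw [h1]
    _ = kp y a * kp y b := by unfold kp; group

/-- `a ↦ [a, y]` as an endomorphism of `A`. -/
def kapHom (h : AbIdx p S A) (hS : IsPGroup p S) (y : Ω) (hy : y ∈ S) : A →* A :=
  MonoidHom.mk' (fun a => ⟨kp y a, h.kp_mem hS hy a.2⟩)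
    (fun a b => Subtype.ext (h.kp_mul hS hy a.2 b.2))

theorem kapHom_apply (h : AbIdx p S A) (hS : IsPGroup p S) (y : Ω) (hy : y ∈ S) (a : A) :
    ((h.kapHom hS y hy a : A) : Ω) = kp y a := rfl

theorem kp_pow (h : AbIdx p S A) (hS : IsPGroup p S) {y a : Ω} (hy : y ∈ S) (ha : a ∈ A) (n : ℕ) :
    kp y (a ^ n) = kp y a ^ n := by
  have h1 := congrArg (Subtype.val : A → Ω) (map_pow (h.kapHom hS y hy) ⟨a, ha⟩ n)
  rw [Subgroup.coe_pow] at h1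
  exact h1

omit [Fact p.Prime] [Finite S] in
theorem kp_mul_right (h : AbIdx p S A) {y a b : Ω} (ha : a ∈ A) (hb : b ∈ A) :
    kp (y * b) a = kp y a := by
  have h1 := h.comm b hb _ (A.inv_mem ha)
  calc kp (y * b) a = a * y * (b * a⁻¹) * b⁻¹ * y⁻¹ := by unfold kp; group
    _ = kp y a := by rw [h1]; unfold kp; group

theorem kp_eq_one_iff {y a : Ω} : kp y a = 1 ↔ a * y = y * a := by
  unfold kp
  rw [mul_inv_eq_one, mul_inv_eq_iff_eq_mul]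

/-- the kernel of `[·, x]` is the centre. -/
theorem kp_eq_one (h : AbIdx p S A) (hS : IsPGroup p S) {x : Ω} (hx : x ∈ S) (hxA : x ∉ A)
    {a : Ω} (ha : a ∈ A) : kp x a = 1 ↔ a ∈ ZS S := by
  rw [kp_eq_one_iff]
  refine ⟨h.mem_ZS_of_comm hS hx hxA ha, fun hz => ?_⟩
  exact ((mem_ZS.1 hz).2 x hx).symm

/-- commutators of `S` are values of `[·, x]`. -/
theorem exists_kp_eq_commutator (h : AbIdx p S A) (hS : IsPGroup p S) {x : Ω} (hx : x ∈ S)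
    (hxA : x ∉ A) {s t : Ω} (hs : s ∈ S) (ht : t ∈ S) :
    s * t * s⁻¹ * t⁻¹ ∈ ((h.kapHom hS x hx).range.map A.subtype : Subgroup Ω) := by
  have hmem : ∀ a ∈ A, kp x a ∈ ((h.kapHom hS x hx).range.map A.subtype : Subgroup Ω) :=
    fun a ha => ⟨_, ⟨⟨a, ha⟩, rfl⟩, rfl⟩
  have hconj : ∀ n ∈ ((h.kapHom hS x hx).range.map A.subtype : Subgroup Ω),
      x * n * x⁻¹ ∈ ((h.kapHom hS x hx).range.map A.subtype : Subgroup Ω) := by
    rintro _ ⟨_, ⟨a, rfl⟩, rfl⟩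
    show x * kp x a * x⁻¹ ∈ _
    rw [conj_kp]
    exact hmem _ (h.conj_mem hS hx a.2)
  obtain ⟨i, a, ha, rfl⟩ := h.decompR hS hx hxA hs
  obtain ⟨j, b, hb, rfl⟩ := h.decompR hS hx hxA ht
  have h1 := h.comm _ (h.conj_mem hS (S.pow_mem hx i) hb) _
    (h.conj_mem hS (S.pow_mem hx j) (A.inv_mem ha))
  have h2 : a * x ^ i * (b * x ^ j) * (a * x ^ i)⁻¹ * (b * x ^ j)⁻¹ =
      kp (x ^ j) a * (kp (x ^ i) b)⁻¹ := by
    calc a * x ^ i * (b * x ^ j) * (a * x ^ i)⁻¹ * (b * x ^ j)⁻¹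
        = a * ((x ^ i * b * (x ^ i)⁻¹) * (x ^ j * a⁻¹ * (x ^ j)⁻¹)) * b⁻¹ := by group
      _ = a * ((x ^ j * a⁻¹ * (x ^ j)⁻¹) * (x ^ i * b * (x ^ i)⁻¹)) * b⁻¹ := by rw [h1]
      _ = kp (x ^ j) a * (kp (x ^ i) b)⁻¹ := by unfold kp; group
  rw [h2]
  exact Subgroup.mul_mem _ (kp_pow_mem (hmem a ha) hconj j)
    (Subgroup.inv_mem _ (kp_pow_mem (hmem b hb) hconj i))

theorem commutator_mem (h : AbIdx p S A) (hS : IsPGroup p S) {s t : Ω} (hs : s ∈ S) (ht : t ∈ S) :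
    s * t * s⁻¹ * t⁻¹ ∈ A := by
  by_cases hall : ∀ x ∈ S, x ∈ A
  · obtain ⟨s, hs, t, ht, hst⟩ := h.nonab
    exact absurd (h.comm s (hall s hs) t (hall t ht)) hst
  · push Not at hall
    obtain ⟨x, hx, hxA⟩ := hall
    obtain ⟨a, -, ha⟩ := h.exists_kp_eq_commutator hS hx hxA hs ht
    rw [← ha]
    exact a.2

theorem map_commutator_eq (S : Subgroup Ω) : (commutator ↥S).map S.subtype = ⁅S, S⁆ := by
  rw [commutator_def, Subgroup.map_commutator, ← MonoidHom.range_eq_map, Subgroup.range_subtype]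

/-- `[S, S]` is the image of `[·, x]`. -/
theorem map_commutator (h : AbIdx p S A) (hS : IsPGroup p S) {x : Ω} (hx : x ∈ S)
    (hxA : x ∉ A) : (commutator ↥S).map S.subtype = (h.kapHom hS x hx).range.map A.subtype := by
  rw [map_commutator_eq]
  apply le_antisymm
  · rw [Subgroup.commutator_le]
    intro s hs t ht
    rw [commutatorElement_def]
    exact h.exists_kp_eq_commutator hS hx hxA hs ht
  · rintro _ ⟨_, ⟨a, rfl⟩, rfl⟩
    show kp x a ∈ _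
    have := Subgroup.commutator_mem_commutator (h.le a.2) hx
    rwa [commutatorElement_def] at this

theorem mem_map_commutator (h : AbIdx p S A) (hS : IsPGroup p S) {x : Ω} (hx : x ∈ S)
    (hxA : x ∉ A) {d : Ω} : d ∈ (commutator ↥S).map S.subtype ↔ ∃ a ∈ A, kp x a = d := by
  rw [h.map_commutator hS hx hxA]
  constructor
  · rintro ⟨_, ⟨a, rfl⟩, rfl⟩
    exact ⟨a, a.2, rfl⟩
  · rintro ⟨a, ha, rfl⟩
    exact ⟨_, ⟨⟨a, ha⟩, rfl⟩, rfl⟩

omit [Fact p.Prime] [Finite S] in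
/-- the second centre. -/
theorem mem_Z2 {y : Ω} : y ∈ (upperCentralSeries ↥S 2).map S.subtype ↔
    y ∈ S ∧ ∀ s ∈ S, y * s * y⁻¹ * s⁻¹ ∈ ZS S := by
  have e : upperCentralSeries ↥S 2 = Subgroup.upperCentralSeries ↥S (1 + 1) := rfl
  rw [e]
  constructor
  · rintro ⟨y, hy, rfl⟩
    refine ⟨y.2, fun s hs => ?_⟩
    have h1 := (Subgroup.mem_upperCentralSeries_succ_iff.1 hy) ⟨s, hs⟩
    rw [Subgroup.upperCentralSeries_one, commutatorElement_def] at h1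
    rw [← map_center_eq_ZS]
    exact ⟨_, h1, rfl⟩
  · rintro ⟨hy, h1⟩
    refine ⟨⟨y, hy⟩, ?_, rfl⟩
    rw [SetLike.mem_coe, Subgroup.mem_upperCentralSeries_succ_iff]
    intro s
    rw [Subgroup.upperCentralSeries_one, commutatorElement_def]
    have h2 := h1 s s.2
    rw [← map_center_eq_ZS] at h2
    obtain ⟨w, hw, hw'⟩ := h2
    have : w = ⟨y, hy⟩ * s * (⟨y, hy⟩ : S)⁻¹ * s⁻¹ := Subtype.ext hw'
    rwa [← this]

omit [Finite S] in
theorem conj_ZS {z s : Ω} (hz : z ∈ ZS S) (hs : s ∈ S) : s * z * s⁻¹ = z := by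
  rw [(mem_ZS.1 hz).2 s hs, mul_inv_cancel_right]

/-- if `[a, y]` is central then so is `[a, s]` for all `s ∈ A ⟨y⟩`. -/
theorem kp_mem_ZS (h : AbIdx p S A) (hS : IsPGroup p S) {y : Ω} (hy : y ∈ S) (hyA : y ∉ A)
    {a : Ω} (ha : a ∈ A) (hk : kp y a ∈ ZS S) {s : Ω} (hs : s ∈ S) : kp s a ∈ ZS S := by
  obtain ⟨j, b, hb, rfl⟩ := h.decompL hS hy hyA hs
  rw [h.kp_mul_right ha hb]
  refine kp_pow_mem hk (fun n hn => ?_) j
  rw [conj_ZS hn hy]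
  exact hn

theorem mem_Z2_iff (h : AbIdx p S A) (hS : IsPGroup p S) {x : Ω} (hx : x ∈ S) (hxA : x ∉ A)
    {a : Ω} (ha : a ∈ A) : a ∈ (upperCentralSeries ↥S 2).map S.subtype ↔ kp x a ∈ ZS S := by
  rw [mem_Z2]
  constructor
  · rintro ⟨-, h1⟩
    exact h1 x hx
  · intro hk
    exact ⟨h.le ha, fun s hs => h.kp_mem_ZS hS hx hxA ha hk hs⟩

/-- if the second centre is not inside `A`, all commutators are central. -/
theorem kp_mem_ZS_of_Z2 (h : AbIdx p S A) (hS : IsPGroup p S) {y : Ω}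
    (hy : y ∈ (upperCentralSeries ↥S 2).map S.subtype) (hyA : y ∉ A) {a s : Ω} (ha : a ∈ A)
    (hs : s ∈ S) : kp s a ∈ ZS S := by
  rw [mem_Z2] at hy
  refine h.kp_mem_ZS hS hy.1 hyA ha ?_ hs
  have h1 := (ZS S).inv_mem (hy.2 a (h.le ha))
  have h2 : (y * a * y⁻¹ * a⁻¹)⁻¹ = kp y a := by unfold kp; group
  rwa [h2] at h1

end AbIdx

end Cfsg.Agent.Lib.Helper85
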