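import Cfsg.Agent.Lib.Helper85.FusRealNormal

set_option autoImplicit false

namespace Cfsg.Agent.Lib.Helper85

open Cfsg Cfsg.FusionSystem Cfsg.Agent.Lib.Helper84 Cfsg.Agent.S5256

variable {Ω : Type*} [Group Ω] {S : Subgroup Ω} {G : Type*} [Group G]

theorem realSub_normal [Finite S] [Finite G] {p : ℕ} [Fact p.Prime] {F : FusionSystem S}
    {ι : S →* G} (hr : F.IsRealizedBy ι) (T₀ : Sylow p G) (hT₀ : (T₀ : Subgroup G) = ι.range)
    (N : Subgroup G) [hN : N.Normal] : (realSub ι hr.1 N).IsNormalIn F p := by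
  have hrE := realSub_realized ι hr.1 N
  have hTS : preimageAlong ι N ≤ S := preimageAlong_le ι N
  have hSyl : SylIn p ((T₀ : Subgroup G) ⊓ N) N :=
    (sylIn_top' T₀).inf_normal le_top le_top (by rw [Subgroup.normalizer_eq_top])
  have hTp : IsPGroup p ((T₀ : Subgroup G) ⊓ N : Subgroup G) := hSyl.isPGroup inf_le_right
  have ιT' : ∀ x : preimageAlong ι N, ι ⟨x, hTS x.2⟩ ∈ (T₀ : Subgroup G) ⊓ N := fun x =>
    ⟨hT₀ ▸ ⟨_, rfl⟩, (mem_preimageAlong.mp x.2).2⟩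
  have memT' : ∀ z ∈ (T₀ : Subgroup G) ⊓ N, ∃ y : preimageAlong ι N, ι ⟨y, hTS y.2⟩ = z := by
    rintro z ⟨h1, h2⟩
    rw [hT₀] at h1
    obtain ⟨s, rfl⟩ := h1
    exact ⟨⟨s, mem_preimageAlong.mpr ⟨s.2, h2⟩⟩, rfl⟩
  have hsc : F.StronglyClosed (preimageAlong ι N) := by
    refine ⟨hTS, fun R hR φ hφ x => ?_⟩
    obtain ⟨g, hg⟩ := realized_exists_elt hr hφ
    refine mem_preimageAlong.mpr ⟨(F.le_of_mem hφ).2 x, ?_⟩
    rw [hg x]
    exact hN.conj_mem _ (mem_preimageAlong.mp (hR x.2)).2 g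
  refine ⟨⟨saturated_of_realized hrE (realSub_sylow ι T₀ hT₀ N),
    saturated_of_realized hr ⟨T₀, hT₀⟩, ?_, hsc, ?_, ?_⟩, ?_⟩
  · -- subsystem
    rintro P φ ⟨hP, hφ, g, -, h⟩
    exact (hr.2 P (hP.trans hTS) φ (fun x => hTS (hφ x))).mpr ⟨g, h⟩
  · -- invariance
    rintro P hPT φ ⟨hP', hφT, h, hhN, hh⟩ α hα
    obtain ⟨g, hg⟩ := realized_aut_elt hr hTS hα
    have key : ∀ (y : preimageAlong ι N) (hy : (y : Ω) ∈ P),
        (g * h * g⁻¹) * ι ⟨(α y : preimageAlong ι N), hTS (α y).2⟩ * (g * h * g⁻¹)⁻¹ =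
          ι ⟨(α ⟨φ ⟨y, hy⟩, hφT _⟩ : preimageAlong ι N), hTS (α _).2⟩ := by
      intro y hy
      rw [hg, hg]
      have h1 := hh ⟨y, hy⟩
      have h2 : ι ⟨((⟨φ ⟨y, hy⟩, hφT _⟩ : preimageAlong ι N) : Ω), hTS (hφT _)⟩ =
          h * ι ⟨y, hTS y.2⟩ * h⁻¹ := h1
      rw [h2]
      group
    have hP₁T : (P.subgroupOf (preimageAlong ι N)).map
        ((preimageAlong ι N).subtype.comp α.toMonoidHom) ≤ preimageAlong ι N := by
      rintro _ ⟨y, -, rfl⟩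
      exact (α y).2
    obtain ⟨χ, hχ, hχT, hχι⟩ := realized_exists_hom hrE hP₁T ⟨g * h * g⁻¹, hN.conj_mem h hhN g⟩ (by
      rintro ⟨_, y, hy, rfl⟩
      exact ⟨α ⟨φ ⟨y, hy⟩, hφT _⟩, Subtype.ext (key y hy).symm⟩)
    refine ⟨χ, hχ, fun x hφx hαx => ?_⟩
    have h1 := congrArg Subtype.val (hχι ⟨_, hαx⟩)
    have h2 := key ⟨x, hPT x.2⟩ x.2
    have h3 : ι ⟨χ ⟨_, hαx⟩, hTS (hχT _)⟩ =
      ι ⟨(α ⟨φ x, hφx⟩ : preimageAlong ι N), hTS (α _).2⟩ := h1.trans h2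
    exact congrArg (Subtype.val : S → Ω) (hr.1 h3)
  · -- Frattini
    rintro P hPT φ hφ
    obtain ⟨g, hg⟩ := realized_exists_elt hr hφ
    have hle : ((T₀ : Subgroup G) ⊓ N).map (MulAut.conj g⁻¹).toMonoidHom ≤ N := by
      rintro _ ⟨x, hx, rfl⟩
      exact hN.conj_mem x hx.2 g⁻¹
    obtain ⟨h, hhN, hhT⟩ := hSyl.exists_conj_le hle (hTp.map _)
    have hk : h * g⁻¹ ∈ Subgroup.normalizer (((T₀ : Subgroup G) ⊓ N : Subgroup G) : Set G) := by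
      apply Cfsg.Agent.S5118.mem_normalizer_of_map_le
      rintro _ ⟨x, hx, rfl⟩
      have := hhT ⟨_, ⟨x, hx, rfl⟩, rfl⟩
      have e : (MulAut.conj h).toMonoidHom ((MulAut.conj g⁻¹).toMonoidHom x) =
          (MulAut.conj (h * g⁻¹)).toMonoidHom x := by simp [mul_assoc]
      rw [e] at this
      exact this
    have hn : g * h⁻¹ ∈ Subgroup.normalizer (((T₀ : Subgroup G) ⊓ N : Subgroup G) : Set G) := by
      have := Subgroup.inv_mem _ hk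
      simpa using this
    have hφT : ∀ x : P, φ x ∈ preimageAlong ι N := fun x => hsc.2 P hPT φ hφ x
    obtain ⟨α, hα⟩ := realized_exists_aut hr hTS (g * h⁻¹) (fun x =>
      memT' _ (conj_mem_of_mem_normalizer hn (ιT' x)))
    have hφ₀ : ∀ x : P, h * ι ⟨x, hTS (hPT x.2)⟩ * h⁻¹ ∈ (T₀ : Subgroup G) ⊓ N := by
      intro x
      have := conj_mem_of_mem_normalizer hk (ιT' ⟨φ x, hφT x⟩)
      have e0 : ι ⟨((⟨φ x, hφT x⟩ : preimageAlong ι N) : Ω), hTS (hφT x)⟩ =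
          g * ι ⟨x, hTS (hPT x.2)⟩ * g⁻¹ := hg x
      rw [e0] at this
      have e : h * g⁻¹ * (g * ι ⟨x, hTS (hPT x.2)⟩ * g⁻¹) * (h * g⁻¹)⁻¹ =
          h * ι ⟨x, hTS (hPT x.2)⟩ * h⁻¹ := by group
      rwa [e] at this
    obtain ⟨φ₀, hφ₀E, hφ₀T, hφ₀ι⟩ := realized_exists_hom hrE hPT ⟨h, hhN⟩ (by
      intro x
      obtain ⟨y, hy⟩ := memT' _ (hφ₀ x)
      exact ⟨y, Subtype.ext hy⟩)
    refine ⟨α, α.2, φ₀, hφ₀E, fun x hx => ?_⟩
    have h1 := hα ⟨φ₀ x, hx⟩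
    have h2 : ι ⟨φ₀ x, hTS hx⟩ = h * ι ⟨x, hTS (hPT x.2)⟩ * h⁻¹ :=
      congrArg Subtype.val (hφ₀ι x)
    have h3 : ι ⟨((⟨φ₀ x, hx⟩ : preimageAlong ι N) : Ω), hTS hx⟩ =
        h * ι ⟨x, hTS (hPT x.2)⟩ * h⁻¹ := h2
    rw [h3] at h1
    have h4 : ι ⟨φ x, (F.le_of_mem hφ).2 x⟩ =
        ι ⟨(((α : MulAut ↥(preimageAlong ι N)) ⟨φ₀ x, hx⟩ : preimageAlong ι N) : Ω),
          hTS ((α : MulAut ↥(preimageAlong ι N)) _).2⟩ := by
      rw [h1]
      refine (hg x).trans ?_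
      group
    exact congrArg (Subtype.val : S → Ω) (hr.1 h4)
  · -- extension condition
    intro α hα
    obtain ⟨n, hn⟩ := realized_aut_elt hrE le_rfl hα
    have hn' : ∀ x : preimageAlong ι N, ι ⟨(α x : preimageAlong ι N), hTS (α x).2⟩ =
        (n : G) * ι ⟨x, hTS x.2⟩ * (n : G)⁻¹ := fun x => congrArg Subtype.val (hn x)
    have hnT : (n : G) ∈ Subgroup.normalizer (((T₀ : Subgroup G) ⊓ N : Subgroup G) : Set G) := by
      apply Lib.Helper85.mem_normalizer_of_finite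
      intro z hz
      obtain ⟨y, rfl⟩ := memT' z hz
      rw [← hn']
      exact ιT' _
    obtain ⟨a, ha, haX⟩ := Cfsg.Agent.S5118.exists_ext T₀ N n.2 hnT
    have hact : ∀ x ∈ (T₀ : Subgroup G) ⊓ N, a * n * x * (a * n)⁻¹ = n * x * (n : G)⁻¹ := by
      intro x hx
      have h1 := (Subgroup.mem_centralizer_iff.1 ha.2) _ (conj_mem_of_mem_normalizer hnT hx)
      calc a * n * x * (a * n)⁻¹ = a * (n * x * (n : G)⁻¹) * a⁻¹ := by group
        _ = (n * x * (n : G)⁻¹) * a * a⁻¹ := by rw [h1]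
        _ = _ := by group
    have hXS : centralizerIn S (preimageAlong ι N) ≤ S := inf_le_left
    have ιX : ∀ (c : Ω) (hc : c ∈ centralizerIn S (preimageAlong ι N)),
        ι ⟨c, hXS hc⟩ ∈ centralizerIn (T₀ : Subgroup G) ((T₀ : Subgroup G) ⊓ N) := by
      intro c hc
      refine ⟨hT₀ ▸ ⟨_, rfl⟩, ?_⟩
      apply Subgroup.mem_centralizer_iff.2
      intro z hz
      obtain ⟨y, rfl⟩ := memT' z hz
      rw [← map_mul, ← map_mul]
      congr 1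
      exact Subtype.ext ((Subgroup.mem_centralizer_iff.1 hc.2) y y.2)
    have memX' : ∀ z ∈ centralizerIn (T₀ : Subgroup G) ((T₀ : Subgroup G) ⊓ N),
        ∃ (c : Ω) (hc : c ∈ centralizerIn S (preimageAlong ι N)), ι ⟨c, hXS hc⟩ = z := by
      rintro z ⟨h1, h2⟩
      rw [hT₀] at h1
      obtain ⟨s, rfl⟩ := h1
      refine ⟨s, ⟨s.2, ?_⟩, rfl⟩
      apply Subgroup.mem_centralizer_iff.2
      intro y hy
      have h3 := (Subgroup.mem_centralizer_iff.1 h2) _ (ιT' ⟨y, hy⟩)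
      rw [← map_mul, ← map_mul] at h3
      exact congrArg (Subtype.val : S → Ω) (hr.1 h3)
    have hQS : preimageAlong ι N ⊔ centralizerIn S (preimageAlong ι N) ≤ S := sup_le hTS hXS
    have hcond : preimageAlong ι N ⊔ centralizerIn S (preimageAlong ι N) ≤
        ((imageAlong ι (preimageAlong ι N ⊔ centralizerIn S (preimageAlong ι N))).comap
          ((MulAut.conj (a * n)).toMonoidHom.comp ι)).map S.subtype := by
      refine sup_le ?_ ?_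
      · intro y hy
        refine ⟨⟨y, hTS hy⟩, ?_, rfl⟩
        rw [SetLike.mem_coe, Subgroup.mem_comap]
        show a * n * ι ⟨y, hTS hy⟩ * (a * n)⁻¹ ∈ _
        rw [hact _ (ιT' ⟨y, hy⟩), ← hn' ⟨y, hy⟩]
        exact ⟨_, (le_sup_left : preimageAlong ι N ≤ _) (α ⟨y, hy⟩).2, rfl⟩
      · intro c hc
        refine ⟨⟨c, hXS hc⟩, ?_, rfl⟩
        rw [SetLike.mem_coe, Subgroup.mem_comap]
        show a * n * ι ⟨c, hXS hc⟩ * (a * n)⁻¹ ∈ _
        obtain ⟨c', hc', h1⟩ := memX' _ (haX ⟨_, ιX c hc, rfl⟩)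
        exact ⟨⟨c', hXS hc'⟩, (le_sup_right : centralizerIn S (preimageAlong ι N) ≤ _) hc', h1⟩
    obtain ⟨β, hβ⟩ := realized_exists_aut hr hQS (a * n) (by
      intro x
      obtain ⟨s, hs, hsx⟩ := hcond x.2
      obtain ⟨y, hy, hys⟩ := hs
      refine ⟨⟨y, hy⟩, ?_⟩
      have e : s = ⟨x, hQS x.2⟩ := Subtype.ext hsx
      rw [← e]
      exact hys)
    refine ⟨β, β.2, ?_, ?_⟩
    · intro x
      have h1 := hβ (Subgroup.inclusion le_sup_left x)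
      have h2 : ι ⟨((Subgroup.inclusion (le_sup_left : preimageAlong ι N ≤
          preimageAlong ι N ⊔ centralizerIn S (preimageAlong ι N)) x : _) : Ω),
          hQS (Subgroup.inclusion le_sup_left x).2⟩ = ι ⟨x, hTS x.2⟩ := rfl
      rw [h2, hact _ (ιT' x), ← hn' x] at h1
      exact congrArg (Subtype.val : S → Ω) (hr.1 h1)
    · intro c hc
      have h0 := hβ c
      have h1 : a * n * ι ⟨c, hQS c.2⟩ * (a * n)⁻¹ ∈
          centralizerIn (T₀ : Subgroup G) ((T₀ : Subgroup G) ⊓ N) := haX ⟨_, ιX c hc, rfl⟩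
      have h2 : (ι ⟨c, hQS c.2⟩)⁻¹ * (a * n * ι ⟨c, hQS c.2⟩ * (a * n)⁻¹) ∈
          centralizerIn (T₀ : Subgroup G) ((T₀ : Subgroup G) ⊓ N) :=
        Subgroup.mul_mem _ (Subgroup.inv_mem _ (ιX c hc)) h1
      have hanH : a * n ∈ N := N.mul_mem ha.1 n.2
      have h3 : (ι ⟨c, hQS c.2⟩)⁻¹ * (a * n * ι ⟨c, hQS c.2⟩ * (a * n)⁻¹) ∈ N := by
        have h4 := hN.conj_mem _ hanH (ι ⟨c, hQS c.2⟩)⁻¹
        rw [inv_inv] at h4
        have e : (ι ⟨c, hQS c.2⟩)⁻¹ * (a * n * ι ⟨c, hQS c.2⟩ * (a * n)⁻¹) =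
            (ι ⟨c, hQS c.2⟩)⁻¹ * (a * n) * ι ⟨c, hQS c.2⟩ * (a * n)⁻¹ := by group
        rw [e]
        exact N.mul_mem h4 (N.inv_mem hanH)
      obtain ⟨c', hc', h5⟩ := memX' _ h2
      rw [← h0, ← map_inv, ← map_mul] at h5 h3
      have h6 : c' = (c : Ω)⁻¹ * (((β : MulAut _) c : _) : Ω) :=
        congrArg (Subtype.val : S → Ω) (hr.1 h5)
      rw [← h6]
      refine ⟨mem_preimageAlong.mpr ⟨hXS hc', ?_⟩, hc'.2⟩
      rw [h5]
      exact h3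

end Cfsg.Agent.Lib.Helper85
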