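import Cfsg.Agent.Lib.Helper85.FusConstr
import Cfsg.Agent.Lib.Helper85.FusRealNormal2

set_option autoImplicit false

/-! Transport of constrainedness (helper85). -/

namespace Cfsg.Agent.Lib.Helper85

open Cfsg Cfsg.FusionSystem Cfsg.Agent.Lib.Helper84 Cfsg.Agent.Lib.Helper87

variable {Ω : Type*} [Group Ω] {S : Subgroup Ω} {Ω' : Type*} [Group Ω'] {S' : Subgroup Ω'}

theorem fs_ext {E₁ E₂ : FusionSystem S} (h : ∀ P, E₁.Hom P = E₂.Hom P) : E₁ = E₂ := by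
  cases E₁
  cases E₂
  congr
  funext P
  exact h P

theorem constrained_congr {p : ℕ} {T₁ T₂ : Subgroup Ω} (E₁ : FusionSystem T₁)
    (E₂ : FusionSystem T₂) (hT : T₁ = T₂) (h : ∀ P, E₁.Hom P = E₂.Hom P)
    (h₁ : E₁.IsConstrained p) : E₂.IsConstrained p := by
  subst hT
  rw [← fs_ext h]
  exact h₁

theorem range_eq_of_isNormal (F : FusionSystem S) {Q : Subgroup Ω} (hQ : F.IsNormal Q)
    {φ : Q →* Ω} (hφ : φ ∈ F.Hom Q) : φ.range = Q := by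
  obtain ⟨ψ, -, h1, h2⟩ := hQ.2 Q φ hφ
  rw [← map_subgroupOf_left_eq_range ψ φ h1]
  have e : Q.subgroupOf (Q ⊔ Q) = Q.subgroupOf (Q ⊔ Q) := rfl
  exact h2

theorem constrained_iff (F : FusionSystem S) (p : ℕ) :
    F.IsConstrained p ↔ F.IsSaturated p ∧ ∃ Q, F.IsNormal Q ∧ centralizerIn S Q ≤ Q := by
  constructor
  · rintro ⟨h1, Q, h2, h3⟩
    exact ⟨h1, Q, h2, h3.2 Q (isConj_refl F h2.1)⟩
  · rintro ⟨h1, Q, h2, h3⟩
    refine ⟨h1, Q, h2, h2.1, ?_⟩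
    rintro Q' ⟨φ, hφ, rfl⟩
    rw [range_eq_of_isNormal F h2 hφ]
    exact h3

theorem imageAlong_mono (θ : S →* Ω') {P Q : Subgroup Ω} (h : P ≤ Q) :
    imageAlong θ P ≤ imageAlong θ Q := by
  rintro _ ⟨x, hx, rfl⟩
  exact ⟨x, h hx, rfl⟩

/-- the image of a normal subgroup under a surjective morphism is normal. -/
theorem isNormal_image (F : FusionSystem S) (F' : FusionSystem S') (θ : S →* Ω')
    (hsm : F.IsSurjectiveMorphism F' θ) {Q : Subgroup Ω} (hQ : F.IsNormal Q) :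
    F'.IsNormal (imageAlong θ Q) := by
  obtain ⟨⟨hθS', hmor⟩, hrange, hsurj⟩ := hsm
  refine ⟨imageAlong_le θ hθS' Q, fun P' φ' hφ' => ?_⟩
  have hP' : P' ≤ S' := (F'.le_of_mem hφ').1
  obtain ⟨φ, hφ, a1, a2, a3, a4⟩ := hsurj P' hP' φ' hφ'
  obtain ⟨ψ, hψ, b1, b2⟩ := hQ.2 _ φ hφ
  obtain ⟨ψ', hψ', c1, c2, c3, c4⟩ := hmor _ ψ hψ
  have hle : P' ⊔ imageAlong θ Q ≤ imageAlong θ (preimageAlong θ P' ⊔ Q) :=
    sup_le ((le_image_preimage θ (hrange ▸ hP')).trans (imageAlong_mono θ le_sup_left))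
      (imageAlong_mono θ le_sup_right)
  obtain ⟨d1, d2⟩ := (map_subgroupOf_eq_iff ψ).mp b2
  refine ⟨ψ'.comp (Subgroup.inclusion hle), Lib.Helper85.restrict_mem F' hψ' hle, ?_, ?_⟩
  · intro x'
    obtain ⟨x, hx⟩ := preimageMap_surjective θ (hrange ▸ hP' : P' ≤ θ.range) x'
    have e1 := c4 (Subgroup.inclusion le_sup_left x)
    have e2 := a4 x
    have e3 : (⟨θ ⟨x, a1 x.2⟩, a3 x⟩ : P') = x' := hx
    rw [e3] at e2
    rw [e2]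
    have e4 : (ψ'.comp (Subgroup.inclusion hle)) (Subgroup.inclusion le_sup_left x') =
        ψ' ⟨θ ⟨(Subgroup.inclusion (le_sup_left : preimageAlong θ P' ≤ _ ⊔ Q) x : _),
          c1 (Subgroup.inclusion le_sup_left x).2⟩, c3 _⟩ := by
      show ψ' _ = ψ' _
      congr 1
      apply Subtype.ext
      exact (congrArg Subtype.val hx).symm
    rw [e4, e1]
    congr 1
    exact Subtype.ext (b1 x)
  · rw [map_subgroupOf_eq_iff]
    have key : ∀ (q : Ω) (hq : q ∈ Q) (h : θ ⟨q, hQ.1 hq⟩ ∈ P' ⊔ imageAlong θ Q),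
        (ψ'.comp (Subgroup.inclusion hle)) ⟨θ ⟨q, hQ.1 hq⟩, h⟩ =
          θ ⟨ψ ⟨q, (le_sup_right : Q ≤ preimageAlong θ P' ⊔ Q) hq⟩, c2 _⟩ := by
      intro q hq h
      exact c4 ⟨q, (le_sup_right : Q ≤ preimageAlong θ P' ⊔ Q) hq⟩
    constructor
    · rintro ⟨_, hx⟩ ⟨⟨q, hqS⟩, hq, rfl⟩
      have hq' : q ∈ Q := hq
      have := key q hq' hx
      rw [this]
      exact ⟨_, d1 ⟨q, (le_sup_right : Q ≤ preimageAlong θ P' ⊔ Q) hq'⟩ hq', rfl⟩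
    · rintro _ ⟨q₁, hq₁, rfl⟩
      obtain ⟨q, hq, hqq⟩ := d2 q₁ hq₁
      have hmem : θ ⟨q, hQ.1 hq⟩ ∈ P' ⊔ imageAlong θ Q :=
        (le_sup_right : imageAlong θ Q ≤ _) ⟨⟨q, hQ.1 hq⟩, hq, rfl⟩
      refine ⟨⟨θ ⟨q, hQ.1 hq⟩, hmem⟩, ⟨⟨q, hQ.1 hq⟩, hq, rfl⟩, ?_⟩
      rw [key q hq hmem]
      congr 1
      exact Subtype.ext hqq

end Cfsg.Agent.Lib.Helper85
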