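import Cfsg.Agent.Lib.Helper85.FusConstr2

set_option autoImplicit false

/-! Constrainedness passes to subnormal subgroups (helper85). -/

namespace Cfsg.Agent.Lib.Helper85

open Cfsg Cfsg.FusionSystem Cfsg.Agent.Lib.Helper84 Cfsg.Agent.Lib.Helper87

variable {Ω : Type*} [Group Ω] {S : Subgroup Ω} {G : Type*} [Group G]

theorem realized_surjectiveMorphism_fwd {F : FusionSystem S} {ι : S →* G}
    (hr : F.IsRealizedBy ι) : F.IsSurjectiveMorphism (groupFusionSystem ι.range) ι := by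
  refine ⟨⟨fun s => ⟨s, rfl⟩, ?_⟩, rfl, ?_⟩
  · intro P φ hφ
    obtain ⟨g, hg⟩ := realized_exists_elt hr hφ
    have hPS := (F.le_of_mem hφ).1
    have hφS := (F.le_of_mem hφ).2
    refine ⟨conjHom _ g, ⟨imageAlong_le (S' := ι.range) ι (fun s => ⟨s, rfl⟩) P, ?_, g,
      fun _ => rfl⟩, hPS, hφS,
      fun x => ⟨⟨x, hPS x.2⟩, x.2, rfl⟩, fun x => ?_⟩
    · rintro ⟨_, x, hx, rfl⟩
      show g * ι x * g⁻¹ ∈ ι.range
      exact ⟨_, hg ⟨x, hx⟩⟩
    · exact (hg x).symm
  · intro P' hP' φ' hφ'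
    obtain ⟨-, hφ'r, g, hg⟩ := hφ'
    obtain ⟨φ, hφ, hφS, h⟩ := realized_exists_hom hr (preimageAlong_le ι P') g (fun x => by
      have hx := (mem_preimageAlong.mp x.2).2
      rw [← hg ⟨_, hx⟩]
      exact hφ'r _)
    refine ⟨φ, hφ, preimageAlong_le ι P', hφS, fun x => (mem_preimageAlong.mp x.2).2,
      fun x => ?_⟩
    rw [h x, hg]

theorem constrained_groupFus_of_realized [Finite G] {p : ℕ} [Fact p.Prime]
    {F : FusionSystem S} {ι : S →* G} (hr : F.IsRealizedBy ι) (T₀ : Sylow p G)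
    (hT₀ : (T₀ : Subgroup G) = ι.range) (hF : F.IsConstrained p) :
    (groupFusionSystem ι.range).IsConstrained p := by
  obtain ⟨-, Q, hQn, hQc⟩ := (constrained_iff F p).mp hF
  refine (constrained_iff _ p).mpr ⟨hT₀ ▸ Cfsg.Agent.S5076.result p T₀, imageAlong ι Q,
    isNormal_image F _ ι (realized_surjectiveMorphism_fwd hr) hQn, ?_⟩
  rintro c ⟨⟨s, rfl⟩, hc⟩
  refine ⟨s, hQc ⟨s.2, ?_⟩, rfl⟩
  apply Subgroup.mem_centralizer_iff.2
  intro q hq
  have := (Subgroup.mem_centralizer_iff.1 hc) (ι ⟨q, hQn.1 hq⟩) ⟨_, hq, rfl⟩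
  rw [← map_mul, ← map_mul] at this
  exact congrArg (Subtype.val : S → Ω) (hr.1 this)

theorem fusSub_realized {K T : Subgroup G} (hTK : T ≤ K) :
    (fusionSystemOfSubgroup K T hTK).IsRealizedBy (Subgroup.inclusion hTK) := by
  refine ⟨Subgroup.inclusion_injective hTK, fun P hP φ hφ => ?_⟩
  constructor
  · rintro ⟨-, -, g, hg, h⟩
    exact ⟨⟨g, hg⟩, fun x => Subtype.ext (h x)⟩
  · rintro ⟨g, h⟩
    exact ⟨hP, hφ, g, g.2, fun x => congrArg Subtype.val (h x)⟩

/-- one step: from `K` to a normal subgroup `H` of `K`. -/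
theorem fusSub_constrained_step [Finite G] {p : ℕ} [Fact p.Prime] (S K H : Subgroup G)
    (hHK : H ≤ K) (hN : (H.subgroupOf K).Normal) (hSyl : SylIn p (S ⊓ K) K)
    (hc : (fusionSystemOfSubgroup K (S ⊓ K) inf_le_right).IsConstrained p) :
    SylIn p (S ⊓ H) H ∧ (fusionSystemOfSubgroup H (S ⊓ H) inf_le_right).IsConstrained p := by
  have hKN : K ≤ Subgroup.normalizer (H : Set G) := by
    intro k hk
    apply Lib.Helper85.mem_normalizer_of_finite
    intro h hh
    exact hN.conj_mem ⟨h, hHK hh⟩ hh ⟨k, hk⟩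
  have e0 : S ⊓ K ⊓ H = S ⊓ H := by rw [inf_assoc, inf_eq_right.mpr hHK]
  refine ⟨e0 ▸ hSyl.inf_normal inf_le_right hHK hKN, ?_⟩
  have hr := fusSub_realized (inf_le_right : S ⊓ K ≤ K)
  obtain ⟨R, hR⟩ := hSyl
  have hR' : (R : Subgroup K) = (Subgroup.inclusion (inf_le_right : S ⊓ K ≤ K)).range := by
    rw [hR, Subgroup.inclusion_range]
  have hp : IsPGroup p ↥(S ⊓ K) := by
    have h1 : IsPGroup p ((S ⊓ K).subgroupOf K) := hR ▸ R.isPGroup'
    exact h1.of_equiv (Subgroup.subgroupOfEquivOfLe inf_le_right)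
  have hnorm := realSub_normal hr R hR' (H.subgroupOf K)
  have hcon := constrained_of_normalIn hp _ hc _ hnorm
  have hT : preimageAlong (Subgroup.inclusion (inf_le_right : S ⊓ K ≤ K)) (H.subgroupOf K) =
      S ⊓ H := by
    ext x
    rw [mem_preimageAlong]
    constructor
    · rintro ⟨h1, h2⟩
      exact ⟨h1.1, h2⟩
    · rintro ⟨h1, h2⟩
      exact ⟨⟨h1, hHK h2⟩, h2⟩
  refine constrained_congr _ _ hT (fun P => ?_) hcon
  ext φ
  constructor
  · rintro ⟨hP, hφ, g, hg, h⟩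
    exact ⟨hT ▸ hP, fun x => hT ▸ hφ x, g, hg, fun x => congrArg Subtype.val (h x)⟩
  · rintro ⟨hP, hφ, g, hg, h⟩
    exact ⟨hT.symm ▸ hP, fun x => hT.symm ▸ hφ x, ⟨g, hHK hg⟩, hg, fun x => Subtype.ext (h x)⟩

theorem fusSub_constrained_of_subnormal [Finite G] {p : ℕ} [Fact p.Prime] (S : Sylow p G)
    (hF : (groupFusionSystem (S : Subgroup G)).IsConstrained p) {H : Subgroup G}
    (hH : H.IsSubnormal) : SylIn p ((S : Subgroup G) ⊓ H) H ∧
      (fusionSystemOfSubgroup H ((S : Subgroup G) ⊓ H) inf_le_right).IsConstrained p := by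
  induction hH with
  | top =>
    refine ⟨?_, ?_⟩
    · rw [inf_top_eq]; exact sylIn_top' S
    · refine constrained_congr _ _ (inf_top_eq _).symm (fun P => ?_) hF
      ext φ
      constructor
      · rintro ⟨hP, hφ, g, h⟩
        exact ⟨by rwa [inf_top_eq], fun x => by rw [inf_top_eq]; exact hφ x, g, trivial, h⟩
      · rintro ⟨hP, hφ, g, -, h⟩
        exact ⟨by rwa [inf_top_eq] at hP, fun x => by have := hφ x; rwa [inf_top_eq] at this, g, h⟩
  | step H K hHK _ hN ih => exact fusSub_constrained_step _ K H hHK hN ih.1 ih.2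

theorem groupFus_subgroupOf_constrained [Finite G] {p : ℕ} [Fact p.Prime] (S : Sylow p G)
    (hF : (groupFusionSystem (S : Subgroup G)).IsConstrained p) {H : Subgroup G}
    (hH : H.IsSubnormal) : (groupFusionSystem ((S : Subgroup G).subgroupOf H)).IsConstrained p := by
  obtain ⟨⟨R, hR⟩, hc⟩ := fusSub_constrained_of_subnormal S hF hH
  have hrange : (Subgroup.inclusion (inf_le_right : (S : Subgroup G) ⊓ H ≤ H)).range =
      (S : Subgroup G).subgroupOf H := by
    rw [Subgroup.inclusion_range, Subgroup.inf_subgroupOf_right]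
  have hR' : (R : Subgroup H) = (Subgroup.inclusion (inf_le_right : (S : Subgroup G) ⊓ H ≤ H)).range := by
    rw [hR, Subgroup.inclusion_range]
  have := constrained_groupFus_of_realized (fusSub_realized _) R hR' hc
  rwa [hrange] at this

end Cfsg.Agent.Lib.Helper85
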