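import Cfsg.Agent.Lib.Helper85.FusConstr3
import Cfsg.Agent.S5133
import Cfsg.Agent.S5134
import Cfsg.Agent.S5135

set_option autoImplicit false

/-! The factor system of a constrained system modulo a central subgroup is constrained
(helper85). -/

namespace Cfsg.Agent.Lib.Helper85

open Cfsg Cfsg.FusionSystem Cfsg.Agent.Lib.Helper84 Cfsg.Agent.Lib.Helper87

variable {Ω : Type*} [Group Ω] {S : Subgroup Ω} {Ω' : Type*} [Group Ω'] {S' : Subgroup Ω'}

theorem isNormal_of_isCentral (F : FusionSystem S) {Z : Subgroup Ω} (hZ : F.IsCentral Z) :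
    F.IsNormal Z := by
  refine ⟨hZ.1, fun P φ hφ => ?_⟩
  obtain ⟨ψ, hψ, h1, h2⟩ := hZ.2 P φ hφ
  refine ⟨ψ, hψ, h1, ?_⟩
  rw [map_subgroupOf_eq_iff]
  constructor
  · intro x hx
    have := h2 ⟨x, hx⟩
    have e : Subgroup.inclusion (le_sup_right : Z ≤ P ⊔ Z) ⟨x, hx⟩ = x := Subtype.ext rfl
    rw [e] at this
    rw [this]
    exact hx
  · intro y hy
    exact ⟨Subgroup.inclusion le_sup_right ⟨y, hy⟩, hy, h2 ⟨y, hy⟩⟩

theorem sc_top (F : FusionSystem S) : F.StronglyClosed S :=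
  ⟨le_rfl, fun _ _ _ hφ x => (F.le_of_mem hφ).2 x⟩

theorem sc_preimage (F : FusionSystem S) (F' : FusionSystem S') (θ : S →* Ω')
    (hm : F.IsMorphism F' θ) {C' : Subgroup Ω'} (hC' : F'.StronglyClosed C') :
    F.StronglyClosed (preimageAlong θ C') := by
  refine ⟨preimageAlong_le θ C', fun P hP φ hφ x => ?_⟩
  obtain ⟨φ', hφ', h1, h2, h3, h4⟩ := hm.2 P φ hφ
  refine mem_preimageAlong.mpr ⟨h2 x, ?_⟩
  rw [← h4 x]
  exact sc_map_mem hC' hφ' _ (mem_preimageAlong.mp (hP x.2)).2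

theorem constrained_factor_central [Finite S] {p : ℕ} [Fact p.Prime] (hS : IsPGroup p S)
    (F : FusionSystem S) (hF : F.IsConstrained p) {Z : Subgroup Ω} (hZ : F.IsCentral Z)
    (θ : S →* Ω') (F' : FusionSystem S') (hfac : F.IsFactorSystem Z θ F') :
    F'.IsConstrained p := by
  obtain ⟨hFsat, Q₀, hQ₀n, hQ₀c⟩ := hF
  have hZsc : F.StronglyClosed Z := stronglyClosed_of_isCentral F hZ
  have hsm := Cfsg.Agent.S5134.result p hS F hFsat Z hZsc θ F' hfac
  have hF'sat := Cfsg.Agent.S5133.result p hS F hFsat F' θ hsm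
  obtain ⟨-, hker, hrange, -⟩ := hfac
  have hQn : F.IsNormal F.core := isNormal_core F
  have hQS : F.core ≤ S := hQn.1
  have hQc : F.IsCentric F.core := Cfsg.Agent.Lib.Helper86.centric_of_le F hQ₀c (le_sSup hQ₀n) hQS
  obtain ⟨hQsc, hQrad⟩ := (Cfsg.Agent.S5086.result p hS F hFsat F.core).mp hQn
  have hZQ : Z ≤ F.core := le_sSup (isNormal_of_isCentral F hZ)
  have hQ'n : F'.IsNormal (imageAlong θ F.core) := isNormal_image F F' θ hsm hQn
  have hC'sc : F'.StronglyClosed (centralizerIn S' (imageAlong θ F.core)) :=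
    sc_centralizerIn F' (sc_top F') hQ'n
  have hDsc := sc_preimage F F' θ hsm.1 hC'sc
  have hDrad : ∀ P : Subgroup Ω, F.IsCentric P → F.IsRadical p P →
      preimageAlong θ (centralizerIn S' (imageAlong θ F.core)) ≤ P := by
    intro P hc hr
    by_contra hcon
    obtain ⟨u, huD, huN, huP⟩ := exists_mem_normalizing_not_mem hS hDsc.1 hc.1
      (hc.1.trans (sc_le_normalizer hDsc)) hcon
    apply huP
    have hQP : F.core ≤ P := hQrad P hc hr
    have huS : u ∈ S := hDsc.1 huD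
    have i1 := aut_mem_iff_of_sc F hQsc hQP hc.1
    have i2 := aut_mem_iff_of_sc F hZsc (hZQ.trans hQP) hc.1
    refine mem_of_radical_centric F hc hr huS huN
      (chainStab (F.autGroup P) Z F.core hZQ i1 i2)
      (chainStab_normal _ _ _ _ _ _)
      (chainStab_isPGroup hS hc.1 _ _ _ _ hQP (hQc.2 _ (isConj_refl F hQS))
        (fun x hx q hq => sc_conj_mem hQsc (hc.1 hx) hq) _ _) ?_
    intro h x
    refine ⟨fun hx => ?_, fun hx => ?_⟩
    · apply Subtype.ext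
      exact apply_eq_of_isCentral F hZ (F.conj_mem hc.1 huS) x hx
    · show (x : Ω)⁻¹ * (u * (x : Ω) * u⁻¹) ∈ Z
      obtain ⟨hu1, hu2⟩ := mem_preimageAlong.mp huD
      have h1 := (Subgroup.mem_centralizer_iff.1 hu2.2) (θ ⟨x, hc.1 x.2⟩) ⟨_, hx, rfl⟩
      apply (hker (⟨x, hc.1 x.2⟩⁻¹ * (⟨u, huS⟩ * ⟨x, hc.1 x.2⟩ * ⟨u, huS⟩⁻¹))).mp
      rw [map_mul, map_mul, map_mul, map_inv, map_inv, ← h1]
      group
  have hDn : F.IsNormal (preimageAlong θ (centralizerIn S' (imageAlong θ F.core))) :=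
    (Cfsg.Agent.S5086.result p hS F hFsat _).mpr ⟨hDsc, hDrad⟩
  refine (constrained_iff F' p).mpr ⟨hF'sat, _, hQ'n, ?_⟩
  intro c' hc'
  have hc'r : c' ∈ θ.range := hrange ▸ hc'.1
  obtain ⟨c, rfl⟩ := hc'r
  have h1 : (c : Ω) ∈ preimageAlong θ (centralizerIn S' (imageAlong θ F.core)) :=
    mem_preimageAlong.mpr ⟨c.2, hc'⟩
  exact ⟨c, (le_sSup hDn : _ ≤ F.core) h1, rfl⟩

theorem groupFus_isCentral {G : Type*} [Group G] (S : Subgroup G) :
    (groupFusionSystem S).IsCentral (S ⊓ Subgroup.center G) := by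
  refine ⟨inf_le_left, ?_⟩
  rintro P φ ⟨hP, hφ, g, hg⟩
  have hz : ∀ z ∈ S ⊓ Subgroup.center G, g * z * g⁻¹ = z := by
    intro z hz
    rw [(Subgroup.mem_center_iff.mp hz.2) g]
    group
  refine ⟨conjHom _ g, ⟨sup_le hP inf_le_left, ?_, g, fun _ => rfl⟩, fun x => (hg x).symm,
    fun x => hz x x.2⟩
  have h := map_sup_mem (P' := S) (Q' := S) (conjHom (P ⊔ (S ⊓ Subgroup.center G)) g)
    (fun x => by
      show g * (x : G) * g⁻¹ ∈ S
      rw [← hg]; exact hφ x)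
    (fun x => by
      show g * (x : G) * g⁻¹ ∈ S
      rw [hz x x.2]; exact x.2.1)
  intro x
  have := h x
  rwa [sup_idem] at this

end Cfsg.Agent.Lib.Helper85
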