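import Cfsg.Agent.Lib.Helper85.FusInduct
import Cfsg.Agent.Lib.Helper85.FusBasic

set_option autoImplicit false

/-! Systems invariant under a group `A` of automorphisms of `T`, and the system `A ∘ E` (helper85). -/

namespace Cfsg.Agent.Lib.Helper85

open Cfsg Cfsg.FusionSystem Cfsg.Agent.Lib.Helper84

variable {Ω : Type*} [Group Ω] {T : Subgroup Ω}

/-- `E` is invariant under the group `A` of automorphisms of `T`: `α φ α⁻¹` is a map of `E` on every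
subgroup `P'` with `α⁻¹(P') ≤ P`. -/
def AutInv (E : FusionSystem T) (A : Subgroup (MulAut T)) : Prop :=
  ∀ (P P' : Subgroup Ω) (φ : P →* Ω) (hφ : φ ∈ E.Hom P), ∀ α ∈ A, ∀ (hP' : P' ≤ T)
    (h : ∀ y : P', ((α⁻¹ ⟨y, hP' y.2⟩ : T) : Ω) ∈ P),
    ∃ χ ∈ E.Hom P', ∀ y : P', χ y = ((α ⟨φ ⟨_, h y⟩, (E.le_of_mem hφ).2 _⟩ : T) : Ω)

/-- The form of the invariance condition used in `IsInvariantIn`. -/
def AutInv' (E : FusionSystem T) (A : Subgroup (MulAut T)) : Prop :=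
  ∀ (P : Subgroup Ω) (hPT : P ≤ T) (φ : P →* Ω), φ ∈ E.Hom P → ∀ α ∈ A,
      ∃ χ ∈ E.Hom ((P.subgroupOf T).map (T.subtype.comp α.toMonoidHom)),
        ∀ (x : P) (hφx : φ x ∈ T)
          (hαx : ((α ⟨x, hPT x.2⟩ : T) : Ω) ∈ (P.subgroupOf T).map (T.subtype.comp α.toMonoidHom)),
          χ ⟨(α ⟨x, hPT x.2⟩ : T), hαx⟩ = ((α ⟨φ x, hφx⟩ : T) : Ω)

theorem autInv_of_autInv' {E : FusionSystem T} {A : Subgroup (MulAut T)} (h : AutInv' E A) :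
    AutInv E A := by
  intro P P' φ hφ α hα hP' hy
  have hPT : P ≤ T := (E.le_of_mem hφ).1
  obtain ⟨χ, hχ, hχ'⟩ := h P hPT φ hφ α hα
  have hle : P' ≤ (P.subgroupOf T).map (T.subtype.comp α.toMonoidHom) := by
    intro y hyP
    refine ⟨α⁻¹ ⟨y, hP' hyP⟩, hy ⟨y, hyP⟩, ?_⟩
    simp
  refine ⟨_, restrict_mem E hχ hle, fun y => ?_⟩
  have e : (α ⟨((α⁻¹ ⟨y, hP' y.2⟩ : T) : Ω), hPT (hy y)⟩ : T) = ⟨y, hP' y.2⟩ := by simp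
  have h1 := hχ' ⟨_, hy y⟩ ((E.le_of_mem hφ).2 _) (by
    show ((α ⟨((α⁻¹ ⟨y, hP' y.2⟩ : T) : Ω), hPT (hy y)⟩ : T) : Ω) ∈ _
    rw [e]; exact hle y.2)
  rw [← h1]
  show χ ⟨y, hle y.2⟩ = _
  congr 1
  apply Subtype.ext
  show (y : Ω) = ((α ⟨((α⁻¹ ⟨y, hP' y.2⟩ : T) : Ω), hPT (hy y)⟩ : T) : Ω)
  rw [e]

theorem autInv'_of_autInv {E : FusionSystem T} {A : Subgroup (MulAut T)} (h : AutInv E A) :
    AutInv' E A := by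
  intro P hPT φ hφ α hα
  have hP' : (P.subgroupOf T).map (T.subtype.comp α.toMonoidHom) ≤ T := by
    rintro _ ⟨x, -, rfl⟩
    exact (α x).2
  have hy : ∀ y : ↥((P.subgroupOf T).map (T.subtype.comp α.toMonoidHom)),
      ((α⁻¹ ⟨y, hP' y.2⟩ : T) : Ω) ∈ P := by
    rintro ⟨_, x, hx, rfl⟩
    have : (α⁻¹ ⟨(T.subtype.comp α.toMonoidHom) x, hP' ⟨x, hx, rfl⟩⟩ : T) = x := by
      have : (⟨(T.subtype.comp α.toMonoidHom) x, hP' ⟨x, hx, rfl⟩⟩ : T) = α x := rfl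
      rw [this]; simp
    rw [this]; exact hx
  obtain ⟨χ, hχ, hχ'⟩ := h P _ φ hφ α hα hP' hy
  refine ⟨χ, hχ, fun x hφx hαx => ?_⟩
  rw [hχ']
  congr 4
  simp

/-- The maps `α ∘ φ₀` with `α ∈ A` and `φ₀` in `E`. -/
def frattiniSystem (E : FusionSystem T) (A : Subgroup (MulAut T)) (hinv : AutInv E A) :
    FusionSystem T where
  Hom P := {φ | ∃ α ∈ A, ∃ φ₀ ∈ E.Hom P, ∀ (x : P) (hx : φ₀ x ∈ T), φ x = ((α ⟨φ₀ x, hx⟩ : T) : Ω)}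
  le_of_mem := by
    rintro P φ ⟨α, -, φ₀, hφ₀, h⟩
    refine ⟨(E.le_of_mem hφ₀).1, fun x => ?_⟩
    rw [h x ((E.le_of_mem hφ₀).2 x)]
    exact (α _).2
  injective_of_mem := by
    rintro P φ ⟨α, -, φ₀, hφ₀, h⟩ x y hxy
    rw [h x ((E.le_of_mem hφ₀).2 x), h y ((E.le_of_mem hφ₀).2 y)] at hxy
    have h1 := α.injective (Subtype.ext hxy)
    exact E.injective_of_mem hφ₀ (congrArg Subtype.val h1)
  conj_mem := by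
    intro P g hP hg
    exact ⟨1, A.one_mem, _, E.conj_mem hP hg, fun x hx => rfl⟩
  comp_mem := by
    rintro P Q φ ψ ⟨α, hα, φ₀, hφ₀, h1⟩ ⟨β, hβ, ψ₀, hψ₀, h2⟩ h
    have hφ₀T := (E.le_of_mem hφ₀).2
    have hψ₀T := (E.le_of_mem hψ₀).2
    -- `χ = α⁻¹ ψ₀ α` on `φ₀(P)`
    have hy : ∀ y : φ₀.range, (((α⁻¹)⁻¹ ⟨y, range_le E hφ₀ y.2⟩ : T) : Ω) ∈ Q := by
      rintro ⟨_, x, rfl⟩
      rw [inv_inv, ← h1 x]
      exact h x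
    obtain ⟨χ, hχ, hχ'⟩ := hinv Q φ₀.range ψ₀ hψ₀ α⁻¹ (A.inv_mem hα) (range_le E hφ₀) hy
    refine ⟨β * α, A.mul_mem hβ hα, χ.comp (φ₀.codRestrict φ₀.range (fun x => ⟨x, rfl⟩)),
      E.comp_mem hφ₀ hχ _, fun x hx => ?_⟩
    have e1 : (χ.comp (φ₀.codRestrict φ₀.range (fun x => ⟨x, rfl⟩))) x =
        ((α⁻¹ ⟨ψ₀ ⟨φ x, h x⟩, hψ₀T _⟩ : T) : Ω) := by
      rw [MonoidHom.comp_apply, hχ']
      congr 4
      apply Subtype.ext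
      simp only [inv_inv]
      exact (h1 x _).symm
    have e2 : (⟨(χ.comp (φ₀.codRestrict φ₀.range (fun x => ⟨x, rfl⟩))) x, hx⟩ : T) =
        α⁻¹ ⟨ψ₀ ⟨φ x, h x⟩, hψ₀T _⟩ := Subtype.ext e1
    rw [e2, MulAut.mul_apply, MulAut.apply_inv_self]
    exact h2 _ _
  inv_mem := by
    rintro P φ ⟨α, hα, φ₀, hφ₀, h1⟩
    have hφ₀T := (E.le_of_mem hφ₀).2
    have hPT := (E.le_of_mem hφ₀).1
    obtain ⟨ρ, hρ, hρ'⟩ := E.inv_mem hφ₀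
    have hrT : φ.range ≤ T := by
      rintro _ ⟨x, rfl⟩
      rw [h1 x (hφ₀T x)]
      exact (α _).2
    have key : ∀ x : P, (α⁻¹ ⟨φ x, hrT ⟨x, rfl⟩⟩ : T) = ⟨φ₀ x, hφ₀T x⟩ := by
      intro x
      have : (⟨φ x, hrT ⟨x, rfl⟩⟩ : T) = α ⟨φ₀ x, hφ₀T x⟩ := Subtype.ext (h1 x _)
      rw [this]; simp
    have hy : ∀ y : φ.range, ((α⁻¹ ⟨y, hrT y.2⟩ : T) : Ω) ∈ φ₀.range := by
      rintro ⟨_, x, rfl⟩
      rw [key x]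
      exact ⟨x, rfl⟩
    obtain ⟨χ, hχ, hχ'⟩ := hinv φ₀.range φ.range ρ hρ α hα hrT hy
    have hχT := (E.le_of_mem hχ).2
    have hval : ∀ x : P, χ ⟨φ x, ⟨x, rfl⟩⟩ = ((α ⟨x, hPT x.2⟩ : T) : Ω) := by
      intro x
      rw [hχ']
      congr 2
      apply Subtype.ext
      have : (⟨((α⁻¹ ⟨φ x, hrT ⟨x, rfl⟩⟩ : T) : Ω), hy ⟨φ x, ⟨x, rfl⟩⟩⟩ : φ₀.range) =
          ⟨φ₀ x, ⟨x, rfl⟩⟩ :=
        Subtype.ext (congrArg (Subtype.val : T → Ω) (key x))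
      show ρ ⟨((α⁻¹ ⟨φ x, hrT ⟨x, rfl⟩⟩ : T) : Ω), hy ⟨φ x, ⟨x, rfl⟩⟩⟩ = _
      rw [this, hρ']
    refine ⟨T.subtype.comp (α⁻¹.toMonoidHom.comp (χ.codRestrict T hχT)),
      ⟨α⁻¹, A.inv_mem hα, χ, hχ, fun x hx => rfl⟩, fun x => ?_⟩
    show ((α⁻¹ ⟨χ ⟨φ x, ⟨x, rfl⟩⟩, hχT _⟩ : T) : Ω) = x
    have : (⟨χ ⟨φ x, ⟨x, rfl⟩⟩, hχT _⟩ : T) = α ⟨x, hPT x.2⟩ := Subtype.ext (hval x)
    rw [this]; simp

theorem le_frattiniSystem (E : FusionSystem T) (A : Subgroup (MulAut T)) (hinv : AutInv E A) :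
    E ≤ frattiniSystem E A hinv := by
  intro P φ hφ
  exact ⟨1, A.one_mem, φ, hφ, fun x hx => rfl⟩

theorem mem_frattiniSystem {E : FusionSystem T} {A : Subgroup (MulAut T)} {hinv : AutInv E A}
    {P : Subgroup Ω} {φ : P →* Ω} : φ ∈ (frattiniSystem E A hinv).Hom P ↔
      ∃ α ∈ A, ∃ φ₀ ∈ E.Hom P, ∀ (x : P) (hx : φ₀ x ∈ T), φ x = ((α ⟨φ₀ x, hx⟩ : T) : Ω) := Iff.rfl

theorem aut_mem_frattiniSystem (E : FusionSystem T) (A : Subgroup (MulAut T)) (hinv : AutInv E A)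
    {α : MulAut T} (hα : α ∈ A) : T.subtype.comp α.toMonoidHom ∈ (frattiniSystem E A hinv).Hom T :=
  ⟨α, hα, T.subtype, subtype_mem E le_rfl, fun x hx => rfl⟩

end Cfsg.Agent.Lib.Helper85
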