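import Cfsg.Agent.Lib.Helper85.FusFrattini

set_option autoImplicit false

/-! The largest subsystem of `E` invariant under a group `A` of automorphisms of `T` (helper85). -/

namespace Cfsg.Agent.Lib.Helper85

open Cfsg Cfsg.FusionSystem Cfsg.Agent.Lib.Helper84

variable {Ω : Type*} [Group Ω] {T : Subgroup Ω}

/-- `χ = α φ α⁻¹` wherever this makes sense. -/
def TrRel (α : MulAut T) {P P' : Subgroup Ω} (φ : P →* Ω) (χ : P' →* Ω) : Prop :=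
  ∀ (x : P) (y : P') (hx : (x : Ω) ∈ T) (hφ : φ x ∈ T), (y : Ω) = ((α ⟨x, hx⟩ : T) : Ω) →
    χ y = ((α ⟨φ x, hφ⟩ : T) : Ω)

/-- `P' ≤ α(P)`. -/
def TrCov (α : MulAut T) (P P' : Subgroup Ω) : Prop :=
  ∀ y ∈ P', ∃ x ∈ P, ∃ hx : x ∈ T, y = ((α ⟨x, hx⟩ : T) : Ω)

theorem TrCov.le {α : MulAut T} {P P' : Subgroup Ω} (h : TrCov α P P') : P' ≤ T := by
  intro y hy
  obtain ⟨x, -, hx, rfl⟩ := h y hy
  exact (α _).2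

/-- The largest `A`-invariant subsystem of `E`. -/
def invCore (E : FusionSystem T) (A : Subgroup (MulAut T)) : FusionSystem T where
  Hom P := {φ | φ ∈ E.Hom P ∧ ∀ α ∈ A, ∀ P' : Subgroup Ω, TrCov α P P' →
    ∃ χ ∈ E.Hom P', TrRel α φ χ}
  le_of_mem h := E.le_of_mem h.1
  injective_of_mem h := E.injective_of_mem h.1
  conj_mem := by
    intro P g hP hg
    refine ⟨E.conj_mem hP hg, fun α _ P' hcov => ?_⟩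
    refine ⟨conjHom P' ((α ⟨g, hg⟩ : T) : Ω), E.conj_mem hcov.le (α _).2, ?_⟩
    intro x y hx hφ hy
    rw [conjHom_apply, hy]
    have : (⟨conjHom P g x, hφ⟩ : T) = ⟨g, hg⟩ * ⟨x, hx⟩ * ⟨g, hg⟩⁻¹ := Subtype.ext rfl
    rw [this, map_mul, map_mul, map_inv]
    rfl
  comp_mem := by
    rintro P Q φ ψ ⟨hφ, hφ'⟩ ⟨hψ, hψ'⟩ h
    refine ⟨E.comp_mem hφ hψ h, fun α hα P' hcov => ?_⟩
    obtain ⟨χ₁, hχ₁, h1⟩ := hφ' α hα P' hcov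
    have hcov2 : TrCov α Q χ₁.range := by
      rintro _ ⟨y, rfl⟩
      obtain ⟨x, hxP, hx, hy⟩ := hcov y y.2
      exact ⟨φ ⟨x, hxP⟩, h _, (E.le_of_mem hφ).2 _, h1 ⟨x, hxP⟩ y hx _ hy⟩
    obtain ⟨χ₂, hχ₂, h2⟩ := hψ' α hα _ hcov2
    refine ⟨χ₂.comp (χ₁.codRestrict χ₁.range (fun y => ⟨y, rfl⟩)), E.comp_mem hχ₁ hχ₂ _, ?_⟩
    intro x y hx hφx hy
    exact h2 ⟨φ x, h x⟩ ⟨χ₁ y, ⟨y, rfl⟩⟩ ((E.le_of_mem hφ).2 x) hφx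
      (h1 x y hx ((E.le_of_mem hφ).2 x) hy)
  inv_mem := by
    rintro P φ ⟨hφ, hφ'⟩
    obtain ⟨ρ, hρ, hρ'⟩ := E.inv_mem hφ
    have hPT := (E.le_of_mem hφ).1
    have hφT := (E.le_of_mem hφ).2
    refine ⟨ρ, ⟨hρ, fun α hα P' hcov => ?_⟩, hρ'⟩
    have hcov1 : TrCov α P ((P.subgroupOf T).map (T.subtype.comp α.toMonoidHom)) := by
      rintro _ ⟨x, hx, rfl⟩
      exact ⟨x, hx, x.2, rfl⟩
    obtain ⟨χ₁, hχ₁, h1⟩ := hφ' α hα _ hcov1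
    obtain ⟨ρ₁, hρ₁, hρ₁'⟩ := E.inv_mem hχ₁
    have hw : ∀ x : P, ((α ⟨x, hPT x.2⟩ : T) : Ω) ∈
        (P.subgroupOf T).map (T.subtype.comp α.toMonoidHom) := fun x => ⟨⟨x, hPT x.2⟩, x.2, rfl⟩
    have hval : ∀ x : P, χ₁ ⟨_, hw x⟩ = ((α ⟨φ x, hφT x⟩ : T) : Ω) :=
      fun x => h1 x ⟨_, hw x⟩ (hPT x.2) (hφT x) rfl
    have hle : P' ≤ χ₁.range := by
      intro y hy
      obtain ⟨_, ⟨x, rfl⟩, hz, rfl⟩ := hcov y hy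
      exact ⟨⟨_, hw x⟩, hval x⟩
    refine ⟨_, restrict_mem E hρ₁ hle, ?_⟩
    rintro ⟨_, x, rfl⟩ y hz hρz hy
    have e1 : Subgroup.inclusion hle y = ⟨χ₁ ⟨_, hw x⟩, ⟨_, rfl⟩⟩ :=
      Subtype.ext (hy.trans (hval x).symm)
    rw [MonoidHom.comp_apply, e1, hρ₁']
    have e2 : (⟨ρ ⟨φ x, ⟨x, rfl⟩⟩, hρz⟩ : T) = ⟨x, hPT x.2⟩ := Subtype.ext (hρ' x)
    rw [e2]

theorem invCore_le (E : FusionSystem T) (A : Subgroup (MulAut T)) : invCore E A ≤ E :=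
  fun _ _ h => h.1

theorem invCore_tr (E : FusionSystem T) (A : Subgroup (MulAut T)) {P P' : Subgroup Ω} {φ : P →* Ω}
    (hφ : φ ∈ (invCore E A).Hom P) {α : MulAut T} (hα : α ∈ A) (hcov : TrCov α P P') :
    ∃ χ ∈ (invCore E A).Hom P', TrRel α φ χ := by
  obtain ⟨χ, hχ, h1⟩ := hφ.2 α hα P' hcov
  refine ⟨χ, ⟨hχ, fun β hβ P'' hcov2 => ?_⟩, h1⟩
  have hcov3 : TrCov (β * α) P P'' := by
    intro w hw
    obtain ⟨y, hy, hyT, rfl⟩ := hcov2 w hw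
    obtain ⟨x, hx, hxT, rfl⟩ := hcov y hy
    exact ⟨x, hx, hxT, rfl⟩
  obtain ⟨χ', hχ', h2⟩ := hφ.2 (β * α) (A.mul_mem hβ hα) P'' hcov3
  refine ⟨χ', hχ', ?_⟩
  intro y w hy hχy hw
  obtain ⟨x, hx, hxT, hyx⟩ := hcov y y.2
  have hφT := (E.le_of_mem hφ.1).2 ⟨x, hx⟩
  have e1 : χ y = ((α ⟨φ ⟨x, hx⟩, hφT⟩ : T) : Ω) := h1 ⟨x, hx⟩ y hxT hφT hyx
  have e2 : (⟨χ y, hχy⟩ : T) = α ⟨φ ⟨x, hx⟩, hφT⟩ := Subtype.ext e1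
  have e3 : (⟨y, hy⟩ : T) = α ⟨x, hxT⟩ := Subtype.ext hyx
  rw [e2]
  refine h2 ⟨x, hx⟩ w hxT hφT ?_
  rw [hw, e3]
  rfl

theorem autInv_invCore (E : FusionSystem T) (A : Subgroup (MulAut T)) : AutInv (invCore E A) A := by
  intro P P' φ hφ α hα hP' h
  have hcov : TrCov α P P' := by
    intro y hy
    refine ⟨_, h ⟨y, hy⟩, (α⁻¹ ⟨y, hP' hy⟩).2, ?_⟩
    simp
  obtain ⟨χ, hχ, h1⟩ := invCore_tr E A hφ hα hcov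
  refine ⟨χ, hχ, fun y => h1 ⟨_, h y⟩ y (α⁻¹ ⟨y, hP' y.2⟩).2 _ ?_⟩
  simp

end Cfsg.Agent.Lib.Helper85
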