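import Cfsg.Agent.S5086
import Cfsg.Agent.Lib.Helper84.FusionAlperin2
import Cfsg.Agent.Lib.Helper84.FusionEssential
import Cfsg.Agent.Lib.Helper85.FusConstr2
import Cfsg.Agent.Lib.Helper85.GrpPP

set_option autoImplicit false

/-! Two saturated systems over `T` with a common normal centric subgroup `Q`, the same
automorphism group on `Q`, one normalizing the other, are equal (helper85). -/

namespace Cfsg.Agent.Lib.Helper85

open Cfsg Cfsg.FusionSystem Cfsg.Agent.Lib.Helper84 Cfsg.Agent.Lib.Helper87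

variable {Ω : Type*} [Group Ω] {T : Subgroup Ω}

/-- a normal subgroup of a saturated system is fully automized and receptive. -/
theorem isNormal_automized_receptive {p : ℕ} (E : FusionSystem T) (hE : E.IsSaturated p)
    {Q : Subgroup Ω} (hQ : E.IsNormal Q) : E.IsFullyAutomized p Q ∧ E.IsReceptive Q := by
  obtain ⟨Q', ⟨φ, hφ, hr⟩, h1, h2⟩ := hE Q hQ.1
  have : Q' = Q := by rw [← hr]; exact range_eq_of_isNormal E hQ hφ
  subst this
  exact ⟨h1, h2⟩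

theorem top_automized [Finite T] {p : ℕ} (E : FusionSystem T) (hE : E.IsSaturated p) :
    E.IsFullyAutomized p T := by
  obtain ⟨Q', hc, h1, -⟩ := hE T le_rfl
  have : Q' = T := Subgroup.eq_of_le_of_card_ge (isConj_le_right hc) (isConj_card_eq hc).le
  subst this
  exact h1

/-- abstract group lemma. -/
theorem le_of_sylIn_le_of_pow_mem {X : Type*} [Group X] [Finite X] {p : ℕ} [hp : Fact p.Prime]
    {N₁ N₂ R : Subgroup X} (hsyl : SylIn p R N₁) (hRN₂ : R ≤ N₂)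
    (hn : ∀ γ ∈ N₁, ∀ ε ∈ N₂, γ * ε * γ⁻¹ ∈ N₂)
    (hpow : ∀ α ∈ N₁, ∃ j : ℕ, α ^ p ^ j ∈ N₂) : N₁ ≤ N₂ := by
  intro α hα
  obtain ⟨a, b, hab, ⟨i, hi⟩, hc⟩ := exists_pp_decomp (p := p) α
  rw [hab]
  refine N₂.mul_mem ?_ ?_
  · have hzp : IsPGroup p (Subgroup.zpowers (α ^ a)) := by
      rintro ⟨y, hy⟩
      obtain ⟨n, rfl⟩ := Subgroup.mem_zpowers_iff.mp hy
      refine ⟨i, Subtype.ext ?_⟩
      show ((α ^ a) ^ n) ^ p ^ i = 1
      rw [← zpow_natCast, ← zpow_mul, mul_comm, zpow_mul, zpow_natCast, hi, one_zpow]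
    obtain ⟨γ, hγ, hγ'⟩ := hsyl.exists_conj_le (T := Subgroup.zpowers (α ^ a))
      (by rw [Subgroup.zpowers_le]; exact N₁.pow_mem hα a) hzp
    have h1 : γ * α ^ a * γ⁻¹ ∈ N₂ := hRN₂ (hγ' ⟨_, Subgroup.mem_zpowers _, rfl⟩)
    have h2 := hn γ⁻¹ (N₁.inv_mem hγ) _ h1
    have e : γ⁻¹ * (γ * α ^ a * γ⁻¹) * γ⁻¹⁻¹ = α ^ a := by group
    rwa [e] at h2
  · obtain ⟨j, hj⟩ := hpow (α ^ b) (N₁.pow_mem hα b)
    refine mem_of_pow_mem_coprimePP hj (n := orderOf (α ^ b)) ?_ ?_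
    · rw [pow_orderOf_eq_one]; exact N₂.one_mem
    · exact (Nat.Coprime.pow_left j hc.symm)

/-- extension of an automorphism of the normal centric subgroup `Q` along an automorphism `α`
of `P ≥ Q`. -/
theorem exists_aut_agree [Finite T] {p : ℕ} [Fact p.Prime] (hT : IsPGroup p T)
    (E : FusionSystem T) (hE : E.IsSaturated p)
    {Q P : Subgroup Ω} (hQ : E.IsNormal Q) (hC : centralizerIn T Q ≤ Q) (hQP : Q ≤ P)
    (hPT : P ≤ T) (α : MulAut P) (α₀ : MulAut Q) (hα₀ : α₀ ∈ E.autGroup Q)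
    (hag : ∀ x : Q, ((α₀ x : Q) : Ω) = α ⟨x, hQP x.2⟩) :
    ∃ ε ∈ E.autGroup P, ∀ x : P, (x : Ω) ∈ Q → ε x = α x := by
  have hQT : Q ≤ T := hQ.1
  have hsc : E.StronglyClosed Q := ((Cfsg.Agent.S5086.result p hT E hE Q).mp hQ).1
  have hTN : T ≤ Subgroup.normalizer (Q : Set Ω) := sc_le_normalizer hsc
  have hrec := (isNormal_automized_receptive E hE hQ).2
  have hmor : Mor E α₀.toMonoidHom := (mem_autGroup_iff E hQT α₀).mp hα₀
  obtain ⟨χ, hχ, hχ'⟩ := exists_extension_of_receptive E hrec α₀ hmor (N := P)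
    (fun x hx => ⟨hPT hx, hTN (hPT hx)⟩) (by
      intro g hg
      refine ⟨((α ⟨g, hg⟩ : P) : Ω), hPT (α ⟨g, hg⟩).2, fun x hx => ?_⟩
      rw [hag, hag]
      have : (⟨g * (x : Ω) * g⁻¹, hQP hx⟩ : P) = ⟨g, hg⟩ * ⟨x, hQP x.2⟩ * ⟨g, hg⟩⁻¹ := rfl
      rw [this, map_mul, map_mul, map_inv]
      rfl)
  have hfinP : Finite P := finite_of_le hPT
  -- `χ` maps `P` into `P`
  have hχP : ∀ x : P, χ x ∈ P := by
    intro x
    have h1 : ((α x : P) : Ω)⁻¹ * χ x ∈ centralizerIn T Q := by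
      refine ⟨T.mul_mem (T.inv_mem (hPT (α x).2)) ((E.le_of_mem hχ).2 x), ?_⟩
      apply Subgroup.mem_centralizer_iff.2
      intro q hq
      obtain ⟨q', hq'⟩ := α₀.surjective ⟨q, hq⟩
      have hq'' : ((α₀ q' : Q) : Ω) = q := congrArg Subtype.val hq'
      have hxq : (x : Ω) * q' * (x : Ω)⁻¹ ∈ Q :=
        conj_mem_of_mem_normalizer (hTN (hPT x.2)) q'.2
      have e1 : χ x * q * (χ x)⁻¹ = ((α x : P) : Ω) * q * ((α x : P) : Ω)⁻¹ := by
        have a1 : χ ⟨q', hQP q'.2⟩ = q := by rw [hχ' q' q'.2 (hQP q'.2)]; exact hq''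
        have a2 : χ (x * ⟨q', hQP q'.2⟩ * x⁻¹) = χ x * q * (χ x)⁻¹ := by
          rw [map_mul, map_mul, map_inv, a1]
        have a3 : χ (x * ⟨q', hQP q'.2⟩ * x⁻¹) = ((α₀ ⟨_, hxq⟩ : Q) : Ω) :=
          hχ' _ hxq (hQP hxq)
        rw [← a2, a3, hag]
        have : (⟨(x : Ω) * q' * (x : Ω)⁻¹, hQP hxq⟩ : P) = x * ⟨q', hQP q'.2⟩ * x⁻¹ := rfl
        rw [this, map_mul, map_mul, map_inv]
        have a4 : ((α ⟨q', hQP q'.2⟩ : P) : Ω) = q := by rw [← hag]; exact hq''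
        show ((α x : P) : Ω) * ((α ⟨q', hQP q'.2⟩ : P) : Ω) * ((α x : P) : Ω)⁻¹ = _
        rw [a4]
      calc q * (((α x : P) : Ω)⁻¹ * χ x)
          = ((α x : P) : Ω)⁻¹ * (((α x : P) : Ω) * q * ((α x : P) : Ω)⁻¹) * χ x := by group
        _ = ((α x : P) : Ω)⁻¹ * (χ x * q * (χ x)⁻¹) * χ x := by rw [e1]
        _ = ((α x : P) : Ω)⁻¹ * χ x * q := by group
    have h2 := P.mul_mem (α x).2 (hQP (hC h1))
    rwa [mul_inv_cancel_left] at h2
  have hrange : χ.range = P := by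
    apply Subgroup.eq_of_le_of_card_ge
    · rintro _ ⟨x, rfl⟩
      exact hχP x
    · exact (Nat.card_congr (MonoidHom.ofInjective (E.injective_of_mem hχ)).toEquiv).le
  refine ⟨equivOfRange χ (E.injective_of_mem hχ) hrange,
    (mem_autGroup_iff E hPT _).mpr (mor_equivOfRange E hχ hrange), fun x hx => ?_⟩
  apply Subtype.ext
  rw [equivOfRange_apply]
  have := hχ' x hx x.2
  rw [hag] at this
  exact this

/-- an automorphism of `P ≥ Q` which is the identity on the centric normal subgroup `Q` of `T`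
is a `p`-element. -/
theorem pow_card_eq_one_of_fix [Finite T] {Q P : Subgroup Ω}
    (hTN : T ≤ Subgroup.normalizer (Q : Set Ω)) (hC : centralizerIn T Q ≤ Q) (hQP : Q ≤ P)
    (hPT : P ≤ T) (σ : MulAut P) (hσ : ∀ x : P, (x : Ω) ∈ Q → σ x = x) :
    σ ^ Nat.card T = 1 := by
  have key : ∀ x : P, ((x⁻¹ * σ x : P) : Ω) ∈ Q := by
    intro x
    apply hC
    refine ⟨hPT (x⁻¹ * σ x).2, ?_⟩
    apply Subgroup.mem_centralizer_iff.2
    intro q hq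
    have hxq : (x : Ω) * q * (x : Ω)⁻¹ ∈ Q := conj_mem_of_mem_normalizer (hTN (hPT x.2)) hq
    have e1 : σ (x * ⟨q, hQP hq⟩ * x⁻¹) = x * ⟨q, hQP hq⟩ * x⁻¹ := hσ _ hxq
    rw [map_mul, map_mul, map_inv, hσ ⟨q, hQP hq⟩ hq] at e1
    have e2 : ((σ x : P) : Ω) * q * ((σ x : P) : Ω)⁻¹ = (x : Ω) * q * (x : Ω)⁻¹ :=
      congrArg Subtype.val e1
    show q * ((x : Ω)⁻¹ * ((σ x : P) : Ω)) = (x : Ω)⁻¹ * ((σ x : P) : Ω) * q
    calc q * ((x : Ω)⁻¹ * ((σ x : P) : Ω))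
        = (x : Ω)⁻¹ * ((x : Ω) * q * (x : Ω)⁻¹) * ((σ x : P) : Ω) := by group
      _ = (x : Ω)⁻¹ * (((σ x : P) : Ω) * q * ((σ x : P) : Ω)⁻¹) * ((σ x : P) : Ω) := by rw [e2]
      _ = (x : Ω)⁻¹ * ((σ x : P) : Ω) * q := by group
  ext x
  rw [pow_apply_of_fixed σ x (hσ _ (key x))]
  have h1 : (x⁻¹ * σ x) ^ Nat.card T = 1 := by
    have h2 : ((⟨_, hPT (x⁻¹ * σ x).2⟩ : T)) ^ Nat.card T = 1 := pow_card_eq_one'
    apply Subtype.ext
    exact congrArg (Subtype.val : T → Ω) h2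
  rw [h1, mul_one]
  rfl

theorem le_of_autGroup_normal_le [Finite T] {p : ℕ} [Fact p.Prime] (hT : IsPGroup p T)
    (E₁ E₂ : FusionSystem T) (h₁ : E₁.IsSaturated p) (h₂ : E₂.IsSaturated p) {Q : Subgroup Ω}
    (hQ₁ : E₁.IsNormal Q) (hQ₂ : E₂.IsNormal Q) (hC : centralizerIn T Q ≤ Q)
    (hA : E₁.autGroup Q ≤ E₂.autGroup Q)
    (hn : ∀ P : Subgroup Ω, P ≤ T → ∀ γ ∈ E₁.autGroup P, ∀ ε ∈ E₂.autGroup P,
      γ * ε * γ⁻¹ ∈ E₂.autGroup P) : E₁ ≤ E₂ := by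
  obtain ⟨hsc₁, hrad₁⟩ := (Cfsg.Agent.S5086.result p hT E₁ h₁ Q).mp hQ₁
  have hTN : T ≤ Subgroup.normalizer (Q : Set Ω) := sc_le_normalizer hsc₁
  apply alperin hT E₁ h₁ E₂
  intro P hP
  have hdata : P ≤ T ∧ Q ≤ P ∧ E₁.IsFullyAutomized p P := by
    rcases hP with rfl | hP
    · exact ⟨le_rfl, hQ₁.1, top_automized E₁ h₁⟩
    · exact ⟨hP.1.1, hrad₁ P hP.1 (essential_radical hT E₁ hP),
        (sat_fullyNormalized hT h₁ hP.2.1).2.1⟩
  obtain ⟨hPT, hQP, -, hR⟩ := hdata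
  have hfin : Finite (MulAut P) := finite_mulAut_of_le hPT
  obtain ⟨n, hn'⟩ := IsPGroup.iff_card.mp hT
  refine le_of_sylIn_le_of_pow_mem (p := p) hR (autInducedBy_le_autGroup E₂ hPT) (hn P hPT) ?_
  intro α hα
  refine ⟨n, ?_⟩
  -- restriction of `α` to `Q`
  have hαmor : Mor E₁ α.toMonoidHom := (mem_autGroup_iff E₁ hPT α).mp hα
  have hmap : (Q.subgroupOf P).map (P.subtype.comp α.toMonoidHom) = Q := by
    have hfinQ : Finite Q := finite_of_le hQ₁.1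
    apply Subgroup.eq_of_le_of_card_ge
    · rintro _ ⟨x, hx, rfl⟩
      exact sc_map_mem hsc₁ hαmor x hx
    · rw [Subgroup.card_map_of_injective (E₁.injective_of_mem hαmor),
        card_subgroupOf_of_le hQP]
  obtain ⟨ε, hε, hεα⟩ := exists_aut_agree hT E₂ h₂ hQ₂ hC hQP hPT α
    (restrictEquiv _ (E₁.injective_of_mem hαmor) hQP hmap)
    (hA ((mem_autGroup_iff E₁ hQ₁.1 _).mpr (mor_restrictEquiv E₁ hαmor hQP hmap)))
    (fun x => rfl)
  have hσ : (ε⁻¹ * α) ^ Nat.card T = 1 := by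
    apply pow_card_eq_one_of_fix hTN hC hQP hPT
    intro x hx
    rw [MulAut.mul_apply, ← hεα x hx, MulAut.inv_apply_self]
  obtain ⟨e', he', hpow⟩ := mul_pow_mem_of_normalizes (N := E₂.autGroup P) (a := α) (e := ε⁻¹)
    (hn P hPT α hα) ((E₂.autGroup P).inv_mem hε) (Nat.card T)
  rw [hσ] at hpow
  have : α ^ Nat.card T = e'⁻¹ := eq_inv_of_mul_eq_one_right hpow.symm
  rw [← hn', this]
  exact (E₂.autGroup P).inv_mem he'

end Cfsg.Agent.Lib.Helper85
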