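import Cfsg.Agent.Lib.Helper85.FusNormModel1
import Cfsg.Agent.Lib.Helper85.FusFrattini
import Cfsg.Agent.Lib.Helper85.FusConstr

set_option autoImplicit false

/-! Invariant subsystems: `Aut_E(P) ⊴ Aut_F(P)`, and `Q ∩ T ⊴ E` for `Q ⊴ F` (helper85). -/

namespace Cfsg.Agent.Lib.Helper85

open Cfsg Cfsg.FusionSystem Cfsg.Agent.Lib.Helper84 Cfsg.Agent.Lib.Helper87

variable {Ω : Type*} [Group Ω] {S T : Subgroup Ω}

theorem autGroup_conj_mem_of_invariant {F : FusionSystem S} {E : FusionSystem T}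
    (hinv : E.IsInvariantIn F) {P : Subgroup Ω} (hPT : P ≤ T) {γ ε : MulAut P}
    (hγ : γ ∈ F.autGroup P) (hε : ε ∈ E.autGroup P) : γ * ε * γ⁻¹ ∈ E.autGroup P := by
  obtain ⟨hsub, hsc, hinv', hfrat⟩ := hinv
  have hTS := hsc.1
  have hPS := hPT.trans hTS
  have hγm : Mor F γ.toMonoidHom := (mem_autGroup_iff F hPS γ).mp hγ
  obtain ⟨α, hα, φ₀, hφ₀, hαφ⟩ := hfrat P hPT _ hγm
  have hφ₀T : ∀ x, φ₀ x ∈ T := (E.le_of_mem hφ₀).2
  have hαφ' : ∀ x : P, ((γ x : P) : Ω) = ((α ⟨φ₀ x, hφ₀T x⟩ : T) : Ω) := fun x => hαφ x _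
  have he₀ : Mor E (equivOfRange φ₀ (E.injective_of_mem hφ₀) rfl).toMonoidHom :=
    mor_equivOfRange E hφ₀ rfl
  have hε₀ := congr_mem_autGroup he₀ hε
  have hP₀T : φ₀.range ≤ T := by rintro _ ⟨x, rfl⟩; exact hφ₀T x
  have hε₀m := (mem_autGroup_iff E hP₀T _).mp hε₀
  have hAI : AutInv E (F.autGroup T) := autInv_of_autInv' hinv'
  have hinvα : ∀ y : P, (α⁻¹ ⟨y, hPT y.2⟩ : T) = ⟨φ₀ (γ⁻¹ y), hφ₀T _⟩ := by
    intro y
    have h1 : α ⟨φ₀ (γ⁻¹ y), hφ₀T _⟩ = ⟨y, hPT y.2⟩ := by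
      apply Subtype.ext
      rw [← hαφ', MulAut.apply_inv_self]
    rw [← h1, MulAut.inv_apply_self]
  obtain ⟨χ, hχ, hχ'⟩ := hAI φ₀.range P _ hε₀m α hα hPT (by
    intro y
    rw [hinvα y]
    exact ⟨_, rfl⟩)
  rw [mem_autGroup_iff E hPT]
  have : P.subtype.comp (γ * ε * γ⁻¹).toMonoidHom = χ := by
    ext y
    rw [hχ' y]
    show (((γ (ε (γ⁻¹ y)) : P)) : Ω) = _
    rw [hαφ']
    congr 2
    apply Subtype.ext
    show φ₀ (ε (γ⁻¹ y)) = ((MulAut.congr (equivOfRange φ₀ (E.injective_of_mem hφ₀) rfl) ε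
      ⟨((α⁻¹ ⟨y, hPT y.2⟩ : T) : Ω), _⟩ : φ₀.range) : Ω)
    have e : (⟨((α⁻¹ ⟨y, hPT y.2⟩ : T) : Ω), by rw [hinvα y]; exact ⟨_, rfl⟩⟩ : φ₀.range) =
        equivOfRange φ₀ (E.injective_of_mem hφ₀) rfl (γ⁻¹ y) := by
      apply Subtype.ext
      rw [equivOfRange_apply]
      show ((α⁻¹ ⟨y, hPT y.2⟩ : T) : Ω) = _
      rw [hinvα y]
    rw [e]
    show _ = ((equivOfRange φ₀ (E.injective_of_mem hφ₀) rfl
      (ε ((equivOfRange φ₀ (E.injective_of_mem hφ₀) rfl).symm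
        (equivOfRange φ₀ (E.injective_of_mem hφ₀) rfl (γ⁻¹ y)))) : φ₀.range) : Ω)
    rw [MulEquiv.symm_apply_apply, equivOfRange_apply]
  unfold Mor
  rw [this]
  exact hχ

/-- `Q ∩ T` is normal in the saturated subsystem `E` over the strongly closed subgroup `T`
when `Q` is normal in `F`. -/
theorem isNormal_inf_of_subsystem [Finite S] {p : ℕ} [Fact p.Prime] (hS : IsPGroup p S)
    (F : FusionSystem S) (hFsat : F.IsSaturated p) (E : FusionSystem T) (hEsat : E.IsSaturated p)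
    (hsub : E.IsSubsystemOf F) (hTsc : F.StronglyClosed T) {Q : Subgroup Ω} (hQn : F.IsNormal Q) :
    E.IsNormal (Q ⊓ T) := by
  have hTS : T ≤ S := hTsc.1
  have hfinT : Finite T := finite_of_le hTS
  have hTp : IsPGroup p T := hS.to_le hTS
  have hQS : Q ≤ S := hQn.1
  obtain ⟨hQsc, hQrad⟩ := (Cfsg.Agent.S5086.result p hS F hFsat Q).mp hQn
  have hRS : Q ⊓ T ≤ S := inf_le_left.trans hQS
  have hRsc : F.StronglyClosed (Q ⊓ T) :=
    ⟨hRS, fun P hP φ hφ x => ⟨hQsc.2 P (hP.trans inf_le_left) φ hφ x,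
      hTsc.2 P (hP.trans inf_le_right) φ hφ x⟩⟩
  have hRscE : E.StronglyClosed (Q ⊓ T) :=
    ⟨inf_le_right, fun P hP φ hφ x => hRsc.2 P hP φ (hsub P hφ) x⟩
  have hRradE : ∀ P : Subgroup Ω, E.IsCentric P → E.IsRadical p P → Q ⊓ T ≤ P := by
    intro P hc hr
    by_contra hcon
    obtain ⟨u, huR, huN, huP⟩ := exists_mem_normalizing_not_mem hTp hRscE.1 hc.1
      (hc.1.trans (sc_le_normalizer hRscE)) hcon
    apply huP
    have hle : autInducedBy (Q ⊓ T) P ≤ E.autGroup P := by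
      intro α hα
      obtain ⟨g, hg, hg'⟩ := (Helper84.mem_autInducedBy_iff _ _ α).1 hα
      exact autInducedBy_le_autGroup E hc.1 ((Helper84.mem_autInducedBy_iff _ _ α).2 ⟨g, hg.2, hg'⟩)
    refine mem_of_radical_centric E hc hr huR.2 huN
      ((autInducedBy (Q ⊓ T) P).subgroupOf (E.autGroup P)) ?_ ?_ ?_
    · constructor
      intro a ha γ
      rw [Subgroup.mem_subgroupOf] at ha ⊢
      obtain ⟨g, hg, hg'⟩ := (Helper84.mem_autInducedBy_iff _ _ _).1 ha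
      have hγ : P.subtype.comp (γ : MulAut P).toMonoidHom ∈ F.Hom P :=
        hsub P ((mem_autGroup_iff E hc.1 γ).mp γ.2)
      obtain ⟨ψ, hψ, h1, h2⟩ := hQn.2 P _ hγ
      have hgPQ : g ∈ P ⊔ Q := (le_sup_right : Q ≤ _) hg.1
      refine (Helper84.mem_autInducedBy_iff _ _ _).2 ⟨ψ ⟨g, hgPQ⟩, ⟨?_, ?_⟩, fun x => ?_⟩
      · exact h2.le ⟨⟨g, hgPQ⟩, hg.1, rfl⟩
      · exact sc_map_mem hTsc hψ ⟨g, hgPQ⟩ hg.2
      · show (((γ : MulAut P) ((a : MulAut P) ((γ : MulAut P)⁻¹ x)) : P) : Ω) = _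
        have e1 := h1 ((a : MulAut P) ((γ : MulAut P)⁻¹ x))
        have e2 := h1 ((γ : MulAut P)⁻¹ x)
        have e3 : (P.subtype.comp (γ : MulAut P).toMonoidHom) ((γ : MulAut P)⁻¹ x) = x := by
          show (((γ : MulAut P) ((γ : MulAut P)⁻¹ x) : P) : Ω) = x
          rw [MulAut.apply_inv_self]
        rw [e3] at e2
        refine e1.symm.trans ?_
        have e4 : Subgroup.inclusion (le_sup_left : P ≤ P ⊔ Q)
            ((a : MulAut P) ((γ : MulAut P)⁻¹ x)) =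
            ⟨g, hgPQ⟩ * Subgroup.inclusion le_sup_left ((γ : MulAut P)⁻¹ x) * ⟨g, hgPQ⟩⁻¹ :=
          Subtype.ext (hg' _)
        rw [e4, map_mul, map_mul, map_inv, e2]
    · exact ((isPGroup_autInducedBy (hS.to_le hRS) P)).comap_subtype
    · intro h
      exact Subgroup.mem_subgroupOf.mpr (conjAut_mem_autInducedBy huN huR)
  exact (Cfsg.Agent.S5086.result p hTp E hEsat _).mpr ⟨hRscE, hRradE⟩

end Cfsg.Agent.Lib.Helper85
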