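import Cfsg.Agent.Lib.Helper85.FusNormModel2
import Cfsg.Agent.Lib.Helper85.NormModelGrp3
import Cfsg.Agent.Lib.Helper85.NormModelGrp4
import Cfsg.Agent.Lib.Helper85.GroupFus

set_option autoImplicit false

/-! A normal subsystem of the fusion system of a model gives the data `NMData` (helper85). -/

namespace Cfsg.Agent.Lib.Helper85

open Cfsg Cfsg.FusionSystem Cfsg.Agent.Lib.Helper84 Cfsg.Agent.Lib.Helper87

variable {G : Type*} [Group G]

theorem sc_group_of_sc {S T : Subgroup G} (hTsc : (groupFusionSystem S).StronglyClosed T) :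
    ∀ t ∈ T, ∀ g : G, g * t * g⁻¹ ∈ S → g * t * g⁻¹ ∈ T := by
  intro t ht g hg
  have hz : Subgroup.zpowers t ≤ T := by rw [Subgroup.zpowers_le]; exact ht
  have hφ : conjHom (Subgroup.zpowers t) g ∈ (groupFusionSystem S).Hom (Subgroup.zpowers t) := by
    refine ⟨hz.trans hTsc.1, ?_, g, fun _ => rfl⟩
    rintro ⟨x, hx⟩
    obtain ⟨n, rfl⟩ := Subgroup.mem_zpowers_iff.mp hx
    show g * t ^ n * g⁻¹ ∈ S
    have : g * t ^ n * g⁻¹ = (g * t * g⁻¹) ^ n := (conj_zpow).symm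
    rw [this]
    exact S.zpow_mem hg n
  exact hTsc.2 _ hz _ hφ ⟨t, Subgroup.mem_zpowers t⟩

theorem mem_autGroup_groupFus_iff {S P : Subgroup G} (hP : P ≤ S) (α : MulAut P) :
    α ∈ (groupFusionSystem S).autGroup P ↔ ∃ g : G, ∀ x : P, ((α x : P) : G) = g * x * g⁻¹ := by
  rw [mem_autGroup_iff _ hP]
  constructor
  · rintro ⟨-, -, g, hg⟩
    exact ⟨g, hg⟩
  · rintro ⟨g, hg⟩
    exact ⟨hP, fun x => hP (α x).2, g, hg⟩

theorem mem_autGroup_fusSub_iff {H T P : Subgroup G} (hTH : T ≤ H) (hP : P ≤ T) (α : MulAut P) :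
    α ∈ (fusionSystemOfSubgroup H T hTH).autGroup P ↔
      ∃ g ∈ H, ∀ x : P, ((α x : P) : G) = g * x * g⁻¹ := by
  rw [mem_autGroup_iff _ hP]
  constructor
  · rintro ⟨-, -, g, hgH, hg⟩
    exact ⟨g, hgH, hg⟩
  · rintro ⟨g, hgH, hg⟩
    exact ⟨hP, fun x => hP (α x).2, g, hgH, hg⟩

variable [Finite G] {p : ℕ} [Fact p.Prime] (S : Sylow p G) {T : Subgroup G}

theorem autInducedBy_eq_map_rho [hN : (pCore p G ⊓ T).Normal] (K : Subgroup G) :
    autInducedBy K (pCore p G ⊓ T) = K.map (rho p T) := by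
  ext α
  rw [Helper84.mem_autInducedBy_iff]
  constructor
  · rintro ⟨g, hg, h⟩
    refine ⟨g, hg, ?_⟩
    ext x
    exact (h x).symm
  · rintro ⟨g, hg, rfl⟩
    exact ⟨g, hg, fun _ => rfl⟩

/-- `p`-elements of `Aut_E(T)` are inner. -/
theorem inner_of_pElement (E : FusionSystem T) (hE : E.IsSaturated p) (a : MulAut T)
    (ha : a ∈ E.autGroup T) (hk : ∃ k : ℕ, a ^ p ^ k = 1) :
    ∃ t ∈ T, ∀ x : T, ((a x : T) : G) = t * x * t⁻¹ := by
  obtain ⟨k, hk⟩ := hk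
  have hfin : Finite (MulAut T) :=
    Finite.of_injective (fun α : MulAut T => (α : _ → _)) DFunLike.coe_injective
  have hsyl : SylIn p (autInducedBy T T) (E.autGroup T) := (top_automized E hE).2
  have hzp : IsPGroup p (Subgroup.zpowers a) := by
    rintro ⟨y, hy⟩
    obtain ⟨n, rfl⟩ := Subgroup.mem_zpowers_iff.mp hy
    refine ⟨k, Subtype.ext ?_⟩
    show (a ^ n) ^ p ^ k = 1
    rw [← zpow_natCast, ← zpow_mul, mul_comm, zpow_mul, zpow_natCast, hk, one_zpow]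
  obtain ⟨γ, -, hγ'⟩ := hsyl.exists_conj_le (T := Subgroup.zpowers a)
    (by rw [Subgroup.zpowers_le]; exact ha) hzp
  have h1 : γ * a * γ⁻¹ ∈ autInducedBy T T := hγ' ⟨_, Subgroup.mem_zpowers _, rfl⟩
  obtain ⟨t, ht, h2⟩ := (Helper84.mem_autInducedBy_iff _ _ _).1 h1
  refine ⟨(γ⁻¹ ⟨t, ht⟩ : T), (γ⁻¹ ⟨t, ht⟩ : T).2, fun x => ?_⟩
  have h3 : (γ * a * γ⁻¹) (γ x) = ⟨t, ht⟩ * γ x * ⟨t, ht⟩⁻¹ := Subtype.ext (h2 (γ x))
  rw [MulAut.mul_apply, MulAut.mul_apply, MulAut.inv_apply_self] at h3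
  have h4 : a x = γ⁻¹ (⟨t, ht⟩ * γ x * ⟨t, ht⟩⁻¹) := by rw [← h3, MulAut.inv_apply_self]
  rw [h4, map_mul, map_mul, map_inv, MulAut.inv_apply_self]
  rfl

theorem nmData_of_normalIn
    (hG : Subgroup.centralizer ((pCore p G : Subgroup G) : Set G) ≤ pCore p G)
    (E : FusionSystem T) (hE : E.IsNormalIn (groupFusionSystem (S : Subgroup G)) p)
    [hN : (pCore p G ⊓ T).Normal] : NMData S T (E.autGroup (pCore p G ⊓ T)) := by
  obtain ⟨⟨hEsat, hFsat, hinv⟩, hext⟩ := hE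
  have hsub := hinv.1
  have hTsc := hinv.2.1
  have hTS : T ≤ S := hTsc.1
  have hsc := sc_group_of_sc hTsc
  have hQ₀n : E.IsNormal (pCore p G ⊓ T) :=
    isNormal_inf_of_subsystem S.isPGroup' _ hFsat E hEsat hsub hTsc
      (groupFus_isNormal_of_normal p S (pCore p G) (Cfsg.Agent.Lib.Lead.pCore_isPGroup p G))
  have hQ₀T : pCore p G ⊓ T ≤ T := inf_le_right
  have hQ₀S : pCore p G ⊓ T ≤ S := hQ₀T.trans hTS
  obtain ⟨hfa, hrec⟩ := isNormal_automized_receptive E hEsat hQ₀n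
  have hsyl : SylIn p (T.map (rho p T)) (E.autGroup (pCore p G ⊓ T)) := by
    rw [← autInducedBy_eq_map_rho]
    exact hfa.2
  have hTA : T.map (rho p T) ≤ E.autGroup (pCore p G ⊓ T) := by
    rw [← autInducedBy_eq_map_rho]
    exact autInducedBy_le_autGroup E hQ₀T
  have hrhoF : ∀ g : G, rho p T g ∈ (groupFusionSystem (S : Subgroup G)).autGroup (pCore p G ⊓ T) :=
    fun g => (mem_autGroup_groupFus_iff hQ₀S _).mpr ⟨g, fun _ => rfl⟩
  have hAF : ∀ a ∈ E.autGroup (pCore p G ⊓ T), ∃ g : G, rho p T g = a := by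
    intro a ha
    have h1 : a ∈ (groupFusionSystem (S : Subgroup G)).autGroup (pCore p G ⊓ T) :=
      (mem_autGroup_iff _ hQ₀S a).mpr (hsub _ ((mem_autGroup_iff E hQ₀T a).mp ha))
    obtain ⟨g, hg⟩ := (mem_autGroup_groupFus_iff hQ₀S a).mp h1
    refine ⟨g, ?_⟩
    ext x
    exact (hg x).symm
  have hTC := le_cenQuot_of_sc S hTS hsc
  haveI hfinX := finite_mulAut_inf (p := p) (T := T)
  -- the case of an automorphism normalizing `Aut_T(Q₀)`
  have hnorm_case : ∀ a ∈ E.autGroup (pCore p G ⊓ T),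
      a ∈ Subgroup.normalizer ((T.map (rho p T) : Subgroup _) : Set _) →
      ∃ g ∈ cenQuot (pCore p G) (pCore p G ⊓ T), rho p T g = a := by
    intro a ha haN
    have hmor : Mor E a.toMonoidHom := (mem_autGroup_iff E hQ₀T a).mp ha
    obtain ⟨χ, hχ, hχ'⟩ := exists_extension_of_receptive E hrec a hmor (N := T)
      (fun x hx => ⟨hx, by rw [Subgroup.normalizer_eq_top]; trivial⟩) (by
        intro g hg
        obtain ⟨h, hh, hha⟩ := (Subgroup.mem_normalizer_iff.mp haN _).mp ⟨g, hg, rfl⟩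
        refine ⟨h, hh, fun x hx => ?_⟩
        have e1 : (a * rho p T g * a⁻¹) (a x) = rho p T h (a x) := by rw [hha]
        rw [MulAut.mul_apply, MulAut.mul_apply, MulAut.inv_apply_self] at e1
        exact congrArg Subtype.val e1)
    have hrange : χ.range = T := by
      apply Subgroup.eq_of_le_of_card_ge
      · rintro _ ⟨x, rfl⟩
        exact (E.le_of_mem hχ).2 x
      · exact (Nat.card_congr (MonoidHom.ofInjective (E.injective_of_mem hχ)).toEquiv).le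
    have hγ : (equivOfRange χ (E.injective_of_mem hχ) hrange : MulAut T) ∈ E.autGroup T :=
      (mem_autGroup_iff E le_rfl _).mpr (mor_equivOfRange E hχ hrange)
    obtain ⟨β, hβ, hβ1, hβ2⟩ := hext _ hγ
    have hle : T ⊔ centralizerIn (S : Subgroup G) T ≤ S := sup_le hTS inf_le_left
    obtain ⟨g, hg⟩ := (mem_autGroup_groupFus_iff hle β).mp hβ
    obtain ⟨h, hh, hhγ⟩ := exists_cenQuot_of_ext S hTS hsc (E.autGroup T)
      (fun s hs σ hσ a' ha' => autGroup_conj_mem_of_invariant hinv le_rfl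
        ((mem_autGroup_groupFus_iff hTS σ).mpr ⟨s, hσ⟩) ha')
      (fun a' ha' hk => inner_of_pElement E hEsat a' ha' hk)
      _ hγ g (fun x => by rw [← hβ1 x, hg]; rfl)
      (fun c hc => by
        have := hβ2 ⟨c, (le_sup_right : _ ≤ T ⊔ centralizerIn (S : Subgroup G) T) hc⟩ hc
        rw [hg] at this
        exact this)
    refine ⟨h, hh, ?_⟩
    ext q
    have e1 := hhγ ⟨q, hQ₀T q.2⟩
    rw [equivOfRange_apply, hχ' q q.2 (hQ₀T q.2)] at e1
    exact e1.symm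
  refine ⟨hTS, hsc, hG, fun g a ha => autGroup_conj_mem_of_invariant hinv hQ₀T (hrhoF g) ha,
    hsyl, hTA, ?_⟩
  intro a ha
  have hR'B : T.map (rho p T) ≤
      E.autGroup (pCore p G ⊓ T) ⊓ (cenQuot (pCore p G) (pCore p G ⊓ T)).map (rho p T) :=
    le_inf hTA (Subgroup.map_mono hTC)
  have hsylB := hsyl.of_le hR'B inf_le_left
  obtain ⟨ga, rfl⟩ := hAF a ha
  have hconj : (T.map (rho p T)).map (MulAut.conj (rho p T ga)).toMonoidHom ≤
      E.autGroup (pCore p G ⊓ T) ⊓ (cenQuot (pCore p G) (pCore p G ⊓ T)).map (rho p T) := by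
    rintro _ ⟨_, ⟨t, ht, rfl⟩, rfl⟩
    refine ⟨Subgroup.mul_mem _ (Subgroup.mul_mem _ ha (hTA ⟨t, ht, rfl⟩)) (Subgroup.inv_mem _ ha),
      ga * t * ga⁻¹, (cenQuot_normal _ _).conj_mem t (hTC ht) ga, ?_⟩
    rw [map_mul, map_mul, map_inv]
    rfl
  obtain ⟨b, hb, hbR⟩ := hsylB.exists_conj_le hconj
    (((S.isPGroup'.to_le hTS).map _).map _)
  have hbaN : b * rho p T ga ∈ Subgroup.normalizer ((T.map (rho p T) : Subgroup _) : Set _) := by
    apply mem_normalizer_of_finite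
    intro r hr
    have := hbR ⟨_, ⟨r, hr, rfl⟩, rfl⟩
    have e : (MulAut.conj b).toMonoidHom ((MulAut.conj (rho p T ga)).toMonoidHom r) =
        b * rho p T ga * r * (b * rho p T ga)⁻¹ := by
      simp [mul_assoc]
    rwa [e] at this
  obtain ⟨g, hg, hga⟩ := hnorm_case _ (Subgroup.mul_mem _ hb.1 ha) hbaN
  obtain ⟨gb, hgb, rfl⟩ := hb.2
  refine ⟨gb⁻¹ * g, Subgroup.mul_mem _ (Subgroup.inv_mem _ hgb) hg, ?_⟩
  rw [map_mul, map_inv, hga]
  group

end Cfsg.Agent.Lib.Helper85
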