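import Cfsg.Agent.Lib.Helper85.FusBasic
import Cfsg.Agent.Lib.Helper85.SylIn3
import Cfsg.Agent.Lib.Helper85.SylIn2
import Cfsg.Agent.Lib.Helper84.FusionSat2
import Cfsg.Agent.Lib.Helper86.Centric

set_option autoImplicit false

/-! Making a subgroup `Q` of a fully automized `W` fully automized by moving it with `Aut_E(W)`
(helper85). -/

namespace Cfsg.Agent.Lib.Helper85

open Cfsg Cfsg.FusionSystem Cfsg.Agent.Lib.Helper84

variable {Ω : Type*} [Group Ω] {S : Subgroup Ω}

/-- automorphisms of `W` stabilizing `Q`. -/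
def stabIn (W Q : Subgroup Ω) : Subgroup (MulAut W) where
  carrier := {α | ∀ x : W, (x : Ω) ∈ Q ↔ ((α x : W) : Ω) ∈ Q}
  one_mem' := fun _ => Iff.rfl
  mul_mem' := fun ha hb x => (hb x).trans (ha _)
  inv_mem' := by
    intro a ha x
    have := ha (a⁻¹ x)
    rw [MulAut.apply_inv_self] at this
    exact this.symm

theorem mem_stabIn {W Q : Subgroup Ω} {α : MulAut W} :
    α ∈ stabIn W Q ↔ ∀ x : W, (x : Ω) ∈ Q ↔ ((α x : W) : Ω) ∈ Q := Iff.rfl

/-- restriction to `Q` of the automorphisms of `W` stabilizing `Q`. -/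
def resStab {W Q : Subgroup Ω} (hQW : Q ≤ W) : stabIn W Q →* MulAut Q where
  toFun α :=
    { toFun := fun x => ⟨(α : MulAut W) ⟨x, hQW x.2⟩, (α.2 ⟨x, hQW x.2⟩).1 x.2⟩
      invFun := fun x => ⟨(α : MulAut W)⁻¹ ⟨x, hQW x.2⟩,
        ((stabIn W Q).inv_mem α.2 ⟨x, hQW x.2⟩).1 x.2⟩
      left_inv := by intro x; ext; simp
      right_inv := by intro x; ext; simp
      map_mul' := by
        intro x y
        ext
        have : (⟨((x * y : Q) : Ω), hQW (x * y).2⟩ : W) = ⟨x, hQW x.2⟩ * ⟨y, hQW y.2⟩ := rfl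
        simp only [this, map_mul]
        rfl }
  map_one' := by ext; rfl
  map_mul' := by intro a b; ext; rfl

theorem resStab_apply {W Q : Subgroup Ω} (hQW : Q ≤ W) (α : stabIn W Q) (x : Q) :
    ((resStab hQW α x : Q) : Ω) = ((α : MulAut W) ⟨x, hQW x.2⟩ : W) := rfl

theorem exists_fullyAutomized_image [Finite S] {p : ℕ} [Fact p.Prime] (hS : IsPGroup p S)
    (E : FusionSystem S) {W Q : Subgroup Ω} (hW : E.IsFullyAutomized p W) (hQW : Q ≤ W)
    (C : Subgroup Ω → Prop) (hCQ : C Q)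
    (hCimg : ∀ Q', C Q' → ∀ γ ∈ E.autGroup W,
      C ((Q'.subgroupOf W).map (W.subtype.comp γ.toMonoidHom)))
    (hext : ∀ Q', C Q' → ∀ hQ' : Q' ≤ W, ∀ α ∈ E.autGroup Q', ∃ α' ∈ E.autGroup W,
      ∀ x : Q', ((α' ⟨x, hQ' x.2⟩ : W) : Ω) = (α x : Q'))
    (hnorm : ∀ Q', C Q' → Q' ≤ W → normalizerIn S Q' ≤ normalizerIn S W) :
    ∃ Q', C Q' ∧ Q' ≤ W ∧ E.IsConj Q Q' ∧ E.IsFullyAutomized p Q' := by
  have hWS := hW.1
  have hfin : Finite (MulAut W) := finite_mulAut_of_le hWS
  have hSyl : SylIn p (autInducedBy S W) (E.autGroup W) := hW.2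
  obtain ⟨V, -, hVH, hV⟩ := exists_sylIn_ge (p := p)
    (bot_le : (⊥ : Subgroup (MulAut W)) ≤ E.autGroup W ⊓ stabIn W Q) IsPGroup.of_bot
  obtain ⟨γ, hγ, hγV⟩ := hSyl.exists_conj_le (hVH.trans inf_le_left) (hV.isPGroup hVH)
  have hγE := (mem_autGroup_iff E hWS γ).1 hγ
  obtain ⟨Q', hQ'def⟩ : ∃ Q', (Q.subgroupOf W).map (W.subtype.comp γ.toMonoidHom) = Q' := ⟨_, rfl⟩
  have hCQ' : C Q' := hQ'def ▸ hCimg Q hCQ γ hγ
  have hQ'W : Q' ≤ W := by
    rw [← hQ'def]
    rintro _ ⟨x, -, rfl⟩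
    exact (γ x).2
  have hQ'S := hQ'W.trans hWS
  have key : ∀ x : W, (x : Ω) ∈ Q' ↔ ((γ⁻¹ x : W) : Ω) ∈ Q := by
    intro x
    rw [← hQ'def]
    constructor
    · rintro ⟨y, hy, hyx⟩
      have : x = γ y := Subtype.ext hyx.symm
      rw [this, MulAut.inv_apply_self]
      exact hy
    · intro hx
      exact ⟨γ⁻¹ x, hx, by simp⟩
  have hH' : (E.autGroup W ⊓ stabIn W Q).map (MulAut.conj γ).toMonoidHom =
      E.autGroup W ⊓ stabIn W Q' := by
    ext a
    rw [mem_map_conj, Subgroup.mem_inf, Subgroup.mem_inf]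
    refine and_congr ?_ ?_
    · constructor
      · intro h
        have := Subgroup.mul_mem _ (Subgroup.mul_mem _ hγ h) (Subgroup.inv_mem _ hγ)
        simpa [mul_assoc] using this
      · intro h
        exact Subgroup.mul_mem _ (Subgroup.mul_mem _ (Subgroup.inv_mem _ hγ) h) hγ
    · rw [mem_stabIn, mem_stabIn]
      constructor
      · intro h x
        rw [key, key]
        have := h (γ⁻¹ x)
        simpa [MulAut.mul_apply] using this
      · intro h y
        have := h (γ y)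
        rw [key, key] at this
        simpa [MulAut.mul_apply] using this
  have hSyl' : SylIn p (autInducedBy S W ⊓ (E.autGroup W ⊓ stabIn W Q'))
      (E.autGroup W ⊓ stabIn W Q') := by
    apply sylIn_of_card_le inf_le_right ((isPGroup_autInducedBy hS W).to_le inf_le_left)
    rw [← hH', card_map_conj, ← (sylIn_iff_card hVH).mp hV, ← card_map_conj V γ]
    apply Subgroup.card_le_of_le
    refine le_inf hγV ?_
    exact Subgroup.map_mono hVH
  obtain ⟨R, hR⟩ := hSyl'
  have h1 := sylIn_map_range ((resStab hQ'W).comp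
    (Subgroup.inclusion (inf_le_right : E.autGroup W ⊓ stabIn W Q' ≤ stabIn W Q'))) R
  have hrange : ((resStab hQ'W).comp
      (Subgroup.inclusion (inf_le_right : E.autGroup W ⊓ stabIn W Q' ≤ stabIn W Q'))).range =
      E.autGroup Q' := by
    ext α
    constructor
    · rintro ⟨a, rfl⟩
      rw [mem_autGroup_iff E hQ'S]
      exact mem_of_eq_on E ((mem_autGroup_iff E hWS _).1 a.2.1) hQ'W (fun x => rfl)
    · intro hα
      obtain ⟨α', hα', hαx⟩ := hext Q' hCQ' hQ'W α hα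
      have hst : α' ∈ stabIn W Q' := by
        intro x
        constructor
        · intro hx
          have := hαx ⟨x, hx⟩
          have e : (⟨((⟨x, hx⟩ : Q') : Ω), hQ'W hx⟩ : W) = x := rfl
          rw [e] at this
          rw [this]; exact (α _).2
        · intro hx
          have h2 := hαx (α⁻¹ ⟨_, hx⟩)
          rw [MulAut.apply_inv_self] at h2
          have h3 := α'.injective (Subtype.ext h2)
          rw [← h3]
          exact (α⁻¹ ⟨_, hx⟩).2
      refine ⟨⟨α', hα', hst⟩, ?_⟩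
      ext x
      exact hαx x
  have hmap : (R : Subgroup ↥(E.autGroup W ⊓ stabIn W Q')).map ((resStab hQ'W).comp
      (Subgroup.inclusion (inf_le_right : E.autGroup W ⊓ stabIn W Q' ≤ stabIn W Q'))) =
      autInducedBy S Q' := by
    rw [hR]
    ext β
    constructor
    · rintro ⟨a, ha, rfl⟩
      obtain ⟨g, hg, hg'⟩ := (Helper84.mem_autInducedBy_iff S W _).1 ha.1
      exact (Helper84.mem_autInducedBy_iff S Q' _).2 ⟨g, hg, fun x => hg' ⟨x, hQ'W x.2⟩⟩
    · intro hβ
      obtain ⟨g, hg, hg'⟩ := (Helper84.mem_autInducedBy_iff S Q' _).1 hβ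
      have hgN : g ∈ Subgroup.normalizer (Q' : Set Ω) := mem_normalizer_of_induces hg'
      have hgW := (hnorm Q' hCQ' hQ'W ⟨hg, hgN⟩).2
      have haS : conjAut W g hgW ∈ autInducedBy S W := conjAut_mem_autInducedBy hgW hg
      have hst : conjAut W g hgW ∈ stabIn W Q' := fun x => Subgroup.mem_normalizer_iff.mp hgN x
      refine ⟨⟨conjAut W g hgW, autInducedBy_le_autGroup E hWS haS, hst⟩,
        ⟨haS, autInducedBy_le_autGroup E hWS haS, hst⟩, ?_⟩
      ext x
      exact (hg' x).symm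
  rw [hrange, hmap] at h1
  exact ⟨Q', hCQ', hQ'W, hQ'def ▸ Helper86.isConj_map E hγE hQW, hQ'S, h1⟩

end Cfsg.Agent.Lib.Helper85
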