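import Cfsg.Agent.Lib.Helper85.FusPStable
import Cfsg.Agent.Lib.Helper84.FusionEssential
import Cfsg.Agent.Lib.Helper84.FusionKNorm2
import Cfsg.Agent.Lib.Helper84.StronglyEmbedded2
import Cfsg.Agent.Lib.Helper86.Centric
import Cfsg.Agent.Lib.Helper88.FusCentric
import Cfsg.Agent.S5096

set_option autoImplicit false

/-! `p`-stability is detected on the normalizers of centric radical subgroups (helper85). -/

namespace Cfsg.Agent.Lib.Helper85

open Cfsg Cfsg.FusionSystem Cfsg.Agent.Lib.Helper84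

variable {Ω : Type*} [Group Ω] {S : Subgroup Ω}

/-- every `F`-automorphism of `Q` extends to an `F`-automorphism of `R` -/
def AutExt (F : FusionSystem S) (Q R : Subgroup Ω) : Prop :=
  ∃ hQR : Q ≤ R, ∀ α ∈ F.autGroup Q, ∃ β ∈ F.autGroup R,
    ∀ x : Q, β (Subgroup.inclusion hQR x) = Subgroup.inclusion hQR (α x)

theorem AutExt.trans {F : FusionSystem S} {Q R R' : Subgroup Ω} (h1 : AutExt F Q R)
    (h2 : AutExt F R R') : AutExt F Q R' := by
  obtain ⟨hQR, h1⟩ := h1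
  obtain ⟨hRR', h2⟩ := h2
  refine ⟨hQR.trans hRR', fun α hα => ?_⟩
  obtain ⟨β, hβ, hβ'⟩ := h1 α hα
  obtain ⟨γ, hγ, hγ'⟩ := h2 β hβ
  refine ⟨γ, hγ, fun x => ?_⟩
  have := hγ' (Subgroup.inclusion hQR x)
  rw [hβ'] at this
  exact this

theorem autExt_sup_centralizer [Finite S] (F : FusionSystem S) {Q : Subgroup Ω}
    (hr : F.IsReceptive Q) : AutExt F Q (Q ⊔ centralizerIn S Q) :=
  ⟨le_sup_left, fun _ hα => exists_aut_extension F hr hα⟩

/-- `O_p(Aut_F(R))` inside `Aut(R)` -/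
abbrev opAut (F : FusionSystem S) (p : ℕ) (R : Subgroup Ω) : Subgroup (MulAut R) :=
  (pCore p (F.autGroup R)).map (F.autGroup R).subtype

theorem opAut_le_autInducedBy {p : ℕ} [Fact p.Prime] (F : FusionSystem S) {R : Subgroup Ω}
    (ha : F.IsFullyAutomized p R) : opAut F p R ≤ autInducedBy S R := by
  obtain ⟨hRS, T, hT⟩ := ha
  rintro _ ⟨κ, hκ, rfl⟩
  have h2 : κ ∈ (T : Subgroup (F.autGroup R)) := Cfsg.Agent.Lib.Helper47.pCore_le_sylow T hκ
  rw [hT] at h2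
  exact h2

theorem opAut_conj {p : ℕ} (F : FusionSystem S) {R : Subgroup Ω} {β κ : MulAut R}
    (hβ : β ∈ F.autGroup R) (hκ : κ ∈ opAut F p R) : β * κ * β⁻¹ ∈ opAut F p R := by
  obtain ⟨k, hk, rfl⟩ := hκ
  exact ⟨⟨β, hβ⟩ * k * ⟨β, hβ⟩⁻¹,
    (Cfsg.Agent.Lib.Helper47.pCore_normal (p := p) (G := F.autGroup R)).conj_mem k hk ⟨β, hβ⟩, rfl⟩

theorem inn_le_opAut {p : ℕ} (hS : IsPGroup p S) (F : FusionSystem S) {R : Subgroup Ω}
    (hR : R ≤ S) : Inn R ≤ opAut F p R := by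
  intro κ hκ
  refine (mem_pCore_map_iff _ κ).2 ⟨Inn R, inn_le_autGroup F hR, isPGroup_inn hS hR, ?_, hκ⟩
  rintro a - _ ⟨g, rfl⟩
  refine ⟨a g, ?_⟩
  ext x
  simp

theorem le_normK_opAut {p : ℕ} (hS : IsPGroup p S) (F : FusionSystem S) {R : Subgroup Ω}
    (hR : R ≤ S) : R ≤ normK S R (opAut F p R) := by
  intro g hg
  exact ⟨hR hg, MulAut.conj (⟨g, hg⟩ : R), inn_le_opAut hS F hR ⟨_, rfl⟩, fun x => rfl⟩

theorem autExt_normK [Finite S] {p : ℕ} [Fact p.Prime] (hS : IsPGroup p S) (F : FusionSystem S)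
    {R : Subgroup Ω} (ha : F.IsFullyAutomized p R) (hr : F.IsReceptive R) :
    AutExt F R (normK S R (opAut F p R)) := by
  have hRS : R ≤ S := hr.1
  have hle := le_normK_opAut hS F hRS (p := p)
  refine ⟨hle, fun β hβ => ?_⟩
  have hβF := (mem_autGroup_iff F hRS β).1 hβ
  obtain ⟨ψ, hψ, hψ'⟩ := hr.2 R _ hβF (range_subtype_comp_equiv β)
  have hext : normK S R (opAut F p R) ≤ extender S R (R.subtype.comp β.toMonoidHom) := by
    rintro g ⟨hg, κ, hκ, hκ'⟩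
    rw [mem_extender_iff]
    refine ⟨hg, mem_normalizer_of_induces hκ', ?_⟩
    obtain ⟨h, hh, hh'⟩ := (Helper84.mem_autInducedBy_iff _ _ _).1
      (opAut_le_autInducedBy F ha (opAut_conj F hβ hκ))
    refine ⟨h, hh, fun x hx => ?_⟩
    have e1 : (⟨g * (x : Ω) * g⁻¹, hx⟩ : R) = κ x := Subtype.ext (hκ' x).symm
    rw [e1]
    have e2 := hh' (β x)
    simp only [MulAut.mul_apply, MulAut.inv_apply_self] at e2
    exact e2
  have hψ₀ := Helper84.restrict_mem F hψ hext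
  set ψ₀ := ψ.comp (Subgroup.inclusion hext) with hψ₀def
  have hag : ∀ x : R, ψ₀ (Subgroup.inclusion hle x) = (β x : R) := fun x => hψ' x x.2 _
  have hmaps : ∀ g, ψ₀ g ∈ normK S R (opAut F p R) := by
    intro g
    obtain ⟨hg, κ, hκ, hκ'⟩ := g.2
    refine ⟨(F.le_of_mem hψ₀).2 g, β * κ * β⁻¹, opAut_conj F hβ hκ, fun x => ?_⟩
    have e1 : (x : Ω) = ψ₀ (Subgroup.inclusion hle (β⁻¹ x)) := by
      rw [hag, MulAut.apply_inv_self]
    have e2 : Subgroup.inclusion hle (κ (β⁻¹ x)) = g * Subgroup.inclusion hle (β⁻¹ x) * g⁻¹ :=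
      Subtype.ext (hκ' _)
    rw [MulAut.mul_apply, MulAut.mul_apply, ← hag, e2, map_mul, map_mul, map_inv, ← e1]
  have hfin : Finite (normK S R (opAut F p R)) := finite_of_le (normK_le' _ _ _)
  refine ⟨autOfHom ψ₀ (F.injective_of_mem hψ₀) hmaps, ?_, fun x => ?_⟩
  · rw [mem_autGroup_iff F (normK_le' _ _ _)]
    exact hψ₀
  · exact Subtype.ext (hag x)

theorem lt_normK_of_not_radical {p : ℕ} [Fact p.Prime] (hS : IsPGroup p S) (F : FusionSystem S)
    {R : Subgroup Ω} (ha : F.IsFullyAutomized p R) (hnr : ¬ F.IsRadical p R) :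
    R < normK S R (opAut F p R) := by
  have hRS : R ≤ S := ha.1
  refine lt_of_le_of_ne (le_normK_opAut hS F hRS) fun heq => hnr ⟨hRS, ?_⟩
  apply le_antisymm _ (inn_le_opAut hS F hRS)
  intro κ hκ
  obtain ⟨g, hg, hg'⟩ := (Helper84.mem_autInducedBy_iff _ _ _).1 (opAut_le_autInducedBy F ha hκ)
  have hgR : g ∈ R := by
    rw [heq]
    exact ⟨hg, κ, hκ, hg'⟩
  refine ⟨⟨g, hgR⟩, ?_⟩
  ext x
  exact (hg' x).symm

theorem AutExt.transport {F : FusionSystem S} {Q R R₁ : Subgroup Ω} (h : AutExt F Q R)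
    (e : R ≃* R₁) (he : Mor F e.toMonoidHom) : ∃ Q₁, F.IsConj Q Q₁ ∧ AutExt F Q₁ R₁ := by
  obtain ⟨hQR, h⟩ := h
  have hφ : R₁.subtype.comp e.toMonoidHom ∈ F.Hom R := he
  set φ := R₁.subtype.comp e.toMonoidHom with hφdef
  obtain ⟨Q₁, hQ₁⟩ : ∃ Q₁, (Q.subgroupOf R).map φ = Q₁ := ⟨_, rfl⟩
  have heQ := mor_restrictEquiv F hφ hQR hQ₁
  set eQ := restrictEquiv φ (F.injective_of_mem hφ) hQR hQ₁ with heQdef
  have hQ₁R₁ : Q₁ ≤ R₁ := by
    rw [← hQ₁]
    rintro _ ⟨x, -, rfl⟩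
    exact (e x).2
  have hcompat : ∀ x : Q, Subgroup.inclusion hQ₁R₁ (eQ x) = e (Subgroup.inclusion hQR x) :=
    fun x => Subtype.ext rfl
  refine ⟨Q₁, (isConj_iff F).2 ⟨eQ, heQ⟩, hQ₁R₁, fun α₁ hα₁ => ?_⟩
  obtain ⟨β, hβ, hβ'⟩ := h _ (congr_mem_autGroup heQ.symm hα₁)
  refine ⟨MulAut.congr e β, congr_mem_autGroup he hβ, fun y => ?_⟩
  obtain ⟨x, rfl⟩ := eQ.surjective y
  rw [hcompat, congr_apply_apply, MulEquiv.symm_apply_apply, hβ', ← hcompat, congr_apply_apply]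
  simp

theorem autGroup_normalizerSystem_of_autExt {F : FusionSystem S} {Q R : Subgroup Ω}
    (hRS : R ≤ S) (h : AutExt F Q R) {N : FusionSystem (normalizerIn S R)}
    (hN : F.IsNormalizerSystem R N) : N.autGroup Q = F.autGroup Q := by
  obtain ⟨hQR, h⟩ := h
  have hsub : N.IsSubsystemOf F := fun P φ hφ => by rw [hN P] at hφ; exact hφ.1
  have hRN : R ≤ normalizerIn S R := Helper84.le_normalizerIn hRS
  apply le_antisymm (autGroup_le_of_subsystem hsub (hQR.trans hRN))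
  intro α hα
  obtain ⟨β, hβ, hβ'⟩ := h α hα
  rw [mem_autGroup_iff N (hQR.trans hRN)]
  unfold Mor
  rw [hN]
  have hβF := (mem_autGroup_iff F hRS β).1 hβ
  refine ⟨(mem_autGroup_iff F (hQR.trans hRS) α).1 hα, hQR.trans hRN,
    fun x => hRN (hQR (α x).2), _, Helper84.restrict_mem F hβF (sup_le hQR le_rfl), fun x => ?_, ?_⟩
  · exact congrArg (Subtype.val : R → Ω) (hβ' x)
  · rw [map_subgroupOf_eq_iff]
    constructor
    · intro x _
      exact (β _).2
    · intro y hy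
      refine ⟨⟨(β⁻¹ ⟨y, hy⟩ : R), (le_sup_right : R ≤ Q ⊔ R) (β⁻¹ ⟨y, hy⟩ : R).2⟩,
        (β⁻¹ ⟨y, hy⟩ : R).2, ?_⟩
      show ((β (β⁻¹ ⟨y, hy⟩) : R) : Ω) = y
      rw [MulAut.apply_inv_self]

theorem ps_of_autExt [Finite S] {p : ℕ} [Fact p.Prime] (hS : IsPGroup p S) (F : FusionSystem S)
    (hF : F.IsSaturated p)
    (h : ∀ R : Subgroup Ω, F.IsFullyNormalized R → F.IsCentric R → F.IsRadical p R →
      ∀ N : FusionSystem (normalizerIn S R), F.IsNormalizerSystem R N →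
        ∀ Q : Subgroup Ω, N.IsFullyNormalized Q → PS p (N.autGroup Q)) :
    ∀ (n : ℕ) (Q R : Subgroup Ω), Nat.card S - Nat.card R = n → F.IsCentric R → AutExt F Q R →
      PS p (F.autGroup Q) := by
  intro n
  induction n using Nat.strong_induction_on with
  | _ n ih =>
    intro Q R hn hc hext
    obtain ⟨R₁, hconj, hfn⟩ := exists_fullyNormalized F hc.1
    obtain ⟨e, he⟩ := (isConj_iff F).1 hconj
    obtain ⟨Q₁, hQQ₁, hext₁⟩ := hext.transport e he
    have hc₁ : F.IsCentric R₁ := Helper88.centric_of_isConj hc hconj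
    obtain ⟨-, ha, hr⟩ := sat_fullyNormalized hS hF hfn
    apply PS.of_isConj (isConj_symm hQQ₁)
    by_cases hrad : F.IsRadical p R₁
    · obtain ⟨N, hN⟩ := Cfsg.Agent.S5096.result F R₁ hfn.1
      have hfin : Finite (normalizerIn S R₁) := finite_of_le (normalizerIn_le S R₁)
      have h1 : PS p (N.autGroup Q₁) := PS.of_fullyNormalized (h R₁ hfn hc₁ hrad N hN)
        (hext₁.1.trans (Helper84.le_normalizerIn hfn.1))
      rwa [autGroup_normalizerSystem_of_autExt hfn.1 hext₁ hN] at h1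
    · have hlt := lt_normK_of_not_radical hS F ha hrad
      have hle' : normK S R₁ (opAut F p R₁) ≤ S := normK_le' _ _ _
      have hfin : Finite (normK S R₁ (opAut F p R₁)) := finite_of_le hle'
      have hcard1 : Nat.card R₁ < Nat.card (normK S R₁ (opAut F p R₁)) :=
        card_lt_card_of_lt hlt
      have hcard2 : Nat.card (normK S R₁ (opAut F p R₁)) ≤ Nat.card S :=
        Subgroup.card_le_of_le hle'
      have hcard3 : Nat.card R = Nat.card R₁ := isConj_card_eq hconj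
      exact ih (Nat.card S - Nat.card (normK S R₁ (opAut F p R₁))) (by omega) Q₁ _ rfl
        (Helper86.centric_of_le F hc₁ hlt.le hle') (hext₁.trans (autExt_normK hS F ha hr))

end Cfsg.Agent.Lib.Helper85
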