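import Cfsg.Agent.Lib.Helper85.FusRealQuot
import Cfsg.Agent.S5118
import Cfsg.Agent.S5256

set_option autoImplicit false

/-! For a system `F` realized by `ι : S → G` on a Sylow subgroup and `N` normal in `G`, the
subsystem cut out by `N` on `ι⁻¹(N)` is normal in `F` (helper85). -/

namespace Cfsg.Agent.Lib.Helper85

open Cfsg Cfsg.FusionSystem Cfsg.Agent.Lib.Helper84 Cfsg.Agent.S5256

variable {Ω : Type*} [Group Ω] {S : Subgroup Ω} {G : Type*} [Group G]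

/-- the subsystem on `ι⁻¹(N)` whose maps are, read through `ι`, conjugations by elements of `N`. -/
noncomputable def realSub (ι : S →* G) (hι : Function.Injective ι) (N : Subgroup G) :
    FusionSystem (preimageAlong ι N) where
  Hom P := {φ | ∃ (hP : P ≤ preimageAlong ι N) (hφ : ∀ x : P, φ x ∈ preimageAlong ι N),
    ∃ g ∈ N, ∀ x : P, ι ⟨φ x, preimageAlong_le _ _ (hφ x)⟩ =
      g * ι ⟨x, preimageAlong_le _ _ (hP x.2)⟩ * g⁻¹}
  le_of_mem := fun ⟨hP, hφ, _⟩ => ⟨hP, hφ⟩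
  injective_of_mem := by
    rintro P φ ⟨hP, hφ, g, -, h⟩ a b hab
    have h1 : ι ⟨φ a, preimageAlong_le _ _ (hφ a)⟩ = ι ⟨φ b, preimageAlong_le _ _ (hφ b)⟩ := by
      congr 1
      exact Subtype.ext hab
    rw [h a, h b] at h1
    have h2 := hι (mul_left_cancel (mul_right_cancel h1))
    exact Subtype.ext (congrArg (Subtype.val : S → Ω) h2)
  conj_mem := by
    intro P g hP hg
    have hgS := preimageAlong_le _ _ hg
    refine ⟨hP, fun x => Subgroup.mul_mem _ (Subgroup.mul_mem _ hg (hP x.2)) (Subgroup.inv_mem _ hg),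
      ι ⟨g, hgS⟩, (mem_preimageAlong.mp hg).2, fun x => ?_⟩
    rw [← map_inv, ← map_mul, ← map_mul]
    rfl
  comp_mem := by
    rintro P Q φ ψ ⟨hP, hφ, g, hg, h⟩ ⟨hQ, hψ, k, hk, h'⟩ hPQ
    refine ⟨hP, fun x => hψ _, k * g, N.mul_mem hk hg, fun x => ?_⟩
    have h1 := h' (φ.codRestrict Q hPQ x)
    have h2 := h x
    have e : ι ⟨(φ.codRestrict Q hPQ x : Q), preimageAlong_le _ _ (hQ (φ.codRestrict Q hPQ x).2)⟩ =
        ι ⟨φ x, preimageAlong_le _ _ (hφ x)⟩ := rfl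
    rw [e, h2] at h1
    refine h1.trans ?_
    group
  inv_mem := by
    rintro P φ ⟨hP, hφ, g, hg, h⟩
    have hinj : Function.Injective φ := by
      intro a b hab
      have h1 : ι ⟨φ a, preimageAlong_le _ _ (hφ a)⟩ = ι ⟨φ b, preimageAlong_le _ _ (hφ b)⟩ := by
        congr 1
        exact Subtype.ext hab
      rw [h a, h b] at h1
      have h2 := hι (mul_left_cancel (mul_right_cancel h1))
      exact Subtype.ext (congrArg (Subtype.val : S → Ω) h2)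
    have hψ : ∀ x : P, (P.subtype.comp (MonoidHom.ofInjective hinj).symm.toMonoidHom)
        ⟨φ x, ⟨x, rfl⟩⟩ = (x : Ω) := by
      intro x
      show (((MonoidHom.ofInjective hinj).symm ⟨φ x, ⟨x, rfl⟩⟩ : P) : Ω) = x
      have : (⟨φ x, ⟨x, rfl⟩⟩ : φ.range) = MonoidHom.ofInjective hinj x := rfl
      rw [this, MulEquiv.symm_apply_apply]
    refine ⟨P.subtype.comp (MonoidHom.ofInjective hinj).symm.toMonoidHom, ⟨?_, ?_, g⁻¹,
      N.inv_mem hg, ?_⟩, hψ⟩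
    · rintro _ ⟨x, rfl⟩; exact hφ x
    · intro y
      exact hP ((MonoidHom.ofInjective hinj).symm y).2
    · rintro ⟨_, x, rfl⟩
      have h1 := h x
      have e : ι ⟨(P.subtype.comp (MonoidHom.ofInjective hinj).symm.toMonoidHom) ⟨φ x, ⟨x, rfl⟩⟩,
          preimageAlong_le _ _ (hP ((MonoidHom.ofInjective hinj).symm ⟨φ x, ⟨x, rfl⟩⟩).2)⟩ =
          ι ⟨x, preimageAlong_le _ _ (hP x.2)⟩ := by
        congr 1
        exact Subtype.ext (hψ x)
      refine e.trans ?_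
      show _ = g⁻¹ * ι ⟨φ x, _⟩ * g⁻¹⁻¹
      rw [h1]
      group

theorem realSub_realized (ι : S →* G) (hι : Function.Injective ι) (N : Subgroup G) :
    (realSub ι hι N).IsRealizedBy (preimageMap ι N) := by
  refine ⟨?_, ?_⟩
  · intro a b hab
    have h1 := hι (congrArg Subtype.val hab)
    exact Subtype.ext (congrArg (Subtype.val : S → Ω) h1)
  · intro P hP φ hφ
    constructor
    · rintro ⟨_, _, g, hg, h⟩
      exact ⟨⟨g, hg⟩, fun x => Subtype.ext (h x)⟩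
    · rintro ⟨g, h⟩
      exact ⟨hP, hφ, g, g.2, fun x => congrArg Subtype.val (h x)⟩

theorem realSub_sylow [Finite G] {p : ℕ} [Fact p.Prime] (ι : S →* G)
    (T₀ : Sylow p G) (hT₀ : (T₀ : Subgroup G) = ι.range) (N : Subgroup G) [hN : N.Normal] :
    ∃ T : Sylow p N, (T : Subgroup N) = (preimageMap ι N).range := by
  have hSyl : SylIn p ((T₀ : Subgroup G) ⊓ N) N :=
    (sylIn_top' T₀).inf_normal le_top le_top (by rw [Subgroup.normalizer_eq_top])
  obtain ⟨R, hR⟩ := hSyl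
  refine ⟨R, ?_⟩
  rw [hR]
  ext ⟨y, hy⟩
  rw [Subgroup.mem_subgroupOf]
  constructor
  · rintro ⟨h1, -⟩
    rw [hT₀] at h1
    obtain ⟨s, rfl⟩ := h1
    exact ⟨⟨s, mem_preimageAlong.mpr ⟨s.2, hy⟩⟩, Subtype.ext rfl⟩
  · rintro ⟨x, hx⟩
    refine ⟨?_, hy⟩
    rw [hT₀]
    exact ⟨_, congrArg Subtype.val hx⟩

theorem realized_exists_aut [Finite S] {F : FusionSystem S} {ι : S →* G} (hr : F.IsRealizedBy ι)
    {Q : Subgroup Ω} (hQ : Q ≤ S) (g : G)
    (hg : ∀ x : Q, ∃ y : Q, ι ⟨y, hQ y.2⟩ = g * ι ⟨x, hQ x.2⟩ * g⁻¹) :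
    ∃ β : F.autGroup Q, ∀ x : Q,
      ι ⟨((β : MulAut Q) x : Q), hQ ((β : MulAut Q) x).2⟩ = g * ι ⟨x, hQ x.2⟩ * g⁻¹ := by
  obtain ⟨φ, hφ, hφS, h⟩ := realized_exists_hom hr hQ g (fun x => by
    obtain ⟨y, hy⟩ := hg x
    exact ⟨_, hy⟩)
  have hval : ∀ x, φ x ∈ Q := by
    intro x
    obtain ⟨y, hy⟩ := hg x
    have h1 : (⟨φ x, hφS x⟩ : S) = ⟨y, hQ y.2⟩ := hr.1 ((h x).trans hy.symm)
    have h2 : φ x = y := congrArg Subtype.val h1
    rw [h2]
    exact y.2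
  obtain ⟨β, hβ⟩ := exists_aut_of_hom F hφ hval
  refine ⟨β, fun x => ?_⟩
  rw [← h x]
  congr 1
  exact Subtype.ext (hβ x)

theorem realized_aut_elt {F : FusionSystem S} {ι : S →* G} (hr : F.IsRealizedBy ι)
    {Q : Subgroup Ω} (hQ : Q ≤ S) {α : MulAut Q} (hα : α ∈ F.autGroup Q) :
    ∃ g : G, ∀ x : Q, ι ⟨(α x : Q), hQ (α x).2⟩ = g * ι ⟨x, hQ x.2⟩ * g⁻¹ :=
  realized_exists_elt hr ((mem_autGroup_iff F hQ α).mp hα)

end Cfsg.Agent.Lib.Helper85
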