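import Cfsg.Agent.Lib.Helper85.FusRealized
import Cfsg.Agent.Lib.Helper85.SylIn3

set_option autoImplicit false

/-! A system realized by `G` on a Sylow subgroup is also realized by `G/K` for a normal
`p'`-subgroup `K` (helper85). -/

namespace Cfsg.Agent.Lib.Helper85

open Cfsg Cfsg.FusionSystem Cfsg.Agent.Lib.Helper84
open scoped Pointwise

variable {Ω : Type*} [Group Ω] {S : Subgroup Ω} {G : Type*} [Group G]

theorem sylIn_top' [Finite G] {p : ℕ} [Fact p.Prime] (T : Sylow p G) :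
    SylIn p (T : Subgroup G) ⊤ := by
  rw [sylIn_iff_card le_top, Subgroup.card_top]
  exact T.card_eq_multiplicity

theorem realized_quotient [Finite G] {p : ℕ} [hp : Fact p.Prime] {F : FusionSystem S} {ι : S →* G}
    (hr : F.IsRealizedBy ι) (T₀ : Sylow p G) (hT₀ : (T₀ : Subgroup G) = ι.range)
    (K : Subgroup G) [hKn : K.Normal] (hK : ¬ p ∣ Nat.card K) :
    F.IsRealizedBy ((QuotientGroup.mk' K).comp ι) ∧
      ∃ T : Sylow p (G ⧸ K), (T : Subgroup (G ⧸ K)) = ((QuotientGroup.mk' K).comp ι).range := by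
  have hdisj : (T₀ : Subgroup G) ⊓ K = ⊥ := by
    apply Subgroup.inf_eq_bot_of_coprime
    obtain ⟨n, hn⟩ := IsPGroup.iff_card.mp T₀.isPGroup'
    rw [hn]
    exact Nat.Coprime.pow_left _ ((Nat.Prime.coprime_iff_not_dvd hp.out).mpr hK)
  have h0 : ∀ y ∈ ι.range, y ∈ K → y = 1 := by
    intro y hy hyK
    have : y ∈ (T₀ : Subgroup G) ⊓ K := ⟨hT₀ ▸ hy, hyK⟩
    rw [hdisj] at this
    exact this
  refine ⟨⟨?_, ?_⟩, ?_⟩
  · rw [injective_iff_map_eq_one]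
    intro a ha
    have h1 : ι a ∈ K := (QuotientGroup.eq_one_iff _).mp ha
    exact (injective_iff_map_eq_one ι).mp hr.1 a (h0 _ ⟨a, rfl⟩ h1)
  · intro P hP φ hφ
    rw [hr.2 P hP φ hφ]
    constructor
    · rintro ⟨g, hg⟩
      refine ⟨QuotientGroup.mk' K g, fun x => ?_⟩
      show QuotientGroup.mk' K (ι _) = _ * QuotientGroup.mk' K (ι _) * _
      rw [hg, map_mul, map_mul, map_inv]
    · rintro ⟨g', hg'⟩
      obtain ⟨g, rfl⟩ := QuotientGroup.mk'_surjective K g'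
      have hmod : ∀ x : P, (ι ⟨φ x, hφ x⟩)⁻¹ * (g * ι ⟨x, hP x.2⟩ * g⁻¹) ∈ K := by
        intro x
        have h1 : QuotientGroup.mk' K (ι ⟨φ x, hφ x⟩) =
            QuotientGroup.mk' K g * QuotientGroup.mk' K (ι ⟨x, hP x.2⟩) *
              (QuotientGroup.mk' K g)⁻¹ := hg' x
        rw [← map_inv, ← map_mul, ← map_mul] at h1
        exact QuotientGroup.eq.mp h1
      have hA : ((imageAlong ι P).map (MulAut.conj g).toMonoidHom) ≤ (T₀ : Subgroup G) ⊔ K := by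
        rintro _ ⟨_, ⟨x, hx, rfl⟩, rfl⟩
        have h1 := hmod ⟨x, hx⟩
        have e : (MulAut.conj g).toMonoidHom (ι x) =
            ι ⟨φ ⟨x, hx⟩, hφ _⟩ * ((ι ⟨φ ⟨x, hx⟩, hφ _⟩)⁻¹ * (g * ι x * g⁻¹)) := by
          rw [mul_inv_cancel_left]; rfl
        rw [e]
        exact Subgroup.mul_mem _ ((le_sup_left : (T₀ : Subgroup G) ≤ _) (hT₀ ▸ ⟨_, rfl⟩))
          ((le_sup_right : K ≤ _) h1)
      have hAp : IsPGroup p ((imageAlong ι P).map (MulAut.conj g).toMonoidHom) := by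
        apply IsPGroup.map
        apply T₀.isPGroup'.to_le
        rintro _ ⟨x, -, rfl⟩
        exact hT₀ ▸ ⟨x, rfl⟩
      have hSyl : SylIn p (T₀ : Subgroup G) ((T₀ : Subgroup G) ⊔ K) :=
        (sylIn_top' T₀).of_le le_sup_left le_top
      obtain ⟨h, hh, hhA⟩ := hSyl.exists_conj_le hA hAp
      have hh' : h ∈ ((T₀ : Subgroup G) : Set G) * (K : Set G) := by
        rw [← Subgroup.mul_normal]; exact hh
      obtain ⟨s, hs, k, hk, rfl⟩ := Set.mem_mul.mp hh'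
      have hkA : ∀ x : P, k * (g * ι ⟨x, hP x.2⟩ * g⁻¹) * k⁻¹ ∈ (T₀ : Subgroup G) := by
        intro x
        have h1 : s * k * (g * ι ⟨x, hP x.2⟩ * g⁻¹) * (s * k)⁻¹ ∈ (T₀ : Subgroup G) :=
          hhA ⟨_, ⟨_, ⟨⟨x, hP x.2⟩, x.2, rfl⟩, rfl⟩, rfl⟩
        have h2 := Subgroup.mul_mem _ (Subgroup.mul_mem _ (Subgroup.inv_mem _ hs) h1) hs
        have e : s⁻¹ * (s * k * (g * ι ⟨x, hP x.2⟩ * g⁻¹) * (s * k)⁻¹) * s =
            k * (g * ι ⟨x, hP x.2⟩ * g⁻¹) * k⁻¹ := by group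
        rwa [e] at h2
      refine ⟨k * g, fun x => ?_⟩
      have h1 := hkA x
      have h2 := hmod x
      obtain ⟨a, ha⟩ : ∃ a, a = g * ι ⟨x, hP x.2⟩ * g⁻¹ := ⟨_, rfl⟩
      rw [← ha] at h1 h2
      have h3 : (ι ⟨φ x, hφ x⟩)⁻¹ * (k * a * k⁻¹) ∈ K := by
        have h4 : a⁻¹ * k * a ∈ K := by
          have := hKn.conj_mem k hk a⁻¹
          rwa [inv_inv] at this
        have e : (ι ⟨φ x, hφ x⟩)⁻¹ * (k * a * k⁻¹) =
            ((ι ⟨φ x, hφ x⟩)⁻¹ * a) * (a⁻¹ * k * a) * k⁻¹ := by group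
        rw [e]
        exact K.mul_mem (K.mul_mem h2 h4) (K.inv_mem hk)
      have h5 : (ι ⟨φ x, hφ x⟩)⁻¹ * (k * a * k⁻¹) ∈ ι.range := by
        rw [← hT₀]
        exact Subgroup.mul_mem _ (Subgroup.inv_mem _ (hT₀ ▸ ⟨_, rfl⟩)) h1
      have h6 := h0 _ h5 h3
      rw [inv_mul_eq_one] at h6
      rw [h6, ha]
      group
  · refine ⟨T₀.mapSurjective (QuotientGroup.mk'_surjective K), ?_⟩
    rw [Sylow.coe_mapSurjective, hT₀, MonoidHom.map_range]

end Cfsg.Agent.Lib.Helper85
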