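import Cfsg.Agent.S5256
import Cfsg.Agent.Lib.Helper85.FusPIndex2

set_option autoImplicit false

/-! Transfer of elements of `O^p(Aut_F(P))` along morphisms of fusion systems and along
extension by central subgroups (helper85). -/

namespace Cfsg.Agent.Lib.Helper85

open Cfsg Cfsg.FusionSystem Cfsg.Agent.Lib.Helper84 Cfsg.Agent.S5256

variable {Ω : Type*} [Group Ω] {S : Subgroup Ω} {Ω' : Type*} [Group Ω'] {S' : Subgroup Ω'}

theorem pRes_push [Finite S] [Finite S'] (p : ℕ) [Fact p.Prime] (F : FusionSystem S)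
    (E : FusionSystem S') (θ : S →* Ω') (hm : F.IsMorphism E θ) {P : Subgroup Ω} (hPS : P ≤ S)
    {α : F.autGroup P} (hα : α ∈ pResidual p (F.autGroup P)) :
    ∃ α' ∈ pResidual p (E.autGroup (imageAlong θ P)),
      ∀ x, (α' : MulAut _) (imageMap θ hPS x) = imageMap θ hPS ((α : MulAut _) x) := by
  obtain ⟨hθS', hmor⟩ := hm
  have hfinP : Finite P := finite_of_le hPS
  have hP'S' : imageAlong θ P ≤ S' := imageAlong_le θ hθS' P
  have hfinP' : Finite ↥(imageAlong θ P) := finite_of_le hP'S'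
  let W := relAut (imageMap θ hPS) (F.autGroup P) (E.autGroup (imageAlong θ P))
  have htot : ∀ g : F.autGroup P, ∃ h : E.autGroup (imageAlong θ P), (g, h) ∈ W := by
    intro g
    have hg : P.subtype.comp (g : MulAut P).toMonoidHom ∈ F.Hom P :=
      (mem_autGroup_iff F hPS g).mp g.2
    obtain ⟨φ', hφ', h1, h2, h3, h4⟩ := hmor P _ hg
    have hval : ∀ y, φ' y ∈ imageAlong θ P := by
      intro y
      obtain ⟨x, rfl⟩ := imageMap_surjective θ hPS y
      have e : φ' (imageMap θ hPS x) = θ ⟨_, h2 x⟩ := h4 x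
      rw [e]
      exact ⟨_, ((g : MulAut P) x).2, rfl⟩
    obtain ⟨β, hβ⟩ := exists_aut_of_hom E hφ' hval
    refine ⟨β, ?_⟩
    show ∀ x, (β : MulAut _) (imageMap θ hPS x) = imageMap θ hPS ((g : MulAut _) x)
    intro x
    apply Subtype.ext
    rw [hβ, imageMap_apply]
    exact h4 x
  obtain ⟨α', hα', hW⟩ := Cfsg.Agent.Lib.Helper86.exists_mem_pResidual_of_rel p W htot hα
  exact ⟨α', hα', hW⟩

theorem pRes_pull [Finite S] [Finite S'] (p : ℕ) [Fact p.Prime] (F : FusionSystem S)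
    (E : FusionSystem S') (θ : S →* Ω')
    (hsurj : ∀ (P' : Subgroup Ω'), P' ≤ S' → ∀ φ' ∈ E.Hom P',
      ∃ φ ∈ F.Hom (preimageAlong θ P'), InducedAlong θ φ φ')
    {P' : Subgroup Ω'} (hP' : P' ≤ S')
    {α' : E.autGroup P'} (hα' : α' ∈ pResidual p (E.autGroup P')) :
    ∃ α ∈ pResidual p (F.autGroup (preimageAlong θ P')),
      ∀ x, (α' : MulAut _) (preimageMap θ P' x) = preimageMap θ P' ((α : MulAut _) x) := by
  have hfinP' : Finite P' := finite_of_le hP'
  have hPS : preimageAlong θ P' ≤ S := preimageAlong_le θ P'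
  have hfinP : Finite ↥(preimageAlong θ P') := finite_of_le hPS
  let W := (relAut (preimageMap θ P') (F.autGroup (preimageAlong θ P')) (E.autGroup P')).comap
    (MulEquiv.prodComm : E.autGroup P' × F.autGroup (preimageAlong θ P') ≃* _).toMonoidHom
  have htot : ∀ g : E.autGroup P', ∃ h : F.autGroup (preimageAlong θ P'), (g, h) ∈ W := by
    intro g
    have hg : P'.subtype.comp (g : MulAut P').toMonoidHom ∈ E.Hom P' :=
      (mem_autGroup_iff E hP' g).mp g.2
    obtain ⟨φ, hφ, h1, h2, h3, h4⟩ := hsurj P' hP' _ hg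
    have hval : ∀ x, φ x ∈ preimageAlong θ P' := by
      intro x
      refine mem_preimageAlong.mpr ⟨h2 x, ?_⟩
      rw [← h4 x]
      exact ((g : MulAut P') _).2
    obtain ⟨β, hβ⟩ := exists_aut_of_hom F hφ hval
    refine ⟨β, ?_⟩
    show ∀ x, (g : MulAut P') (preimageMap θ P' x) = preimageMap θ P' ((β : MulAut _) x)
    intro x
    apply Subtype.ext
    rw [preimageMap_apply]
    refine (h4 x).trans ?_
    congr 1
    exact Subtype.ext (hβ x).symm
  obtain ⟨α, hα, hW⟩ := Cfsg.Agent.Lib.Helper86.exists_mem_pResidual_of_rel p W htot hα'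
  exact ⟨α, hα, hW⟩

theorem pRes_extend_central [Finite S] (p : ℕ) [Fact p.Prime] (F : FusionSystem S)
    {Z : Subgroup Ω} (hZ : F.IsCentral Z) {P : Subgroup Ω} (hPS : P ≤ S)
    {α : F.autGroup P} (hα : α ∈ pResidual p (F.autGroup P)) :
    ∃ ρ ∈ pResidual p (F.autGroup (P ⊔ Z)),
      ∀ x : P, (ρ : MulAut ↥(P ⊔ Z)) (Subgroup.inclusion le_sup_left x) =
        Subgroup.inclusion le_sup_left ((α : MulAut P) x) := by
  have hfinP : Finite P := finite_of_le hPS
  have hQS : P ⊔ Z ≤ S := sup_le hPS hZ.1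
  have hfinQ : Finite ↥(P ⊔ Z) := finite_of_le hQS
  let W := relAut (Subgroup.inclusion (le_sup_left : P ≤ P ⊔ Z)) (F.autGroup P)
    (F.autGroup (P ⊔ Z))
  have htot : ∀ g : F.autGroup P, ∃ h : F.autGroup (P ⊔ Z), (g, h) ∈ W := by
    intro g
    have hg : P.subtype.comp (g : MulAut P).toMonoidHom ∈ F.Hom P :=
      (mem_autGroup_iff F hPS g).mp g.2
    obtain ⟨ψ, hψ, h1, h2⟩ := hZ.2 P _ hg
    have hval : ∀ y, ψ y ∈ P ⊔ Z := by
      apply map_sup_mem
      · intro x
        rw [h1]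
        exact ((g : MulAut P) x).2
      · intro x
        rw [h2]
        exact x.2
    obtain ⟨β, hβ⟩ := exists_aut_of_hom F hψ hval
    refine ⟨β, ?_⟩
    show ∀ x : P, (β : MulAut ↥(P ⊔ Z)) (Subgroup.inclusion le_sup_left x) =
      Subgroup.inclusion le_sup_left ((g : MulAut P) x)
    intro x
    apply Subtype.ext
    rw [hβ, h1]
    rfl
  obtain ⟨ρ, hρ, hW⟩ := Cfsg.Agent.Lib.Helper86.exists_mem_pResidual_of_rel p W htot hα
  exact ⟨ρ, hρ, hW⟩

end Cfsg.Agent.Lib.Helper85
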