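import Cfsg.Agent.Lib.Helper85.FusConstr2
import Cfsg.Agent.Lib.Helper85.FusResRel
import Cfsg.Agent.Lib.Helper86.Restrict
import Cfsg.Agent.S5124
import Cfsg.Prelude.Def_FusionReduction

set_option autoImplicit false

/-! Uniqueness of residual limits; subsystems of `p`-power index have the same hyperfocal
subgroup (helper85). -/

namespace Cfsg.Agent.Lib.Helper85

open Cfsg Cfsg.FusionSystem Cfsg.Agent.Lib.Helper84 Cfsg.Agent.Lib.Helper87 Cfsg.Agent.S5256

universe u

variable {Ω : Type u} [Group Ω]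

def SameHom {T₁ T₂ : Subgroup Ω} (E₁ : FusionSystem T₁) (E₂ : FusionSystem T₂) : Prop :=
  ∀ P, E₁.Hom P = E₂.Hom P

theorem SameHom.symm {T₁ T₂ : Subgroup Ω} {E₁ : FusionSystem T₁} {E₂ : FusionSystem T₂}
    (h : SameHom E₁ E₂) : SameHom E₂ E₁ := fun P => (h P).symm

theorem SameHom.trans {T₁ T₂ T₃ : Subgroup Ω} {E₁ : FusionSystem T₁} {E₂ : FusionSystem T₂}
    {E₃ : FusionSystem T₃} (h : SameHom E₁ E₂) (h' : SameHom E₂ E₃) : SameHom E₁ E₃ :=
  fun P => (h P).trans (h' P)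

theorem SameHom.subgroup_eq {T₁ T₂ : Subgroup Ω} {E₁ : FusionSystem T₁} {E₂ : FusionSystem T₂}
    (h : SameHom E₁ E₂) : T₁ = T₂ :=
  le_antisymm (E₂.le_of_mem (h T₁ ▸ id_mem E₁ le_rfl)).1
    (E₁.le_of_mem ((h T₂).symm ▸ id_mem E₂ le_rfl)).1

theorem SameHom.elim {motive : ∀ {T : Subgroup Ω}, FusionSystem T → Prop}
    {T₁ T₂ : Subgroup Ω} {E₁ : FusionSystem T₁} {E₂ : FusionSystem T₂}
    (h : SameHom E₁ E₂) (h₁ : motive E₁) : motive E₂ := by
  have hT := h.subgroup_eq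
  subst hT
  rw [← fs_ext h]
  exact h₁

theorem pPrimeResidual_unique {S : Subgroup Ω} {F D₁ D₂ : FusionSystem S} {p : ℕ}
    (h₁ : F.IsPPrimeResidual p D₁) (h₂ : F.IsPPrimeResidual p D₂) : D₁ = D₂ :=
  fs_ext (fun P => Set.Subset.antisymm (h₁.2.2 D₂ h₂.1 h₂.2.1 P) (h₂.2.2 D₁ h₁.1 h₁.2.1 P))

theorem hasPPowerIndexIn_self {S : Subgroup Ω} (F : FusionSystem S) (p : ℕ) :
    F.HasPPowerIndexIn F p :=
  ⟨fun _ => subset_rfl, hyperfocal_le F p, fun P _ => by
    rintro _ ⟨a, -, rfl⟩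
    exact a.2⟩

theorem limit_of_stable {T S : Subgroup Ω} {L : FusionSystem T} {F : FusionSystem S} {p : ℕ}
    (h : L.IsResidualLimitOf F p) : ∀ [Fact p.Prime] [Finite S], IsPGroup p S →
      F.IsSaturated p → F.hyperfocalSubgroup p = S → F.IsPPrimeResidual p F → SameHom L F := by
  induction h with
  | stable F p h1 h2 =>
    intro _ _ _ _ _ _ P
    rfl
  | step F p D D' hD hD' hlim ih =>
    intro _ _ hS hsat hhyp hres
    have hle := hyperfocal_le F p
    have hfin : Finite ↥(F.hyperfocalSubgroup p) := finite_of_le hle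
    have hp : IsPGroup p ↥(F.hyperfocalSubgroup p) := hS.to_le hle
    have hDF : SameHom D F :=
      eq_of_hasPPowerIndexIn F hp hhyp D F hD.1 hD.2 hsat (hasPPowerIndexIn_self F p)
    have hDres : D.IsPPrimeResidual p D :=
      hDF.symm.elim (motive := fun X => X.IsPPrimeResidual p X) hres
    have hD'D : D' = D := pPrimeResidual_unique hD' hDres
    subst hD'D
    have hDhyp : D'.hyperfocalSubgroup p = F.hyperfocalSubgroup p :=
      hDF.symm.elim (motive := fun {T} X => X.hyperfocalSubgroup p = T) hhyp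
    exact (ih hp hD.1 hDhyp hDres).trans hDF

theorem limit_unique {T S : Subgroup Ω} {L : FusionSystem T} {F : FusionSystem S} {p : ℕ}
    (h : L.IsResidualLimitOf F p) : ∀ [Fact p.Prime] [Finite S], IsPGroup p S →
      F.IsSaturated p → ∀ {T' : Subgroup Ω} (L' : FusionSystem T'),
        L'.IsResidualLimitOf F p → SameHom L L' := by
  induction h with
  | stable F p h1 h2 =>
    intro _ _ hS hsat T' L' hL'
    exact (limit_of_stable hL' hS hsat h1 h2).symm
  | step F p D D' hD hD' hlim ih =>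
    intro _ _ hS hsat T' L' hL'
    have hle := hyperfocal_le F p
    have hfin : Finite ↥(F.hyperfocalSubgroup p) := finite_of_le hle
    have hp : IsPGroup p ↥(F.hyperfocalSubgroup p) := hS.to_le hle
    cases hL' with
    | stable _ _ h1 h2 =>
      exact limit_of_stable (IsResidualLimitOf.step F p D D' hD hD' hlim) hS hsat h1 h2
    | step _ _ D₂ D₂' hD₂ hD₂' hlim₂ =>
      have e1 : D = D₂ := fs_ext (eq_of_hasPPowerIndexIn F hp rfl D D₂ hD.1 hD.2 hD₂.1 hD₂.2)
      subst e1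
      have e2 : D' = D₂' := pPrimeResidual_unique hD' hD₂'
      subst e2
      exact ih hp hD'.1 L' hlim₂

theorem limit_step' {T S T₀ : Subgroup Ω} {L : FusionSystem T} (F : FusionSystem S) (p : ℕ)
    (h₀ : T₀ = F.hyperfocalSubgroup p) (D D' : FusionSystem T₀) (h1 : D.IsSaturated p)
    (h2 : D.HasPPowerIndexIn F p) (h3 : D.IsPPrimeResidual p D')
    (h4 : L.IsResidualLimitOf D' p) : L.IsResidualLimitOf F p := by
  subst h₀
  exact IsResidualLimitOf.step F p D D' ⟨h1, h2⟩ h3 h4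

theorem mem_of_pow_mem_coprime {H : Subgroup Ω} {n : Ω} {a b : ℕ} (hab : Nat.Coprime a b)
    (ha : n ^ a ∈ H) (hb : n ^ b ∈ H) : n ∈ H := by
  have h1 := Nat.gcd_eq_gcd_ab a b
  rw [hab] at h1
  have h2 : n = (n ^ a) ^ (Nat.gcdA a b) * (n ^ b) ^ (Nat.gcdB a b) := by
    rw [← zpow_natCast n a, ← zpow_natCast n b, ← zpow_mul, ← zpow_mul, ← zpow_add, ← h1]
    simp
  rw [h2]
  exact H.mul_mem (H.zpow_mem ha _) (H.zpow_mem hb _)

/-- `O^p(A) ≤ B` implies `O^p(A) ≤ O^p(B)`. -/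
theorem pResidual_map_le_of_le {X : Type*} [Group X] (p : ℕ) {A B : Subgroup X}
    (h : (pResidual p A).map A.subtype ≤ B) :
    (pResidual p A).map A.subtype ≤ (pResidual p B).map B.subtype := by
  have h0 := h
  unfold pResidual at h0 ⊢
  rw [MonoidHom.map_closure, Subgroup.closure_le]
  rintro _ ⟨a, ha, rfl⟩
  have haB : (a : X) ∈ B := h ⟨a, Subgroup.subset_closure ha, rfl⟩
  refine ⟨⟨a, haB⟩, Subgroup.subset_closure ?_, rfl⟩
  show Nat.Coprime (orderOf (⟨a, haB⟩ : B)) p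
  have h1 : orderOf (⟨(a : X), haB⟩ : B) = orderOf (a : X) := by
    rw [← Subgroup.orderOf_coe]
  have h2 : orderOf a = orderOf (a : X) := by
    rw [← Subgroup.orderOf_coe]
  rw [h1, ← h2]
  exact ha

end Cfsg.Agent.Lib.Helper85
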