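import Cfsg.Agent.Lib.Helper85.FusSignTransfer
import Cfsg.Agent.Lib.Helper84.FusionCentral

set_option autoImplicit false

/-! Fixed point counts on a characteristic biset for an involution (helper85). -/

namespace Cfsg.Agent.Lib.Helper85

open Cfsg Cfsg.FusionSystem Cfsg.Agent.Lib.Helper84 Cfsg.Agent.Lib.Helper88 MulAction

variable {Ω : Type*} [Group Ω] {S : Subgroup Ω} {X : Type*} [MulAction (S × S) X]

theorem range_of_zpowers {t : Ω} (θ : Subgroup.zpowers t →* Ω) :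
    θ.range = Subgroup.zpowers (θ ⟨t, Subgroup.mem_zpowers t⟩) := by
  ext y
  constructor
  · rintro ⟨⟨x, hx⟩, rfl⟩
    obtain ⟨k, rfl⟩ := Subgroup.mem_zpowers_iff.1 hx
    refine Subgroup.mem_zpowers_iff.2 ⟨k, ?_⟩
    rw [← map_zpow]
    rfl
  · intro hy
    obtain ⟨k, rfl⟩ := Subgroup.mem_zpowers_iff.1 hy
    exact ⟨⟨t, Subgroup.mem_zpowers t⟩ ^ k, map_zpow _ _ _⟩

theorem isConjElt_symm {F : FusionSystem S} {i t : Ω} (h : F.IsConjElt i t) : F.IsConjElt t i := by
  obtain ⟨φ, hφ, rfl⟩ := h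
  obtain ⟨ψ, hψ, hψ'⟩ := F.inv_mem hφ
  have := isConjElt_of_mem F hψ ⟨φ ⟨i, Subgroup.mem_zpowers i⟩, ⟨_, rfl⟩⟩
  rwa [hψ'] at this

theorem isConjElt_trans {F : FusionSystem S} {a b c : Ω} (h1 : F.IsConjElt a b)
    (h2 : F.IsConjElt b c) : F.IsConjElt a c := by
  obtain ⟨φ, hφ, rfl⟩ := h1
  obtain ⟨ψ, hψ, rfl⟩ := h2
  have hm : ∀ x, φ x ∈ Subgroup.zpowers (φ ⟨a, Subgroup.mem_zpowers a⟩) := by
    intro x
    rw [← range_of_zpowers]
    exact ⟨x, rfl⟩
  exact ⟨_, F.comp_mem hφ hψ hm, rfl⟩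

theorem isConj_zpowers {F : FusionSystem S} {i t : Ω} (h : F.IsConjElt i t) :
    F.IsConj (Subgroup.zpowers i) (Subgroup.zpowers t) := by
  obtain ⟨φ, hφ, rfl⟩ := h
  exact ⟨φ, hφ, range_of_zpowers φ⟩

theorem zpowers_eq_gr (i t : S) {θ : Subgroup.zpowers (t : Ω) →* Ω}
    (hθ : θ ⟨t, Subgroup.mem_zpowers _⟩ = i) :
    Subgroup.zpowers ((i, t) : S × S) = gr S (Subgroup.zpowers (t : Ω)) θ := by
  apply le_antisymm
  · rw [Subgroup.zpowers_le]
    exact ⟨Subgroup.mem_zpowers _, hθ⟩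
  · rintro ⟨a, b⟩ ⟨hb, hab⟩
    obtain ⟨k, hk⟩ := Subgroup.mem_zpowers_iff.1 hb
    refine Subgroup.mem_zpowers_iff.2 ⟨k, ?_⟩
    have hb' : t ^ k = b := Subtype.ext hk
    have ha' : i ^ k = a := by
      apply Subtype.ext
      have e : (⟨(b : Ω), hb⟩ : Subgroup.zpowers (t : Ω)) = ⟨t, Subgroup.mem_zpowers _⟩ ^ k :=
        Subtype.ext hk.symm
      have hab' : θ ⟨(b : Ω), hb⟩ = a := hab
      rw [← hab', e, map_zpow, hθ]
      rfl
    rw [Prod.ext_iff]
    exact ⟨ha', hb'⟩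

theorem mark_zpowers_eq {F : FusionSystem S} (h : IsFBiset F X) {i t t' : S}
    (ht : F.IsConjElt (i : Ω) t) (ht' : F.IsConjElt (i : Ω) t') :
    mark X (Subgroup.zpowers ((i, t) : S × S)) = mark X (Subgroup.zpowers ((i, t') : S × S)) := by
  obtain ⟨θ, hθ, hθi⟩ := isConjElt_symm ht
  obtain ⟨θ', hθ', hθi'⟩ := isConjElt_symm ht'
  rw [zpowers_eq_gr i t hθi, zpowers_eq_gr i t' hθi']
  apply h.stable _ (gr_mem_fam F hθ) _ (gr_mem_fam F hθ')
  rw [p2_gr F hθ, p2_gr F hθ']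
  exact isConj_trans (isConj_zpowers (isConjElt_symm ht)) (isConj_zpowers ht')

theorem mark_zpowers (g : S × S) : mark X (Subgroup.zpowers g) = {y : X | g • y = y}.ncard := by
  unfold mark fixSet
  congr 1
  ext y
  simp only [Set.mem_setOf_eq, Subgroup.zpowers_le, mem_stabilizer_iff]

/-- `C` acting on the right -/
def rt (C : Subgroup S) : Subgroup (S × S) := C.map (MonoidHom.inr S S)

theorem ncard_orbit_rt {F : FusionSystem S} (h : IsFBiset F X) (C : Subgroup S) (y : X) :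
    (orbit (rt C) y).ncard = Nat.card C := by
  have : orbit (rt C) y = (fun c : C => (((1 : S), (c : S)) : S × S) • y) '' Set.univ := by
    ext x
    simp only [Set.image_univ, Set.mem_range]
    constructor
    · rintro ⟨⟨_, c, hc, rfl⟩, rfl⟩
      exact ⟨⟨c, hc⟩, rfl⟩
    · rintro ⟨c, rfl⟩
      exact ⟨⟨_, c, c.2, rfl⟩, rfl⟩
  rw [this, Set.ncard_image_of_injective, Set.ncard_univ]
  intro c c' hcc
  exact Subtype.ext (right_cancel h y _ _ hcc)

theorem card_centralizer_dvd [Finite X] {F : FusionSystem S} (h : IsFBiset F X) (i j : S) :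
    Nat.card (Subgroup.centralizer ({j} : Set S)) ∣ {y : X | ((i, j) : S × S) • y = y}.ncard := by
  apply dvd_ncard_of_orbits (G := rt (Subgroup.centralizer ({j} : Set S))) _ _ _ rfl
  · rintro ⟨_, c, hc, rfl⟩ y hy
    show ((i, j) : S × S) • ((((1 : S), c) : S × S) • y) = (((1 : S), c) : S × S) • y
    have hcj : c * j = j * c := (Subgroup.mem_centralizer_singleton_iff.1 hc)
    have e : ((i, j) : S × S) * ((1 : S), c) = ((1 : S), c) * (i, j) := by
      rw [Prod.mk_mul_mk, Prod.mk_mul_mk, mul_one, one_mul, hcj]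
    have hy' : ((i, j) : S × S) • y = y := hy
    rw [← mul_smul, e, mul_smul, hy']
  · intro y _
    rw [ncard_orbit_rt h]

theorem ncard_conj_orbit [Finite S] (t : S) :
    (orbit (ConjAct S) t).ncard * Nat.card (Subgroup.centralizer ({t} : Set S)) = Nat.card S := by
  rw [← MulAction.index_stabilizer]
  have : Nat.card (stabilizer (ConjAct S) t) = Nat.card (Subgroup.centralizer ({t} : Set S)) :=
    Nat.card_congr (Equiv.subtypeEquiv ConjAct.ofConjAct.toEquiv (by
      intro g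
      rw [mem_stabilizer_iff, ConjAct.smul_def, Subgroup.mem_centralizer_singleton_iff]
      show _ ↔ ConjAct.ofConjAct g * t = t * ConjAct.ofConjAct g
      rw [mul_inv_eq_iff_eq_mul]))
  rw [← this, mul_comm, Subgroup.card_mul_index]
  rfl

theorem card_centralizer_eq (t : S) (ht : orderOf t = 2) :
    Nat.card (Subgroup.centralizer ({t} : Set S)) =
      Nat.card (normalizerIn S (Subgroup.zpowers (t : Ω))) := by
  have ht1 : (t : Ω) ≠ 1 := by
    intro h
    have : t = 1 := Subtype.ext h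
    rw [this, orderOf_one] at ht
    omega
  have ht2 : (t : Ω) ^ 2 = 1 := by
    have := pow_orderOf_eq_one t
    rw [ht] at this
    exact congrArg (fun s : S => (s : Ω)) this
  apply Nat.card_congr
  refine ⟨fun c => ⟨((c : S) : Ω), (c : S).2, ?_⟩, fun x => ⟨⟨x, x.2.1⟩, ?_⟩, fun c => rfl,
    fun x => rfl⟩
  · apply Subgroup.centralizer_le_normalizer
    rw [Subgroup.mem_centralizer_iff]
    intro y hy
    obtain ⟨k, rfl⟩ := Subgroup.mem_zpowers_iff.1 hy
    have hc : (c : S) * t = t * (c : S) := Subgroup.mem_centralizer_singleton_iff.1 c.2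
    have hc' : Commute ((c : S) : Ω) (t : Ω) := congrArg (fun s : S => (s : Ω)) hc
    exact (hc'.zpow_right k).symm
  · rw [Subgroup.mem_centralizer_singleton_iff]
    apply Subtype.ext
    show (x : Ω) * t = t * x
    have hx := (Subgroup.mem_normalizer_iff.1 x.2.2 (t : Ω)).1 (Subgroup.mem_zpowers _)
    obtain ⟨k, hk⟩ := Subgroup.mem_zpowers_iff.1 hx
    rcases Int.emod_two_eq_zero_or_one k with h0 | h0
    · exfalso
      obtain ⟨m, rfl⟩ : (2 : ℤ) ∣ k := Int.dvd_of_emod_eq_zero h0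
      rw [zpow_mul, zpow_ofNat, ht2, one_zpow] at hk
      apply ht1
      have : (x : Ω) * t * (x : Ω)⁻¹ = 1 := hk.symm
      rw [mul_inv_eq_one] at this
      exact mul_left_cancel (this.trans (mul_one _).symm)
    · have hk' : k = 2 * (k / 2) + 1 := by omega
      rw [hk', zpow_add, zpow_mul, zpow_ofNat, ht2, one_zpow, one_mul, zpow_one] at hk
      rw [eq_mul_inv_iff_mul_eq] at hk
      exact hk.symm

end Cfsg.Agent.Lib.Helper85
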