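import Mathlib

set_option autoImplicit false

/-! Counting lemmas: sign of an involution, sets made of orbits, preimages with constant fibres
(helper85). -/

namespace Cfsg.Agent.Lib.Helper85

open Equiv.Perm MulAction

theorem sign_of_sq_eq_one {α : Type*} [Fintype α] [DecidableEq α] (σ : Equiv.Perm α)
    (h : σ ^ 2 = 1) {k : ℕ} (hk : σ.support.card = 2 * k) : Equiv.Perm.sign σ = (-1) ^ k := by
  have h2 : ∀ n ∈ σ.cycleType, n = 2 := by
    intro n hn
    have h1 : n ∣ 2 := (dvd_of_mem_cycleType hn).trans (orderOf_dvd_of_pow_eq_one h)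
    have h3 := two_le_of_mem_cycleType hn
    exact le_antisymm (Nat.le_of_dvd (by norm_num) h1) h3
  have h3 : σ.cycleType = Multiset.replicate (Multiset.card σ.cycleType) 2 :=
    Multiset.eq_replicate_card.2 h2
  have h4 : σ.cycleType.sum = 2 * k := by rw [sum_cycleType, hk]
  have h5 : Multiset.card σ.cycleType = k := by
    rw [h3, Multiset.sum_replicate] at h4
    simp only [smul_eq_mul] at h4
    omega
  rw [sign_of_cycleType, h4, h5, pow_add, pow_mul]
  simp

theorem dvd_ncard_of_orbits {G α : Type*} [Group G] [MulAction G α] [Finite α] (n : ℕ) :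
    ∀ (m : ℕ) (W : Set α), W.ncard = m → (∀ (g : G), ∀ w ∈ W, g • w ∈ W) →
      (∀ w ∈ W, n ∣ (orbit G w).ncard) → n ∣ W.ncard := by
  intro m
  induction m using Nat.strong_induction_on with
  | _ m ih =>
    intro W hm hW hn
    rcases W.eq_empty_or_nonempty with rfl | ⟨w, hw⟩
    · simp
    · have hsub : orbit G w ⊆ W := by
        rintro _ ⟨g, rfl⟩
        exact hW g w hw
      have hpos : 0 < (orbit G w).ncard :=
        (Set.ncard_pos (Set.toFinite _)).2 ⟨w, mem_orbit_self w⟩
      have hcard : (W \ orbit G w).ncard + (orbit G w).ncard = W.ncard :=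
        Set.ncard_diff_add_ncard_of_subset hsub (Set.toFinite _)
      have h1 : n ∣ (W \ orbit G w).ncard := by
        apply ih (W \ orbit G w).ncard (by omega) _ rfl
        · rintro g x ⟨hx, hx'⟩
          refine ⟨hW g x hx, fun hgx => hx' ?_⟩
          have : x = g⁻¹ • (g • x) := by simp
          rw [this]
          obtain ⟨a, ha⟩ := hgx
          exact ⟨g⁻¹ * a, by
            show (g⁻¹ * a) • w = _
            rw [mul_smul]; exact congrArg (g⁻¹ • ·) ha⟩
        · intro x hx
          exact hn x hx.1
      rw [← hcard]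
      exact dvd_add h1 (hn w hw)

theorem ncard_preimage_of_fibers {X Z : Type*} [Finite X] [Finite Z] (q : X → Z) (n : ℕ)
    (B : Set Z) (hq : ∀ z ∈ B, {x | q x = z}.ncard = n) : (q ⁻¹' B).ncard = n * B.ncard := by
  classical
  haveI := Fintype.ofFinite X
  haveI := Fintype.ofFinite Z
  rw [Set.ncard_eq_toFinset_card' (q ⁻¹' B), Set.ncard_eq_toFinset_card' B]
  rw [Finset.card_eq_sum_card_fiberwise (f := q) (t := B.toFinset) (by
    intro x hx
    simpa using hx)]
  rw [Finset.sum_congr rfl (g := fun _ => n), Finset.sum_const, smul_eq_mul, mul_comm]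
  intro z hz
  have hz' : z ∈ B := by simpa using hz
  rw [← hq z hz', Set.ncard_eq_toFinset_card']
  congr 1
  ext x
  simp only [Finset.mem_filter, Set.mem_toFinset, Set.mem_preimage, Set.mem_setOf_eq]
  constructor
  · exact fun h => h.2
  · intro h
    exact ⟨h ▸ hz', h⟩

end Cfsg.Agent.Lib.Helper85
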