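import Cfsg.Agent.Lib.Helper88.FusTransfer
import Cfsg.Agent.Lib.Helper85.SignCount

set_option autoImplicit false

/-! The transfer of a saturated fusion system into a quotient of order two, realised as the sign of
the left action on the right `T`-orbits of a characteristic biset (helper85). -/

namespace Cfsg.Agent.Lib.Helper85

open Cfsg Cfsg.FusionSystem Cfsg.Agent.Lib.Helper84 Cfsg.Agent.Lib.Helper88 MulAction

variable {Ω : Type*} [Group Ω] {S : Subgroup Ω} {X : Type*} [MulAction (S × S) X]

/-- lying in the same right `T`-orbit -/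
def relT (S T : Subgroup Ω) (X : Type*) [MulAction (S × S) X] : Setoid X where
  r a b := ∃ t : S, (t : Ω) ∈ T ∧ a = ((1 : S), t) • b
  iseqv := ⟨fun a => ⟨1, T.one_mem, (one_smul (S × S) a).symm⟩,
    by
      rintro a b ⟨t, ht, rfl⟩
      refine ⟨t⁻¹, T.inv_mem ht, ?_⟩
      rw [← mul_smul]
      simp only [Prod.mk_mul_mk, mul_one, inv_mul_cancel]
      exact (one_smul (S × S) b).symm,
    by
      rintro a b c ⟨t, ht, rfl⟩ ⟨u, hu, rfl⟩
      refine ⟨t * u, T.mul_mem ht hu, ?_⟩
      rw [← mul_smul]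
      simp⟩

theorem relT_iff {T : Subgroup Ω} {a b : X} :
    (relT S T X) a b ↔ ∃ t : S, (t : Ω) ∈ T ∧ a = ((1 : S), t) • b := Iff.rfl

/-- the permutation induced on the right `T`-orbits -/
def zPerm (T : Subgroup Ω) (g : parkGroup S X) : Equiv.Perm (Quotient (relT S T X)) :=
  Quotient.congr (g : Equiv.Perm X) (by
    intro a b
    constructor
    · rintro ⟨t, ht, rfl⟩
      exact ⟨t, ht, g.2 t b⟩
    · rintro ⟨t, ht, h⟩
      refine ⟨t, ht, (g : Equiv.Perm X).injective ?_⟩
      rw [h, g.2])

theorem zPerm_mk (T : Subgroup Ω) (g : parkGroup S X) (x : X) :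
    zPerm T g (Quotient.mk (relT S T X) x) = Quotient.mk (relT S T X) ((g : Equiv.Perm X) x) := rfl

def zHom (T : Subgroup Ω) : parkGroup S X →* Equiv.Perm (Quotient (relT S T X)) where
  toFun := zPerm T
  map_one' := by
    ext z
    induction z using Quotient.inductionOn
    rfl
  map_mul' := by
    intro g g'
    ext z
    induction z using Quotient.inductionOn
    rfl

theorem ncard_fiber_relT [Finite S] {F : FusionSystem S} (h : IsFBiset F X) {T : Subgroup Ω}
    (hT : T ≤ S) (z : Quotient (relT S T X)) :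
    {x : X | Quotient.mk (relT S T X) x = z}.ncard = Nat.card T := by
  induction z using Quotient.inductionOn with
  | h y =>
    have : {x : X | Quotient.mk (relT S T X) x = Quotient.mk (relT S T X) y} =
        (fun t : T => (((1 : S), (⟨t, hT t.2⟩ : S)) : S × S) • y) '' Set.univ := by
      ext x
      simp only [Set.mem_setOf_eq, Set.image_univ, Set.mem_range]
      rw [Quotient.eq]
      constructor
      · rintro ⟨t, ht, rfl⟩
        exact ⟨⟨t, ht⟩, rfl⟩
      · rintro ⟨t, rfl⟩
        exact ⟨⟨t, hT t.2⟩, t.2, rfl⟩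
    rw [this, Set.ncard_image_of_injective, Set.ncard_univ]
    intro t t' htt
    have := right_cancel h y _ _ htt
    exact Subtype.ext (congrArg (fun s : S => (s : Ω)) this)

theorem exists_sign_hom [Finite S] [Finite X] {F : FusionSystem S} (h : IsFBiset F X)
    {T : Subgroup Ω} (hT : T ≤ S) :
    ∃ V : S →* ℤˣ,
      (∀ (P : Subgroup Ω) (φ : P →* Ω) (hφ : φ ∈ F.Hom P) (u : P),
        V ⟨φ u, (F.le_of_mem hφ).2 u⟩ = V ⟨u, (F.le_of_mem hφ).1 u.2⟩) ∧
      ∀ i : S, i ^ 2 = 1 → ∀ k : ℕ,
        {y : X | ¬ ∃ t : S, (t : Ω) ∈ T ∧ (i, (1 : S)) • y = ((1 : S), t) • y}.ncard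
          = Nat.card T * (2 * k) → V i = (-1) ^ k := by
  classical
  haveI : Finite (Quotient (relT S T X)) := Quotient.finite _
  haveI := Fintype.ofFinite (Quotient (relT S T X))
  refine ⟨Equiv.Perm.sign.comp ((zHom T).comp (parkι S X)), ?_, ?_⟩
  · intro P φ hφ u
    obtain ⟨g, hg⟩ := exists_park_conj h hφ
    simp only [MonoidHom.comp_apply]
    rw [hg u, map_mul, map_mul, map_mul, map_mul, map_inv, map_inv, mul_comm, inv_mul_cancel_left]
  · intro i hi k hk
    simp only [MonoidHom.comp_apply]
    apply sign_of_sq_eq_one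
    · rw [← map_pow, ← map_pow, hi, map_one, map_one]
    · set σ := zHom T (parkι S X i) with hσ
      have h1 := ncard_preimage_of_fibers (Quotient.mk (relT S T X)) (Nat.card T)
        {z | σ z ≠ z} (fun z _ => ncard_fiber_relT h hT z)
      have h2 : (Quotient.mk (relT S T X)) ⁻¹' {z | σ z ≠ z} =
          {y : X | ¬ ∃ t : S, (t : Ω) ∈ T ∧ (i, (1 : S)) • y = ((1 : S), t) • y} := by
        ext y
        simp only [Set.mem_preimage, Set.mem_setOf_eq, ne_eq]
        apply not_congr
        have : σ (Quotient.mk (relT S T X) y) = Quotient.mk (relT S T X) ((i, (1 : S)) • y) := rfl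
        rw [this, Quotient.eq]
        rfl
      rw [h2, hk] at h1
      haveI : Finite T := finite_of_le hT
      have h3 : 2 * k = {z | σ z ≠ z}.ncard := Nat.eq_of_mul_eq_mul_left Nat.card_pos h1
      rw [h3, Set.ncard_eq_toFinset_card']
      congr 1
      ext z
      simp

end Cfsg.Agent.Lib.Helper85
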