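import Cfsg.Agent.Lib.Helper85.HeisLike
import Cfsg.Agent.Lib.Helper85.AbIdxEss

set_option autoImplicit false

/-! Essential subgroups of a saturated fusion system over a Heisenberg-like `p`-group (helper85, for S5259). -/

namespace Cfsg.Agent.Lib.Helper85

open Cfsg Cfsg.FusionSystem Cfsg.Agent.Lib.Helper84 Cfsg.Agent.Lib.Helper87

variable {Ω : Type*} [Group Ω] {S : Subgroup Ω}

/-- the hypothesis `HeisLike`, read in the ambient group -/
structure HeisIn (S : Subgroup Ω) : Prop where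
  h1 : ∀ a ∈ S, ∀ b ∈ S, a * b * a⁻¹ * b⁻¹ ∈ ZS S
  h2 : ∀ x ∈ S, x ∉ ZS S → ∀ a ∈ S, ∀ b ∈ S, a * x = x * a → b * x = x * b → a * b = b * a
  h3 : ∀ x ∈ S, x ∉ ZS S → ∀ z ∈ ZS S, ∃ s ∈ S, s * x * s⁻¹ = x * z

theorem mem_center_iff_ZS (x : S) : x ∈ Subgroup.center ↥S ↔ (x : Ω) ∈ ZS S := by
  rw [Subgroup.mem_center_iff, mem_ZS]
  constructor
  · intro h
    exact ⟨x.2, fun y hy => congrArg Subtype.val (h ⟨y, hy⟩)⟩
  · intro h g
    exact Subtype.ext (h.2 g g.2)

theorem heisIn_of_heisLike (h : HeisLike ↥S) : HeisIn S := by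
  refine ⟨?_, ?_, ?_⟩
  · intro a ha b hb
    have : (⟨a, ha⟩ * ⟨b, hb⟩ * ⟨a, ha⟩⁻¹ * ⟨b, hb⟩⁻¹ : S) ∈ Subgroup.center ↥S := by
      rw [Subgroup.mem_center_iff]
      intro g
      exact (h.h1 _ _ g).symm
    exact (mem_center_iff_ZS _).1 this
  · intro x hx hxZ a ha b hb hax hbx
    have := h.h2 ⟨x, hx⟩ (fun hc => hxZ ((mem_center_iff_ZS _).1 hc)) ⟨a, ha⟩ ⟨b, hb⟩
      (Subtype.ext hax) (Subtype.ext hbx)
    exact congrArg Subtype.val this
  · intro x hx hxZ z hz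
    obtain ⟨s, hs⟩ := h.h3 ⟨x, hx⟩ (fun hc => hxZ ((mem_center_iff_ZS _).1 hc)) ⟨z, (ZS_le S) hz⟩
      ((mem_center_iff_ZS _).2 hz)
    exact ⟨s, s.2, congrArg Subtype.val hs⟩

section ess

variable [Finite S] {p : ℕ} [Fact p.Prime] (hS : IsPGroup p S) {F : FusionSystem S}
  (hF : F.IsSaturated p) (hH : HeisIn S) {E : Subgroup Ω} (hE : F.IsEssential p E)

omit [Finite S] [Fact p.Prime] in
include hE in
theorem hess_cen : centralizerIn S E ≤ E := hE.1.2 E (isConj_refl F hE.1.1)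

omit [Finite S] [Fact p.Prime] in
include hE in
theorem hess_ZS_le : ZS S ≤ E := by
  intro z hz
  apply hess_cen hE
  rw [mem_ZS] at hz
  refine ⟨hz.1, ?_⟩
  show z ∈ Subgroup.centralizer (E : Set Ω)
  rw [Subgroup.mem_centralizer_iff]
  intro y hy
  exact hz.2 y (hE.1.1 hy)

omit [Finite S] [Fact p.Prime] in
include hH hE in
theorem hess_normal : S ≤ Subgroup.normalizer (E : Set Ω) := by
  have key : ∀ s ∈ S, ∀ y ∈ E, s * y * s⁻¹ ∈ E := by
    intro s hs y hy
    have h1 := hess_ZS_le hE (hH.h1 s hs y (hE.1.1 hy))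
    have := E.mul_mem h1 hy
    have e : s * y * s⁻¹ * y⁻¹ * y = s * y * s⁻¹ := by group
    rwa [e] at this
  intro s hs
  rw [Subgroup.mem_normalizer_iff]
  intro y
  constructor
  · exact key s hs y
  · intro h
    have := key s⁻¹ (S.inv_mem hs) _ h
    have e : s⁻¹ * (s * y * s⁻¹) * s⁻¹⁻¹ = y := by group
    rwa [e] at this

include hS hF hE in
theorem hess_exists_not_mem : ∃ s ∈ S, s ∉ E := by
  obtain ⟨s, hs, hs'⟩ := SetLike.exists_of_lt (ess_lt hS hF hE)
  exact ⟨s, hs, hs'⟩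

include hS hF hH hE in
theorem hess_comm : ∀ a ∈ E, ∀ b ∈ E, a * b = b * a := by
  by_contra hcon
  push Not at hcon
  obtain ⟨a, ha, b, hb, hab⟩ := hcon
  have hES := hE.1.1
  set R' : Subgroup E := (ZS S).subgroupOf E with hR'
  have hcenter : ∀ w : E, w ∈ R' ↔ ∀ y : E, y * w = w * y := by
    intro w
    constructor
    · intro hw y
      have hw' : (w : Ω) ∈ ZS S := hw
      rw [mem_ZS] at hw'
      exact Subtype.ext (hw'.2 y (hES y.2))
    · intro hw
      by_contra hwZ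
      have hwZ' : (w : Ω) ∉ ZS S := hwZ
      exact hab (hH.h2 w (hES w.2) hwZ' a (hES ha) b (hES hb)
        (congrArg Subtype.val (hw ⟨a, ha⟩)) (congrArg Subtype.val (hw ⟨b, hb⟩)))
  have hchar : ∀ α : MulAut E, ∀ r, α r ∈ R' ↔ r ∈ R' := by
    intro α r
    rw [hcenter, hcenter]
    constructor
    · intro h y
      have := h (α y)
      rw [← map_mul, ← map_mul] at this
      exact α.injective this
    · intro h y
      obtain ⟨y', rfl⟩ := α.surjective y
      rw [← map_mul, ← map_mul, h y']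
  obtain ⟨α, hα, hgood⟩ := exists_goodAut hS hF hE
  obtain ⟨s, hs, hsE⟩ := hess_exists_not_mem hS hF hE
  have hsN := hess_normal hH hE hs
  have ht : conjAut E s hsN ∈ autInducedBy S E := conjAut_mem_autInducedBy hsN hs
  have hst : conjAut E s hsN ∈ stab2 R' := by
    refine ⟨fun r hr => ?_, fun y => ?_⟩
    · have hr' : (r : Ω) ∈ ZS S := hr
      rw [mem_ZS] at hr'
      apply Subtype.ext
      show s * r * s⁻¹ = r
      rw [hr'.2 s hs]; group
    · show ((y⁻¹ * conjAut E s hsN y : E) : Ω) ∈ ZS S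
      have := hH.h1 (y : Ω)⁻¹ (S.inv_mem (hES y.2)) s hs
      rw [inv_inv] at this
      have e : ((y⁻¹ * conjAut E s hsN y : E) : Ω) = (y : Ω)⁻¹ * s * y * s⁻¹ := by
        show (y : Ω)⁻¹ * (s * y * s⁻¹) = _
        group
      rw [e]; exact this
  have hfa := (sat_fullyNormalized hS hF hE.2.1).2.1
  have h1 : α * conjAut E s hsN * α⁻¹ ∈ autInducedBy S E :=
    stab2_le_autInducedBy hS hfa R' (fun t _ r => hchar t r) (conj_mem_stab2 (hchar α) hst)
      ((F.autGroup E).mul_mem ((F.autGroup E).mul_mem hα (autInducedBy_le_autGroup F hES ht))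
        ((F.autGroup E).inv_mem hα))
  exact hsE (mem_of_conjAut_mem_inn (hess_cen hE) hs hES hsN (hgood _ ht h1))

include hS hF hH hE in
theorem hess_mem_of_comm {x : Ω} (hx : x ∈ E) (hxZ : x ∉ ZS S) {s : Ω} (hs : s ∈ S)
    (hsx : s * x = x * s) : s ∈ E := by
  apply hess_cen hE
  refine ⟨hs, ?_⟩
  show s ∈ Subgroup.centralizer (E : Set Ω)
  rw [Subgroup.mem_centralizer_iff]
  intro y hy
  exact hH.h2 x (hE.1.1 hx) hxZ y (hE.1.1 hy) s hs (hess_comm hS hF hH hE y hy x hx) hsx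

end ess

end Cfsg.Agent.Lib.Helper85
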