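import Cfsg.Agent.Lib.Helper85.HeisFus
import Cfsg.Agent.S5087
import Cfsg.Agent.S5145
import Cfsg.Agent.Lib.Helper12.TILemma

set_option autoImplicit false

/-! A saturated fusion system over a Heisenberg-like `p`-group with `O_p(F) ≠ 1` is constrained (helper85, for S5259). -/

namespace Cfsg.Agent.Lib.Helper85

open Cfsg Cfsg.FusionSystem Cfsg.Agent.Lib.Helper84 Cfsg.Agent.Lib.Helper87

variable {Ω : Type*} [Group Ω] {S : Subgroup Ω}

section ess

variable [Finite S] {p : ℕ} [Fact p.Prime] (hS : IsPGroup p S) {F : FusionSystem S}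
  (hF : F.IsSaturated p) (hH : HeisIn S) {E : Subgroup Ω} (hE : F.IsEssential p E)

include hS hF hH hE in
theorem hess_no_inv (Q : Subgroup Ω) (hQZ : Q ≤ ZS S) (hQ1 : Q ≠ ⊥)
    (hQinv : ∀ α ∈ F.autGroup E, ∀ x : E, (x : Ω) ∈ Q → ((α x : E) : Ω) ∈ Q) : False := by
  have hES := hE.1.1
  haveI : Finite E := finite_of_le hES
  have hcomm := hess_comm hS hF hH hE
  obtain ⟨-, R, hR⟩ := (sat_fullyNormalized hS hF hE.2.1).2.1
  have hTF := autInducedBy_le_autGroup F hES
  have key := Cfsg.Agent.Lib.Helper12.TI.ti_lemma (V := E) (fun a b => Subtype.ext (hcomm a a.2 b b.2)) p (hS.to_le hES)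
    (F.autGroup E) (autInducedBy S E) hTF
    (by
      intro P hP hUP hPL
      have h1 : IsPGroup p (P.subgroupOf (F.autGroup E)) :=
        hP.of_equiv (Subgroup.subgroupOfEquivOfLe hPL).symm
      have h2 := R.is_maximal' h1 (by rw [hR]; exact Subgroup.comap_mono hUP)
      intro k hk
      have h3 : (⟨k, hPL hk⟩ : F.autGroup E) ∈ P.subgroupOf (F.autGroup E) :=
        Subgroup.mem_subgroupOf.2 hk
      rw [h2, hR] at h3
      exact h3)
    ((ZS S).subgroupOf E)
    (by
      intro u hu z hz
      obtain ⟨g, hg, hg'⟩ := (Helper84.mem_autInducedBy_iff _ _ _).1 hu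
      have hz' : (z : Ω) ∈ ZS S := hz
      rw [mem_ZS] at hz'
      apply Subtype.ext
      rw [hg', hz'.2 g hg]; group)
    (by
      intro u hu v
      obtain ⟨g, hg, hg'⟩ := (Helper84.mem_autInducedBy_iff _ _ _).1 hu
      show ((u v * v⁻¹ : E) : Ω) ∈ ZS S
      have e : ((u v * v⁻¹ : E) : Ω) = g * v * g⁻¹ * (v : Ω)⁻¹ := by
        show ((u v : E) : Ω) * (v : Ω)⁻¹ = _
        rw [hg']
      rw [e]
      exact hH.h1 g hg v (hES v.2))
    (by
      intro u hu hu1 v huv
      by_contra hvZ
      have hvZ' : (v : Ω) ∉ ZS S := hvZ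
      obtain ⟨g, hg, hg'⟩ := (Helper84.mem_autInducedBy_iff _ _ _).1 hu
      have h1 : g * v = v * g := by
        have := hg' v
        rw [huv] at this
        calc g * v = g * v * g⁻¹ * g := by group
          _ = v * g := by rw [← this]
      have hgE := hess_mem_of_comm hS hF hH hE v.2 hvZ' hg h1
      apply hu1
      ext y
      rw [hg' y, hcomm g hgE y y.2]
      simp)
    (by
      intro v hvZ z hz
      have hvZ' : (v : Ω) ∉ ZS S := hvZ
      obtain ⟨s, hs, hs'⟩ := hH.h3 v (hES v.2) hvZ' z hz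
      have hsN := hess_normal hH hE hs
      exact ⟨conjAut E s hsN, conjAut_mem_autInducedBy hsN hs, Subtype.ext hs'⟩)
    (Q.subgroupOf E)
    (by
      intro x hx
      exact hQZ hx)
    (by
      intro hb
      apply hQ1
      rw [eq_bot_iff]
      intro x hx
      have hxE : x ∈ E := hess_ZS_le hE (hQZ hx)
      have : (⟨x, hxE⟩ : E) ∈ Q.subgroupOf E := hx
      rw [hb, Subgroup.mem_bot] at this
      exact congrArg Subtype.val this)
    (by
      intro l hl x hx
      exact hQinv l hl x hx)
  obtain ⟨α, hα, hgood⟩ := exists_goodAut hS hF hE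
  obtain ⟨s, hs, hsE⟩ := hess_exists_not_mem hS hF hE
  have hsN := hess_normal hH hE hs
  have ht : conjAut E s hsN ∈ autInducedBy S E := conjAut_mem_autInducedBy hsN hs
  exact hsE (mem_of_conjAut_mem_inn (hess_cen hE) hs hES hsN (hgood _ ht (key α hα _ ht)))

end ess

theorem map_subgroupOf_self {P : Subgroup Ω} (α : MulAut P) :
    (P.subgroupOf P).map α.toMonoidHom = P.subgroupOf P := by
  rw [Subgroup.subgroupOf_self]
  exact Subgroup.map_top_of_surjective _ α.surjective

theorem constrained_of_heisIn [Finite S] {p : ℕ} [Fact p.Prime] (hS : IsPGroup p S)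
    {F : FusionSystem S} (hF : F.IsSaturated p) (hH : HeisIn S) (hcore : F.core ≠ ⊥) :
    F.IsConstrained p := by
  have hQ : F.IsNormal F.core := Cfsg.Agent.S5145.result F
  have hQ' := (Cfsg.Agent.S5087.result p hS F hF F.core).1 hQ
  by_cases hess : ∃ E, F.IsEssential p E
  · obtain ⟨E, hE⟩ := hess
    have hES := hE.1.1
    obtain ⟨hQE, hQinv⟩ := hQ' E (Or.inr hE)
    have hinv : ∀ (P : Subgroup Ω), (P = S ∨ F.IsEssential p P) → ∀ α ∈ F.autGroup P, ∀ x : P,
        (x : Ω) ∈ F.core → ((α x : P) : Ω) ∈ F.core := by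
      intro P hP α hα x hx
      have h1 : α x ∈ (F.core.subgroupOf P).map α.toMonoidHom := ⟨x, hx, rfl⟩
      rw [(hQ' P hP).2 α hα] at h1
      exact h1
    by_cases hQZ : F.core ≤ ZS S
    · exact (hess_no_inv hS hF hH hE F.core hQZ hcore (hinv E (Or.inr hE))).elim
    · obtain ⟨y, hy, hyZ⟩ := SetLike.not_le_iff_exists.1 hQZ
      have huniq : ∀ E', F.IsEssential p E' → E' = E := by
        intro E' hE'
        have hyE' := (hQ' E' (Or.inr hE')).1 hy
        ext s
        constructor
        · intro hs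
          exact hess_mem_of_comm hS hF hH hE (hQE hy) hyZ (hE'.1.1 hs)
            (hess_comm hS hF hH hE' s hs y hyE')
        · intro hs
          exact hess_mem_of_comm hS hF hH hE' hyE' hyZ (hES hs)
            (hess_comm hS hF hH hE s hs y (hQE hy))
      have hstab : ∀ α ∈ F.autGroup S, ∀ x : S, (x : Ω) ∈ E → ((α x : S) : Ω) ∈ E := by
        intro α hα x hx
        have hyS : y ∈ S := hES (hQE hy)
        have h1 : ((α ⟨y, hyS⟩ : S) : Ω) ∈ F.core := hinv S (Or.inl rfl) α hα ⟨y, hyS⟩ hy
        have h2 : ((α ⟨y, hyS⟩ : S) : Ω) ∉ ZS S := by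
          intro hc
          apply hyZ
          rw [← mem_center_iff_ZS] at hc
          have : (⟨y, hyS⟩ : S) ∈ Subgroup.center ↥S := by
            rw [Subgroup.mem_center_iff] at hc ⊢
            intro g
            have := hc (α g)
            rw [← map_mul, ← map_mul] at this
            exact α.injective this
          exact (mem_center_iff_ZS _).1 this
        apply hess_mem_of_comm hS hF hH hE (hQE h1) h2 (α x).2
        have h3 : x * ⟨y, hyS⟩ = ⟨y, hyS⟩ * x :=
          Subtype.ext (hess_comm hS hF hH hE x hx y (hQE hy))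
        have := congrArg α h3
        rw [map_mul, map_mul] at this
        exact congrArg Subtype.val this
      refine ⟨hF, E, ?_, hE.1⟩
      rw [Cfsg.Agent.S5087.result p hS F hF E]
      rintro P (rfl | hP)
      · refine ⟨hES, fun α hα => ?_⟩
        apply le_antisymm
        · rintro _ ⟨x, hx, rfl⟩
          exact hstab α hα x hx
        · intro w hw
          refine ⟨α⁻¹ w, hstab α⁻¹ (Subgroup.inv_mem _ hα) w hw, ?_⟩
          exact MulAut.apply_inv_self _ α w
      · obtain rfl := huniq P hP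
        exact ⟨le_rfl, fun α _ => map_subgroupOf_self α⟩
  · refine ⟨hF, S, ?_, le_rfl, ?_⟩
    · rw [Cfsg.Agent.S5087.result p hS F hF S]
      rintro P (rfl | hP)
      · exact ⟨le_rfl, fun α _ => map_subgroupOf_self α⟩
      · exact (hess ⟨P, hP⟩).elim
    · rintro Q ⟨φ, hφ, rfl⟩
      rw [range_eq_of_card F hφ]
      exact inf_le_left

end Cfsg.Agent.Lib.Helper85
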