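import Mathlib

set_option autoImplicit false

/-! The abstract hypothesis on a `p`-group shared by the Sylow `p`-subgroups of `SL₃(q)` (helper85, for S5259). -/

namespace Cfsg.Agent.Lib.Helper85

/-- class at most two; centralizers of noncentral elements are abelian; every noncentral element `x` has `[x, G] = Z(G)`. -/
structure HeisLike (G : Type*) [Group G] : Prop where
  h1 : ∀ a b c : G, (a * b * a⁻¹ * b⁻¹) * c = c * (a * b * a⁻¹ * b⁻¹)
  h2 : ∀ x : G, x ∉ Subgroup.center G → ∀ a b : G, a * x = x * a → b * x = x * b → a * b = b * a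
  h3 : ∀ x : G, x ∉ Subgroup.center G → ∀ z ∈ Subgroup.center G, ∃ s : G, s * x * s⁻¹ = x * z

end Cfsg.Agent.Lib.Helper85
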