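import Cfsg.Agent.Lib.Helper85.PIdxGen
import Cfsg.Agent.Lib.Helper85.FusFrattini

set_option autoImplicit false

/-! A normal subgroup `Kχ` of `Aut_F(T)` containing `Aut_E(T)` and all `p`-elements (helper85). -/

namespace Cfsg.Agent.Lib.Helper85

open Cfsg Cfsg.FusionSystem Cfsg.Agent.Lib.Helper84

variable {Ω : Type*} [Group Ω] {S : Subgroup Ω}

structure ChiCtx (p : ℕ) (F : FusionSystem S) (T : Subgroup Ω) (E : FusionSystem T)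
    (Kχ : Subgroup (MulAut T)) : Prop where
  hF : F.IsSaturated p
  hE : E.IsSaturated p
  hsub : E.IsSubsystemOf F
  hT : F.StronglyClosed T
  hinv : AutInv E (F.autGroup T)
  hfrat : ∀ (P : Subgroup Ω), P ≤ T → ∀ (φ : P →* Ω), φ ∈ F.Hom P →
    ∃ α ∈ F.autGroup T, ∃ φ₀ ∈ E.Hom P, ∀ (x : P) (hx : φ₀ x ∈ T), φ x = ((α ⟨φ₀ x, hx⟩ : T) : Ω)
  hKle : Kχ ≤ F.autGroup T
  hKn : ∀ a ∈ F.autGroup T, ∀ k ∈ Kχ, a * k * a⁻¹ ∈ Kχ
  hKE : E.autGroup T ≤ Kχ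
  hKp : ∀ a ∈ F.autGroup T, (∃ k : ℕ, a ^ p ^ k = 1) → a ∈ Kχ

namespace ChiCtx

variable {p : ℕ} {F : FusionSystem S} {T : Subgroup Ω} {E : FusionSystem T}
  {Kχ : Subgroup (MulAut T)}

theorem hinvK (c : ChiCtx p F T E Kχ) : AutInv E Kχ :=
  fun P P' φ hφ α hα hP' h => c.hinv P P' φ hφ α (c.hKle hα) hP' h

/-- the system `Kχ ∘ E` over `T`. -/
def D (c : ChiCtx p F T E Kχ) : FusionSystem T := frattiniSystem E Kχ c.hinvK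

theorem E_le_D (c : ChiCtx p F T E Kχ) : E ≤ c.D := le_frattiniSystem _ _ _

theorem D_sub (c : ChiCtx p F T E Kχ) {P : Subgroup Ω} {φ : P →* Ω} (hφ : φ ∈ c.D.Hom P) :
    φ ∈ F.Hom P := by
  obtain ⟨κ, hκ, φ₀, hφ₀, h⟩ := hφ
  have h1 := (mem_autGroup_iff F c.hT.1 κ).1 (c.hKle hκ)
  exact comp_mem' F (c.hsub P hφ₀) h1 (E.le_of_mem hφ₀).2 (fun x => h x _)

/-- the restriction of an element of `Kχ` lies in `D`. -/
theorem K_restrict (c : ChiCtx p F T E Kχ) {κ : MulAut T} (hκ : κ ∈ Kχ) {U : Subgroup Ω}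
    (hU : U ≤ T) : (T.subtype.comp κ.toMonoidHom).comp (Subgroup.inclusion hU) ∈ c.D.Hom U :=
  ⟨κ, hκ, U.subtype, subtype_mem E hU, fun _ _ => rfl⟩

theorem mem_D_of (c : ChiCtx p F T E Kχ) {κ : MulAut T} (hκ : κ ∈ Kχ) {U : Subgroup Ω}
    (hU : U ≤ T) {φ : U →* Ω} (h : ∀ x : U, φ x = ((κ ⟨x, hU x.2⟩ : T) : Ω)) : φ ∈ c.D.Hom U :=
  ⟨κ, hκ, U.subtype, subtype_mem E hU, fun x _ => h x⟩

theorem conjAut_mem_K [Finite S] [Fact p.Prime] (hS : IsPGroup p S) (c : ChiCtx p F T E Kχ) {s : Ω}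
    (hs : s ∈ S) : conjAut T s (Helper87.sc_le_normalizer c.hT hs) ∈ Kχ := by
  have h1 : conjAut T s (Helper87.sc_le_normalizer c.hT hs) ∈ autInducedBy S T :=
    conjAut_mem_autInducedBy _ hs
  refine c.hKp _ (autInducedBy_le_autGroup F c.hT.1 h1) ?_
  obtain ⟨k, hk⟩ := isPGroup_autInducedBy hS T ⟨_, h1⟩
  exact ⟨k, congrArg Subtype.val hk⟩

theorem D_conj [Finite S] [Fact p.Prime] (hS : IsPGroup p S) (c : ChiCtx p F T E Kχ) :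
    ∀ (P : Subgroup Ω), P ≤ T → ∀ s ∈ S, conjHom P s ∈ c.D.Hom P :=
  fun _ hP _ hs => c.mem_D_of (c.conjAut_mem_K hS hs) hP (fun _ => rfl)

/-- a map of `D` with source `T` is an element of `Kχ`. -/
theorem D_top [Finite S] (c : ChiCtx p F T E Kχ) {φ : T →* Ω} (hφ : φ ∈ c.D.Hom T) :
    ∃ β ∈ Kχ, ∀ t : T, φ t = ((β t : T) : Ω) := by
  have : Finite T := finite_of_le c.hT.1
  obtain ⟨κ, hκ, φ₀, hφ₀, h⟩ := hφ
  have hr := range_eq_of_card E hφ₀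
  have hε : equivOfRange φ₀ (E.injective_of_mem hφ₀) hr ∈ E.autGroup T :=
    (mem_autGroup_iff E le_rfl _).2 (mor_equivOfRange E hφ₀ hr)
  refine ⟨κ * equivOfRange φ₀ (E.injective_of_mem hφ₀) hr, Kχ.mul_mem hκ (c.hKE hε), fun t => ?_⟩
  rw [h t ((E.le_of_mem hφ₀).2 t)]
  rfl

/-- `D` is invariant under `Aut_F(T)`. -/
theorem D_inv (c : ChiCtx p F T E Kχ) : AutInv c.D (F.autGroup T) := by
  intro P P' φ hφ α hα hP' hy
  obtain ⟨κ, hκ, φ₀, hφ₀, h⟩ := id hφ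
  obtain ⟨χ₀, hχ₀, hχ₀'⟩ := c.hinv P P' φ₀ hφ₀ α hα hP' hy
  have hχT := (E.le_of_mem hχ₀).2
  refine ⟨(T.subtype.comp (α * κ * α⁻¹).toMonoidHom).comp (χ₀.codRestrict T hχT),
    ⟨α * κ * α⁻¹, c.hKn α hα κ hκ, χ₀, hχ₀, fun _ _ => rfl⟩, fun y => ?_⟩
  show (((α * κ * α⁻¹) ⟨χ₀ y, hχT y⟩ : T) : Ω) = _
  have e1 : (⟨χ₀ y, hχT y⟩ : T) = α ⟨φ₀ ⟨_, hy y⟩, (E.le_of_mem hφ₀).2 _⟩ :=
    Subtype.ext (hχ₀' y)
  rw [e1, MulAut.mul_apply, MulAut.mul_apply, MulAut.inv_apply_self]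
  congr 2
  exact Subtype.ext (h _ _).symm

end ChiCtx

/-- a `p`-element of `Aut_F(P)` is conjugate in `F` to conjugation by an element of `S`. -/
theorem exists_conj_to_S [Finite S] {p : ℕ} [Fact p.Prime] (F : FusionSystem S)
    (hF : F.IsSaturated p) {P : Subgroup Ω} (hP : P ≤ S) {δ : MulAut P} (hδ : δ ∈ F.autGroup P)
    {k : ℕ} (hk : δ ^ p ^ k = 1) :
    ∃ (P' : Subgroup Ω) (e : P ≃* P'), Mor F e.toMonoidHom ∧ ∃ s ∈ S,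
      ∀ x : P, ((e (δ x) : P') : Ω) = s * (e x : Ω) * s⁻¹ := by
  obtain ⟨Q, hPQ, hQa, -⟩ := hF P hP
  obtain ⟨e₀, he₀⟩ := (isConj_iff F).1 hPQ
  have hQS := hQa.1
  have hfin : Finite (MulAut Q) := finite_mulAut_of_le hQS
  have hSyl : SylIn p (autInducedBy S Q) (F.autGroup Q) := hQa.2
  have hδ' : MulAut.congr e₀ δ ∈ F.autGroup Q := congr_mem_autGroup he₀ hδ
  have hz : Subgroup.zpowers (MulAut.congr e₀ δ) ≤ F.autGroup Q := by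
    rw [Subgroup.zpowers_le]; exact hδ'
  have hzp : IsPGroup p (Subgroup.zpowers (MulAut.congr e₀ δ)) := by
    have h0 : (MulAut.congr e₀ δ) ^ p ^ k = 1 := by rw [← map_pow, hk, map_one]
    rintro ⟨_, n, rfl⟩
    refine ⟨k, Subtype.ext ?_⟩
    show ((MulAut.congr e₀ δ) ^ n) ^ p ^ k = 1
    rw [← zpow_natCast, ← zpow_mul, mul_comm, zpow_mul, zpow_natCast, h0, one_zpow]
  obtain ⟨g, hg, hgK⟩ := hSyl.exists_conj_le hz hzp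
  have h1 : g * MulAut.congr e₀ δ * g⁻¹ ∈ autInducedBy S Q :=
    hgK ⟨_, Subgroup.mem_zpowers _, rfl⟩
  obtain ⟨s, hs, hs'⟩ := (Helper84.mem_autInducedBy_iff _ _ _).1 h1
  refine ⟨Q, e₀.trans g, ((mem_autGroup_iff F hQS g).1 hg).comp he₀, s, hs, fun x => ?_⟩
  have h2 := hs' (g (e₀ x))
  show ((g (e₀ (δ x)) : Q) : Ω) = s * ((g (e₀ x) : Q) : Ω) * s⁻¹
  rw [← h2]
  simp [MulAut.mul_apply, MulAut.congr_apply]

end Cfsg.Agent.Lib.Helper85
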