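import Cfsg.Agent.Lib.Helper85.PIdxTC
import Cfsg.Agent.Lib.Helper85.PIdxFrat
import Cfsg.Agent.Lib.Helper87.Climb

set_option autoImplicit false

/-! The subsystem `F₀` attached to `Kχ`: hypotheses of the saturation criterion (helper85). -/

namespace Cfsg.Agent.Lib.Helper85

open Cfsg Cfsg.FusionSystem Cfsg.Agent.Lib.Helper84

variable {Ω : Type*} [Group Ω] {S : Subgroup Ω}

namespace ChiCtx

variable {p : ℕ} {F : FusionSystem S} {T : Subgroup Ω} {E : FusionSystem T}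
  {Kχ : Subgroup (MulAut T)}

/-- the centric subgroups meeting `T` in a `T`-centric subgroup -/
def HH (_c : ChiCtx p F T E Kχ) : Set (Subgroup Ω) := {P | F.IsCentric P ∧ TC F T (P ⊓ T)}

theorem HH_conj (c : ChiCtx p F T E Kχ) {P Q : Subgroup Ω} (hP : P ∈ c.HH) (h : F.IsConj P Q) :
    Q ∈ c.HH :=
  ⟨Helper88.centric_of_isConj hP.1 h, hP.2.conj c.hT (isConj_inf c.hT h)⟩

theorem HH_mono (c : ChiCtx p F T E Kχ) {P R : Subgroup Ω} (hP : P ∈ c.HH) (h : P ≤ R)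
    (hR : R ≤ S) : R ∈ c.HH :=
  ⟨Helper86.centric_of_le F hP.1 h hR, hP.2.mono (inf_le_inf_right T h) inf_le_right⟩

theorem HH_of_rc [Finite S] [Fact p.Prime] (hS : IsPGroup p S) (c : ChiCtx p F T E Kχ)
    {P : Subgroup Ω} (hc : F.IsCentric P) (hr : F.IsRadical p P) : P ∈ c.HH :=
  ⟨hc, tc_of_centric_radical hS F c.hF c.hT hc hr⟩

theorem top_mem_HH [Finite S] (c : ChiCtx p F T E Kχ) : S ∈ c.HH := by
  refine ⟨Helper87.centric_self' F, inf_le_right, fun U' hU' => ?_⟩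
  have hfinT : Finite T := finite_of_le c.hT.1
  have hST : S ⊓ T = T := inf_eq_right.mpr c.hT.1
  rw [hST] at hU'
  have h1 : U' ≤ T := by
    obtain ⟨φ, hφ, rfl⟩ := hU'
    rintro _ ⟨x, rfl⟩
    exact c.hT.2 T le_rfl φ hφ x
  have h2 : U' = T := Subgroup.eq_of_le_of_card_ge h1 (isConj_card_eq hU').le
  rw [h2]
  exact inf_le_left

/-- the subsystem attached to `Kχ` -/
def F0 [Finite S] [Fact p.Prime] (hS : IsPGroup p S) (c : ChiCtx p F T E Kχ) : FusionSystem S :=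
  genSystem (c.K hS) c.HH

variable [Finite S] [Fact p.Prime] (hS : IsPGroup p S) (c : ChiCtx p F T E Kχ)

theorem F0_le_K : c.F0 hS ≤ c.K hS := genSystem_le _ _

theorem F0_le : c.F0 hS ≤ F := fun P _ h => c.K_le hS P (c.F0_le_K hS P h)

theorem mem_F0_of_HH {Q : Subgroup Ω} (hQ : Q ∈ c.HH) {φ : Q →* Ω} (hφ : φ ∈ (c.K hS).Hom Q) :
    φ ∈ (c.F0 hS).Hom Q := le_genSystem _ _ hQ hφ

theorem pElt_le_K {P : Subgroup Ω} (hP : P ≤ S) : pElt p (F.autGroup P) ≤ (c.K hS).autGroup P := by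
  unfold pElt
  rw [Subgroup.closure_le]
  rintro δ ⟨hδ, k, hk⟩
  have hk' : δ ^ p ^ k = 1 := by rw [← hk]; exact pow_orderOf_eq_one δ
  rw [SetLike.mem_coe, mem_autGroup_iff _ hP]
  exact c.pElt_mem_K hS hP hδ hk'

theorem F0_frat : FratProp F (c.F0 hS) := by
  intro P φ hφ
  have h := le_frattini_of_rc hS F c.hF (c.F0 hS) (fun P hc hr => by
    have h1 : (c.F0 hS).autGroup P = (c.K hS).autGroup P :=
      genSystem_autGroup _ _ (c.HH_of_rc hS hc hr)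
    rw [h1]
    exact c.pElt_le_K hS hc.1)
  obtain ⟨α, hα, φ₀, hφ₀, h3⟩ := h P hφ
  exact ⟨α, hα, φ₀, hφ₀.1, h3⟩

theorem F0_pElt {P : Subgroup Ω} (hP : P ≤ S) :
    pElt p (F.autGroup P) ≤ (c.F0 hS).autGroup P :=
  pElt_le_of_frattini F c.hF _ (c.F0_frat hS) hP

theorem F0_centric_iff (P : Subgroup Ω) : (c.F0 hS).IsCentric P ↔ F.IsCentric P :=
  (primeIdx_main hS F c.hF (c.F0 hS) (c.F0_le hS) (fun _ hP => c.F0_pElt hS hP.1)).2.2 P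

theorem F0_isConj {P Q : Subgroup Ω} (h : (c.F0 hS).IsConj P Q) : F.IsConj P Q :=
  Helper88.isConj_of_le (c.F0_le hS) h

theorem F0_HH_conj : ∀ P ∈ c.HH, ∀ Q, (c.F0 hS).IsConj P Q → Q ∈ c.HH :=
  fun _ hP _ h => c.HH_conj hP (c.F0_isConj hS h)

theorem F0_gen : ∀ E' : FusionSystem S, (∀ P ∈ c.HH, (c.F0 hS).Hom P ⊆ E'.Hom P) → c.F0 hS ≤ E' :=
  fun E' h => genSystem_gen _ _ E' h

/-- a map of `F` on a member of `HH` extending a map of `K` on a member of `HH` lies in `K`. -/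
theorem mem_K_of_extends {P N : Subgroup Ω} (hP : P ∈ c.HH) (hPN : P ≤ N) {φ : P →* Ω}
    (hφ : φ ∈ (c.K hS).Hom P) {ψ : N →* Ω} (hψ : ψ ∈ F.Hom N)
    (hag : ∀ x : P, ψ ⟨x, hPN x.2⟩ = φ x) : ψ ∈ (c.K hS).Hom N := by
  refine ⟨hψ, ?_⟩
  obtain ⟨α₁, hα₁, φ₁, hφ₁, h1⟩ := c.hfrat (N ⊓ T) inf_le_right _
    (restrict_mem F hψ (inf_le_left : N ⊓ T ≤ N))
  have hφ₁T := (E.le_of_mem hφ₁).2
  have hle : P ⊓ T ≤ N ⊓ T := inf_le_inf_right T hPN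
  have hφ₁r : φ₁.comp (Subgroup.inclusion hle) ∈ E.Hom (P ⊓ T) := restrict_mem E hφ₁ hle
  have hconj : F.IsConj (P ⊓ T) (φ₁.comp (Subgroup.inclusion hle)).range :=
    ⟨_, c.hsub _ hφ₁r, rfl⟩
  have hTC : TC F T (φ₁.comp (Subgroup.inclusion hle)).range := hP.2.conj c.hT hconj
  suffices hK : α₁ ∈ Kχ from ⟨α₁, hK, φ₁, hφ₁, h1⟩
  refine c.mem_K_of_restrict hS (Nat.card T) _ hTC (Nat.le_add_left _ _) α₁ hα₁ ?_
  obtain ⟨ψ₁, hψ₁, -, hψ₁r, hψ₁'⟩ := inv_mem' c.D (c.E_le_D _ hφ₁r) rfl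
  have hm : ∀ y, ψ₁ y ∈ P ⊓ T := by
    intro y
    have : ψ₁ y ∈ ψ₁.range := ⟨y, rfl⟩
    exact hψ₁r.le this
  refine comp_mem' c.D hψ₁ hφ.2 hm (fun y => ?_)
  have e1 := hψ₁' y (hm y)
  have e2 := h1 (Subgroup.inclusion hle ⟨ψ₁ y, hm y⟩) (hφ₁T _)
  have e3 := hag ⟨ψ₁ y, (hm y).1⟩
  show ((α₁ ⟨y, _⟩ : T) : Ω) = φ ⟨ψ₁ y, _⟩
  rw [← e3]
  refine Eq.trans ?_ e2.symm
  congr 2
  exact Subtype.ext e1.symm

theorem F0_sat_HH : ∀ P ∈ c.HH, ∃ Q, (c.F0 hS).IsConj P Q ∧ (c.F0 hS).IsFullyAutomized p Q ∧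
    (c.F0 hS).IsReceptive Q := by
  intro P hP
  obtain ⟨Q, hPQ, hQfn⟩ := exists_fn_conj F (c.F0 hS) (c.F0_frat hS) (c.F0_le hS) hP.1.1
  have hQH : Q ∈ c.HH := c.F0_HH_conj hS P hP Q hPQ
  obtain ⟨-, hQa, hQr⟩ := sat_fullyNormalized hS c.hF hQfn
  have hQS := hQfn.1
  have hfin : Finite (MulAut Q) := finite_mulAut_of_le hQS
  refine ⟨Q, hPQ, ⟨hQS, ?_⟩, hQS, ?_⟩
  · have hSyl : SylIn p (autInducedBy S Q) (F.autGroup Q) := hQa.2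
    exact hSyl.of_le (autInducedBy_le_autGroup _ hQS)
      (autGroup_le_of_subsystem (c.F0_le hS) hQS)
  · intro P' φ hφ hr
    obtain ⟨ψ, hψ, hψ'⟩ := hQr.2 P' φ (c.F0_le hS _ hφ) hr
    have hP'H : P' ∈ c.HH := c.HH_conj hQH (isConj_symm ⟨φ, c.F0_le hS _ hφ, hr⟩)
    have hle : P' ≤ extender S P' φ := le_extender hP'H.1.1 φ ((c.F0 hS).le_of_mem hφ).2
    have hextS : extender S P' φ ≤ S := (extender_le S P' φ).trans (normalizerIn_le S P')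
    refine ⟨ψ, c.mem_F0_of_HH hS (c.HH_mono hP'H hle hextS) ?_, hψ'⟩
    exact c.mem_K_of_extends hS hP'H hle (c.F0_le_K hS _ hφ) hψ (fun x => hψ' x x.2 _)

theorem F0_star : ∀ P : Subgroup Ω, (c.F0 hS).IsCentric P → P ∉ c.HH → ∃ Q, (c.F0 hS).IsConj P Q ∧
    ¬ (autInducedBy S Q ⊓ (pCore p ↥((c.F0 hS).autGroup Q)).map ((c.F0 hS).autGroup Q).subtype ≤
      Inn Q) := by
  intro P hPc hPH
  have hPcF := (c.F0_centric_iff hS P).1 hPc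
  obtain ⟨Q, hPQ, hQfn⟩ := exists_fn_conj F (c.F0 hS) (c.F0_frat hS) (c.F0_le hS) hPcF.1
  have hPQF := c.F0_isConj hS hPQ
  have hQc : F.IsCentric Q := Helper88.centric_of_isConj hPcF hPQF
  have hQH : Q ∉ c.HH := fun h => hPH (c.HH_conj h (isConj_symm hPQF))
  have hQr : ¬ F.IsRadical p Q := fun h => hQH (c.HH_of_rc hS hQc h)
  obtain ⟨-, hQa, -⟩ := sat_fullyNormalized hS c.hF hQfn
  obtain ⟨δ, hδ, hδI⟩ := exists_pCore_not_inn hS F hQc.1 hQr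
  refine ⟨Q, hPQ, fun hle => hδI (hle ⟨pCore_le_autInducedBy F hQa hδ, ?_⟩)⟩
  obtain ⟨N, hNA, hNp, hNn, hδN⟩ := (mem_pCore_map_iff _ _).1 hδ
  refine (mem_pCore_map_iff _ _).2 ⟨N, ?_, hNp, ?_, hδN⟩
  · exact (le_pElt_of_isPGroup hNA hNp).trans (c.F0_pElt hS hQc.1)
  · intro a ha n hn
    exact hNn a (autGroup_le_of_subsystem (c.F0_le hS) hQc.1 ha) n hn

end ChiCtx

end Cfsg.Agent.Lib.Helper85
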