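import Cfsg.Agent.Lib.Helper85.PIdxF0
import Cfsg.Agent.Lib.Helper85.FusOver
import Cfsg.Agent.Lib.Helper85.FusConstr4

set_option autoImplicit false

/-! The subsystem `F₀` attached to `Kχ`: invariance, `Aut_{F₀}(S)`, `E ≤ F₀`, normality (helper85). -/

namespace Cfsg.Agent.Lib.Helper85

open Cfsg Cfsg.FusionSystem Cfsg.Agent.Lib.Helper84

variable {Ω : Type*} [Group Ω] {S : Subgroup Ω}

theorem exists_res_aut (F : FusionSystem S) {T : Subgroup Ω} (hT : F.StronglyClosed T)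
    {α : MulAut S} (hα : α ∈ F.autGroup S) :
    ∃ β ∈ F.autGroup T, ∀ t : T, ((β t : T) : Ω) = ((α ⟨t, hT.1 t.2⟩ : S) : Ω) := by
  have hαF := (mem_autGroup_iff F le_rfl α).1 hα
  have hst : α ∈ stabIn S T := fun x => (sc_mem_iff hT hαF x).symm
  refine ⟨resStab hT.1 ⟨α, hst⟩, ?_, fun t => rfl⟩
  rw [mem_autGroup_iff F hT.1]
  exact mem_of_eq_on F hαF hT.1 (fun x => rfl)

theorem pElt_mono {X : Type*} [Group X] (p : ℕ) {A B : Subgroup X} (h : A ≤ B) :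
    pElt p A ≤ pElt p B :=
  Subgroup.closure_mono fun _ ha => ⟨h ha.1, ha.2⟩

namespace ChiCtx

variable {p : ℕ} {F : FusionSystem S} {T : Subgroup Ω} {E : FusionSystem T}
  {Kχ : Subgroup (MulAut T)}

variable [Finite S] [Fact p.Prime] (hS : IsPGroup p S) (c : ChiCtx p F T E Kχ)

theorem mem_F0_aut_iff (α : MulAut S) : α ∈ (c.F0 hS).autGroup S ↔
    α ∈ F.autGroup S ∧ ∃ β ∈ Kχ, ∀ t : T, ((β t : T) : Ω) = ((α ⟨t, c.hT.1 t.2⟩ : S) : Ω) := by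
  have h1 : (c.F0 hS).autGroup S = (c.K hS).autGroup S := genSystem_autGroup _ _ c.top_mem_HH
  rw [h1, mem_autGroup_iff _ le_rfl, mem_autGroup_iff _ le_rfl]
  constructor
  · intro h
    refine ⟨h.1, ?_⟩
    obtain ⟨β, hβ, h2⟩ := c.D_top (overSystem_restrict h c.hT.1 le_rfl)
    exact ⟨β, hβ, fun t => (h2 t).symm⟩
  · rintro ⟨hαF, β, hβ, h2⟩
    exact mem_overSystem_of hαF (c.mem_D_of hβ le_rfl (φ := T.subtype.comp β.toMonoidHom)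
      (fun _ => rfl)) inf_le_right (fun x hx => (h2 ⟨x, hx⟩).symm)

/-- `K` is invariant under `Aut_F(S)`. -/
theorem K_tr {Q : Subgroup Ω} {φ : Q →* Ω} (hφ : φ ∈ (c.K hS).Hom Q) {α : MulAut S}
    (hα : α ∈ F.autGroup S) {Q' : Subgroup Ω}
    (hQ' : (Q.subgroupOf S).map (S.subtype.comp α.toMonoidHom) = Q') :
    ∃ χ ∈ (c.K hS).Hom Q', ∀ (x : Q) (hx : (x : Ω) ∈ S) (hφx : φ x ∈ S)
      (hy : ((α ⟨x, hx⟩ : S) : Ω) ∈ Q'), χ ⟨_, hy⟩ = ((α ⟨φ x, hφx⟩ : S) : Ω) := by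
  have hαF := (mem_autGroup_iff F le_rfl α).1 hα
  have hQS : Q ≤ S := ((c.K hS).le_of_mem hφ).1
  have hφS := ((c.K hS).le_of_mem hφ).2
  have he := mor_restrictEquiv F hαF hQS hQ'
  obtain ⟨e, hedef⟩ : ∃ e : Q ≃* Q',
    e = restrictEquiv (S.subtype.comp α.toMonoidHom) (F.injective_of_mem hαF) hQS hQ' := ⟨_, rfl⟩
  rw [← hedef] at he
  have he_apply : ∀ x : Q, ((e x : Q') : Ω) = ((α ⟨x, hQS x.2⟩ : S) : Ω) := by
    intro x; rw [hedef]; rfl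
  have hχF : ((S.subtype.comp α.toMonoidHom).comp (φ.codRestrict S hφS)).comp e.symm.toMonoidHom ∈
      F.Hom Q' :=
    Mor.comp_hom (comp_mem' F hφ.1 hαF hφS (fun _ => rfl)) he.symm
  obtain ⟨αT, hαT, hαT'⟩ := exists_res_aut F c.hT hα
  have hpre : ∀ y : (Q' ⊓ T : Subgroup Ω), ((αT⁻¹ ⟨y, y.2.2⟩ : T) : Ω) ∈ Q ⊓ T := by
    intro y
    refine ⟨?_, (αT⁻¹ _).2⟩
    have h1 : αT⁻¹ ⟨y, y.2.2⟩ = ⟨e.symm ⟨y, y.2.1⟩, by
        have h2 : ((e (e.symm ⟨y, y.2.1⟩) : Q') : Ω) ∈ T := by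
          rw [MulEquiv.apply_symm_apply]; exact y.2.2
        exact (sc_mem_iff c.hT he _).1 h2⟩ := by
      apply αT.injective
      rw [MulAut.apply_inv_self]
      apply Subtype.ext
      rw [hαT']
      show (y : Ω) = ((α ⟨e.symm ⟨y, y.2.1⟩, _⟩ : S) : Ω)
      rw [← he_apply, MulEquiv.apply_symm_apply]
    rw [h1]
    exact (e.symm _).2
  obtain ⟨χT, hχT, hχT'⟩ := c.D_inv (Q ⊓ T) (Q' ⊓ T) _ hφ.2 αT hαT inf_le_right hpre
  refine ⟨_, mem_overSystem_of hχF hχT le_rfl ?_, ?_⟩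
  · intro y hy
    rw [hχT' ⟨y, hy⟩, hαT']
    show ((α ⟨φ (e.symm y), _⟩ : S) : Ω) = ((α ⟨φ ⟨_, _⟩, _⟩ : S) : Ω)
    congr 4
    apply Subtype.ext
    show ((e.symm y : Q) : Ω) = ((αT⁻¹ ⟨y, hy.2⟩ : T) : Ω)
    have h3 : αT ⟨e.symm y, (sc_mem_iff c.hT he _).1 (by
        show ((e (e.symm y) : Q') : Ω) ∈ T
        rw [MulEquiv.apply_symm_apply]; exact hy.2)⟩ = ⟨y, hy.2⟩ := by
      apply Subtype.ext
      rw [hαT']
      show ((α ⟨e.symm y, _⟩ : S) : Ω) = y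
      rw [← he_apply, MulEquiv.apply_symm_apply]
    rw [← h3, MulAut.inv_apply_self]
  · intro x hx hφx hy
    show ((α ⟨φ (e.symm ⟨_, hy⟩), _⟩ : S) : Ω) = _
    have h4 : e.symm ⟨_, hy⟩ = x := by
      apply e.injective
      rw [MulEquiv.apply_symm_apply]
      exact Subtype.ext (he_apply x).symm
    simp only [h4]

theorem F0_le_invCore : c.F0 hS ≤ invCore (c.F0 hS) (F.autGroup S) := by
  apply genSystem_min
  intro Q hQ φ hφ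
  refine ⟨c.mem_F0_of_HH hS hQ hφ, fun α hα P' hcov => ?_⟩
  have hαF := (mem_autGroup_iff F le_rfl α).1 hα
  have hQS : Q ≤ S := hQ.1.1
  obtain ⟨χ, hχ, hχ'⟩ := c.K_tr hS hφ hα rfl
  have hQ'H : (Q.subgroupOf S).map (S.subtype.comp α.toMonoidHom) ∈ c.HH :=
    c.HH_conj hQ (Helper86.isConj_map F hαF hQS)
  have hle : P' ≤ (Q.subgroupOf S).map (S.subtype.comp α.toMonoidHom) := by
    intro y hy
    obtain ⟨x, hx, hxS, rfl⟩ := hcov y hy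
    exact ⟨⟨x, hxS⟩, hx, rfl⟩
  refine ⟨_, restrict_mem _ (c.mem_F0_of_HH hS hQ'H hχ) hle, ?_⟩
  intro x y hx hφx hy
  have h1 := hχ' x hx hφx (hy ▸ hle y.2)
  rw [← h1]
  show χ ⟨y, _⟩ = _
  congr 1
  exact Subtype.ext hy

theorem F0_autInv : AutInv (c.F0 hS) (F.autGroup S) := by
  intro P P' φ hφ α hα hP' h
  obtain ⟨χ, hχ, hχ'⟩ := autInv_invCore (c.F0 hS) (F.autGroup S) P P' φ
    (c.F0_le_invCore hS P hφ) α hα hP' h
  exact ⟨χ, hχ.1, hχ'⟩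

/-- `Aut_E(T)` lies in `F₀`. -/
theorem autE_mem_F0 {ε : MulAut T} (hε : ε ∈ E.autGroup T) :
    T.subtype.comp ε.toMonoidHom ∈ (c.F0 hS).Hom T := by
  have hTS := c.hT.1
  have hεF : T.subtype.comp ε.toMonoidHom ∈ F.Hom T := c.hsub T ((mem_autGroup_iff E le_rfl ε).1 hε)
  obtain ⟨α, hα, φ₁, hφ₁, h1⟩ := c.F0_frat hS T _ hεF
  have hφ₁S := ((c.F0 hS).le_of_mem hφ₁).2
  obtain ⟨β₁, hβ₁, h2⟩ := c.D_top
    (mem_of_eq_on c.D (overSystem_restrict (c.F0_le_K hS _ hφ₁) le_rfl le_rfl) le_rfl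
      (φ' := φ₁) (fun _ => rfl))
  obtain ⟨αT, hαT, hαT'⟩ := exists_res_aut F c.hT hα
  have h3 : αT = ε * β₁⁻¹ := by
    rw [eq_mul_inv_iff_mul_eq]
    ext t
    rw [MulAut.mul_apply, hαT']
    have := h1 t (hφ₁S t)
    refine Eq.trans ?_ this.symm
    congr 2
    exact Subtype.ext (h2 t).symm
  have hαK : αT ∈ Kχ := by
    rw [h3]; exact mul_mem (c.hKE hε) (inv_mem hβ₁)
  have hα0 : α ∈ (c.F0 hS).autGroup S := (c.mem_F0_aut_iff hS α).2 ⟨hα, αT, hαK, hαT'⟩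
  exact comp_mem' _ hφ₁ ((mem_autGroup_iff _ le_rfl α).1 hα0) hφ₁S (fun x => h1 x _)

theorem E_sub_F0 : E.IsSubsystemOf (c.F0 hS) := by
  have hTS := c.hT.1
  have hfinT : Finite T := finite_of_le hTS
  have hTp : IsPGroup p T := hS.to_le hTS
  intro P φ hφ
  have h := le_frattini_of_centric hTp E c.hE (Helper86.restrictTo (c.F0 hS) T hTS) (by
    intro P hP
    rw [Helper86.autGroup_restrictTo _ _ _ hP.1]
    exact (pElt_mono p (autGroup_le_of_subsystem c.hsub hP.1)).trans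
      (c.F0_pElt hS (hP.1.trans hTS)))
  obtain ⟨ε, hε, φ₀, hφ₀, h3⟩ := h P hφ
  have hφ₀' : φ₀ ∈ (c.F0 hS).Hom P := hφ₀.1.1
  exact comp_mem' _ hφ₀' (c.autE_mem_F0 hS hε) hφ₀.1.2.2 (fun x => h3 x _)

theorem F0_primeIdx : (c.F0 hS).HasPrimeToPIndexIn F p := by
  refine ⟨c.F0_le hS, fun P hP => ?_⟩
  rw [map_closure_pElt]
  exact c.F0_pElt hS hP

theorem F0_normal (hsat : (c.F0 hS).IsSaturated p) : (c.F0 hS).IsNormalIn F p := by
  refine ⟨⟨hsat, c.hF, c.F0_le hS, sc_top F, autInv'_of_autInv (c.F0_autInv hS),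
    fun P _ φ hφ => c.F0_frat hS P φ hφ⟩, ?_⟩
  intro α hα
  have hαF' := autGroup_le_of_subsystem (c.F0_le hS) le_rfl hα
  have hαF := (mem_autGroup_iff F le_rfl α).1 hαF'
  have hSC : S ⊔ centralizerIn S S = S := sup_eq_left.mpr inf_le_left
  refine ⟨MulAut.congr (MulEquiv.subgroupCongr hSC).symm α, ?_, fun x => rfl, ?_⟩
  · rw [mem_autGroup_iff F hSC.le]
    exact mem_of_eq_on F hαF hSC.le (fun x => rfl)
  · intro z hz
    have hzS : (z : Ω) ∈ S := hz.1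
    show (z : Ω)⁻¹ * ((α ⟨z, _⟩ : S) : Ω) ∈ _
    refine ⟨S.mul_mem (S.inv_mem hzS) (α _).2, ?_⟩
    apply Subgroup.mul_mem _ (Subgroup.inv_mem _ hz.2)
    apply Subgroup.mem_centralizer_iff.2
    intro s hs
    have h1 : (α⁻¹ ⟨s, hs⟩ : S) * ⟨z, hzS⟩ = ⟨z, hzS⟩ * α⁻¹ ⟨s, hs⟩ :=
      Subtype.ext (Subgroup.mem_centralizer_iff.1 hz.2 _ (α⁻¹ ⟨s, hs⟩).2)
    have h2 := congrArg (fun w => ((α w : S) : Ω)) h1
    simp only [map_mul, MulAut.apply_inv_self] at h2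
    exact h2

end ChiCtx

end Cfsg.Agent.Lib.Helper85
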