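import Cfsg.Agent.Lib.Helper85.FusPrimeIdx2
import Cfsg.Agent.Lib.Helper85.FusConstr
import Cfsg.Agent.Lib.Helper86.Restrict

set_option autoImplicit false

/-! Generated fusion systems, and the maps of `F` whose restriction to a strongly closed `T` lies in a
given system over `T` (helper85). -/

namespace Cfsg.Agent.Lib.Helper85

open Cfsg Cfsg.FusionSystem Cfsg.Agent.Lib.Helper84

variable {Ω : Type*} [Group Ω] {S : Subgroup Ω}

/-- the smallest fusion system containing the maps of `K` with source in `ℋ`. -/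
def genSystem (K : FusionSystem S) (ℋ : Set (Subgroup Ω)) : FusionSystem S where
  Hom P := {φ | ∀ E : FusionSystem S, (∀ Q ∈ ℋ, K.Hom Q ⊆ E.Hom Q) → φ ∈ E.Hom P}
  le_of_mem h := K.le_of_mem (h K fun _ _ => subset_rfl)
  injective_of_mem h := K.injective_of_mem (h K fun _ _ => subset_rfl)
  conj_mem := fun hP hg E _ => E.conj_mem hP hg
  comp_mem := fun hφ hψ h E hE => E.comp_mem (hφ E hE) (hψ E hE) h
  inv_mem := by
    intro P φ hφ
    obtain ⟨ψ, hψ, hψ'⟩ := K.inv_mem (hφ K fun _ _ => subset_rfl)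
    refine ⟨ψ, fun E hE => ?_, hψ'⟩
    obtain ⟨ψ₂, hψ₂, hψ₂'⟩ := E.inv_mem (hφ E hE)
    have : ψ = ψ₂ := by
      ext ⟨_, x, rfl⟩
      rw [hψ', hψ₂']
    rw [this]; exact hψ₂

theorem genSystem_le (K : FusionSystem S) (ℋ : Set (Subgroup Ω)) : genSystem K ℋ ≤ K :=
  fun _ _ h => h K fun _ _ => subset_rfl

theorem le_genSystem (K : FusionSystem S) (ℋ : Set (Subgroup Ω)) {Q : Subgroup Ω} (hQ : Q ∈ ℋ) :
    K.Hom Q ⊆ (genSystem K ℋ).Hom Q := fun _ h _ hE => hE Q hQ h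

theorem genSystem_hom_eq (K : FusionSystem S) (ℋ : Set (Subgroup Ω)) {Q : Subgroup Ω} (hQ : Q ∈ ℋ) :
    (genSystem K ℋ).Hom Q = K.Hom Q :=
  Set.Subset.antisymm (genSystem_le K ℋ Q) (le_genSystem K ℋ hQ)

theorem genSystem_min (K : FusionSystem S) (ℋ : Set (Subgroup Ω)) (E : FusionSystem S)
    (h : ∀ Q ∈ ℋ, K.Hom Q ⊆ E.Hom Q) : genSystem K ℋ ≤ E := fun _ _ hφ => hφ E h

theorem genSystem_gen (K : FusionSystem S) (ℋ : Set (Subgroup Ω)) (E : FusionSystem S)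
    (h : ∀ Q ∈ ℋ, (genSystem K ℋ).Hom Q ⊆ E.Hom Q) : genSystem K ℋ ≤ E :=
  genSystem_min K ℋ E fun Q hQ => (le_genSystem K ℋ hQ).trans (h Q hQ)

theorem genSystem_autGroup (K : FusionSystem S) (ℋ : Set (Subgroup Ω)) {Q : Subgroup Ω}
    (hQ : Q ∈ ℋ) : (genSystem K ℋ).autGroup Q = K.autGroup Q := by
  unfold autGroup
  rw [genSystem_hom_eq K ℋ hQ]

/-- a map of the system detects membership in a strongly closed subgroup. -/
theorem sc_mem_iff {F : FusionSystem S} {T : Subgroup Ω} (hT : F.StronglyClosed T)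
    {P : Subgroup Ω} {φ : P →* Ω} (hφ : φ ∈ F.Hom P) (x : P) : φ x ∈ T ↔ (x : Ω) ∈ T := by
  refine ⟨fun h => ?_, Helper87.sc_map_mem hT hφ x⟩
  obtain ⟨ψ, hψ, hψ'⟩ := F.inv_mem hφ
  have := Helper87.sc_map_mem hT hψ ⟨φ x, x, rfl⟩ h
  rwa [hψ'] at this

/-- the maps of `F` whose restriction to the strongly closed `T` lies in `D`. -/
def overSystem (F : FusionSystem S) {T : Subgroup Ω} (hT : F.StronglyClosed T) (D : FusionSystem T)
    (hconj : ∀ (P : Subgroup Ω), P ≤ T → ∀ s ∈ S, conjHom P s ∈ D.Hom P) : FusionSystem S where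
  Hom P := {φ | φ ∈ F.Hom P ∧ φ.comp (Subgroup.inclusion (inf_le_left : P ⊓ T ≤ P)) ∈ D.Hom (P ⊓ T)}
  le_of_mem h := F.le_of_mem h.1
  injective_of_mem h := F.injective_of_mem h.1
  conj_mem := by
    intro P g hP hg
    exact ⟨F.conj_mem hP hg, hconj _ inf_le_right g hg⟩
  comp_mem := by
    intro P Q φ ψ hφ hψ h
    refine ⟨F.comp_mem hφ.1 hψ.1 h, ?_⟩
    have h1 : ∀ x : (P ⊓ T : Subgroup Ω),
        (φ.comp (Subgroup.inclusion (inf_le_left : P ⊓ T ≤ P))) x ∈ Q ⊓ T :=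
      fun x => ⟨h _, Helper87.sc_map_mem hT hφ.1 _ x.2.2⟩
    exact comp_mem' D hφ.2 hψ.2 h1 (fun x => rfl)
  inv_mem := by
    intro P φ hφ
    obtain ⟨ψ, hψ, hψ'⟩ := F.inv_mem hφ.1
    refine ⟨ψ, ⟨hψ, ?_⟩, hψ'⟩
    obtain ⟨ψ₀, hψ₀, hψ₀'⟩ := D.inv_mem hφ.2
    have hle : φ.range ⊓ T ≤ (φ.comp (Subgroup.inclusion (inf_le_left : P ⊓ T ≤ P))).range := by
      rintro _ ⟨⟨x, rfl⟩, hx⟩
      exact ⟨⟨x, x.2, (sc_mem_iff hT hφ.1 x).1 hx⟩, rfl⟩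
    refine mem_of_eq_on D hψ₀ hle ?_
    rintro ⟨_, ⟨x, rfl⟩, hx⟩
    have h2 := hψ₀' ⟨x, x.2, (sc_mem_iff hT hφ.1 x).1 hx⟩
    have h3 := hψ' x
    show ψ ⟨φ x, _⟩ = ψ₀ ⟨φ x, _⟩
    rw [h3]
    exact h2.symm

theorem mem_overSystem {F : FusionSystem S} {T : Subgroup Ω} {hT : F.StronglyClosed T}
    {D : FusionSystem T} {hconj : ∀ (P : Subgroup Ω), P ≤ T → ∀ s ∈ S, conjHom P s ∈ D.Hom P}
    {P : Subgroup Ω} {φ : P →* Ω} : φ ∈ (overSystem F hT D hconj).Hom P ↔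
      φ ∈ F.Hom P ∧ φ.comp (Subgroup.inclusion (inf_le_left : P ⊓ T ≤ P)) ∈ D.Hom (P ⊓ T) := Iff.rfl

theorem overSystem_le (F : FusionSystem S) {T : Subgroup Ω} (hT : F.StronglyClosed T)
    (D : FusionSystem T) (hconj : ∀ (P : Subgroup Ω), P ≤ T → ∀ s ∈ S, conjHom P s ∈ D.Hom P) :
    overSystem F hT D hconj ≤ F := fun _ _ h => h.1

/-- restriction of a map of the over-system to any subgroup of `T`. -/
theorem overSystem_restrict {F : FusionSystem S} {T : Subgroup Ω} {hT : F.StronglyClosed T}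
    {D : FusionSystem T} {hconj : ∀ (P : Subgroup Ω), P ≤ T → ∀ s ∈ S, conjHom P s ∈ D.Hom P}
    {P U : Subgroup Ω} {φ : P →* Ω} (hφ : φ ∈ (overSystem F hT D hconj).Hom P) (hUP : U ≤ P)
    (hUT : U ≤ T) : φ.comp (Subgroup.inclusion hUP) ∈ D.Hom U :=
  mem_of_eq_on D hφ.2 (le_inf hUP hUT) (fun _ => rfl)

/-- criterion: it is enough to know the restriction on some `U ⊇ P ⊓ T`. -/
theorem mem_overSystem_of {F : FusionSystem S} {T : Subgroup Ω} {hT : F.StronglyClosed T}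
    {D : FusionSystem T} {hconj : ∀ (P : Subgroup Ω), P ≤ T → ∀ s ∈ S, conjHom P s ∈ D.Hom P}
    {P U : Subgroup Ω} {φ : P →* Ω} (hφ : φ ∈ F.Hom P) {δ : U →* Ω} (hδ : δ ∈ D.Hom U)
    (hle : P ⊓ T ≤ U) (h : ∀ (x : P) (hx : (x : Ω) ∈ U), φ x = δ ⟨x, hx⟩) :
    φ ∈ (overSystem F hT D hconj).Hom P :=
  ⟨hφ, mem_of_eq_on D hδ hle (fun x => h ⟨x, x.2.1⟩ (hle x.2))⟩

end Cfsg.Agent.Lib.Helper85
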