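import Cfsg.Agent.Lib.Helper85.PIdxK

set_option autoImplicit false

/-! `P ⊓ T` is `T`-centric for `P` centric radical; rigidity of `Kχ` on `T`-centric subgroups
(helper85). -/

namespace Cfsg.Agent.Lib.Helper85

open Cfsg Cfsg.FusionSystem Cfsg.Agent.Lib.Helper84

variable {Ω : Type*} [Group Ω] {S : Subgroup Ω}

theorem tc_of_centric_radical [Finite S] {p : ℕ} [Fact p.Prime] (hS : IsPGroup p S)
    (F : FusionSystem S) (hF : F.IsSaturated p) {T : Subgroup Ω} (hT : F.StronglyClosed T)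
    {P : Subgroup Ω} (hc : F.IsCentric P) (hr : F.IsRadical p P) : TC F T (P ⊓ T) := by
  have hPS := hc.1
  have hUS : P ⊓ T ≤ S := inf_le_left.trans hPS
  obtain ⟨U₂, hUU₂, ha, hrec⟩ := hF (P ⊓ T) hUS
  obtain ⟨φ, hφ, hφN, hφU⟩ := exists_normalizer_hom hS F ha hrec hUU₂
  have hPN : P ≤ normalizerIn S (P ⊓ T) := by
    intro x hx
    refine ⟨hPS hx, ?_⟩
    apply mem_normalizer_of_conj_mem
    · intro y hy
      exact ⟨P.mul_mem (P.mul_mem hx hy.1) (P.inv_mem hx), Helper87.sc_conj_mem hT (hPS hx) hy.2⟩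
    · intro y hy
      refine ⟨P.mul_mem (P.mul_mem (P.inv_mem hx) hy.1) hx, ?_⟩
      have := Helper87.sc_conj_mem hT (S.inv_mem (hPS hx)) hy.2
      rwa [inv_inv] at this
  have hconj : F.IsConj P ((P.subgroupOf (normalizerIn S (P ⊓ T))).map φ) :=
    Helper86.isConj_map F hφ hPN
  have hc₂ := Helper88.centric_of_isConj hc hconj
  have hr₂ := radical_of_isConj hconj hr
  have h1 := cent_le_of_centric_radical hS F hT hc₂ hr₂
  have hP₂T : (P.subgroupOf (normalizerIn S (P ⊓ T))).map φ ⊓ T = U₂ := by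
    rw [← hφU]
    ext y
    constructor
    · rintro ⟨⟨x, hx, rfl⟩, hy⟩
      exact ⟨x, ⟨hx, (sc_mem_iff hT hφ x).1 hy⟩, rfl⟩
    · rintro ⟨x, hx, rfl⟩
      exact ⟨⟨x, hx.1, rfl⟩, (sc_mem_iff hT hφ x).2 hx.2⟩
  rw [hP₂T] at h1
  refine ⟨inf_le_right, fun U' hU' => ?_⟩
  obtain ⟨θ, hθ, hθr⟩ := isConj_trans (isConj_symm hU') hUU₂
  obtain ⟨ψ, hψ, hψ'⟩ := hrec.2 U' θ hθ hθr
  intro c hc'
  have hcext : c ∈ extender S U' θ := centralizerIn_le_extender θ ⟨hT.1 hc'.1, hc'.2⟩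
  have hU'ext : U' ≤ extender S U' θ := le_extender (F.le_of_mem hθ).1 θ (F.le_of_mem hθ).2
  have hmap : (U'.subgroupOf (extender S U' θ)).map ψ = U₂ := by
    rw [← hθr]
    ext y
    constructor
    · rintro ⟨x, hx, rfl⟩
      exact ⟨⟨x, hx⟩, (hψ' x hx x.2).symm⟩
    · rintro ⟨x, rfl⟩
      exact ⟨⟨x, hU'ext x.2⟩, x.2, hψ' x x.2 _⟩
  have h2 := map_mem_centralizerIn F hψ hmap ⟨c, hcext⟩ hc'.2
  have h3 : ψ ⟨c, hcext⟩ ∈ centralizerIn T U₂ := ⟨Helper87.sc_map_mem hT hψ _ hc'.1, h2.2⟩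
  have h4 := h1 h3
  rw [← hmap] at h4
  obtain ⟨x, hx, hxc⟩ := h4
  have h5 := F.injective_of_mem hψ hxc
  have h6 : (x : Ω) = c := congrArg Subtype.val h5
  rw [← h6]
  exact hx

namespace ChiCtx

variable {p : ℕ} {F : FusionSystem S} {T : Subgroup Ω} {E : FusionSystem T}
  {Kχ : Subgroup (MulAut T)}

/-- An element of `Aut_F(T)` whose restriction to a `T`-centric subgroup lies in `D` lies in `Kχ`. -/
theorem mem_K_of_restrict [Finite S] [Fact p.Prime] (hS : IsPGroup p S) (c : ChiCtx p F T E Kχ) :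
    ∀ (n : ℕ) (U : Subgroup Ω) (hU : TC F T U), Nat.card T ≤ Nat.card U + n →
      ∀ γ ∈ F.autGroup T,
        (T.subtype.comp γ.toMonoidHom).comp (Subgroup.inclusion hU.1) ∈ c.D.Hom U → γ ∈ Kχ := by
  have hTS := c.hT.1
  have hfinT : Finite T := finite_of_le hTS
  have hTp : IsPGroup p T := hS.to_le hTS
  intro n
  induction n with
  | zero =>
    intro U hU hcard γ hγ hγD
    have hUT : U = T := Subgroup.eq_of_le_of_card_ge hU.1 (by simpa using hcard)
    have h1 : T.subtype.comp γ.toMonoidHom ∈ c.D.Hom T :=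
      mem_of_eq_on c.D hγD hUT.ge (fun _ => rfl)
    obtain ⟨β, hβ, h2⟩ := c.D_top h1
    have : γ = β := by
      ext t
      exact h2 t
    rw [this]; exact hβ
  | succ n ih =>
    intro U hU hcard γ hγ hγD
    by_cases hUT : U = T
    · have h1 : T.subtype.comp γ.toMonoidHom ∈ c.D.Hom T :=
        mem_of_eq_on c.D hγD hUT.ge (fun _ => rfl)
      obtain ⟨β, hβ, h2⟩ := c.D_top h1
      have : γ = β := by
        ext t
        exact h2 t
      rw [this]; exact hβ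
    have hlt : U < T := lt_of_le_of_ne hU.1 hUT
    obtain ⟨κ, hκ, φ₀, hφ₀, h⟩ := hγD
    have hφT := (E.le_of_mem hφ₀).2
    obtain ⟨γ', hγ'def⟩ : ∃ γ' : MulAut T, γ' = κ⁻¹ * γ := ⟨_, rfl⟩
    have hγ' : γ' ∈ F.autGroup T := by
      rw [hγ'def]; exact mul_mem (inv_mem (c.hKle hκ)) hγ
    have hγ'U : ∀ x : U, ((γ' ⟨x, hU.1 x.2⟩ : T) : Ω) = φ₀ x := by
      intro x
      have h1 : γ ⟨x, hU.1 x.2⟩ = κ ⟨φ₀ x, hφT x⟩ := Subtype.ext (h x (hφT x))
      rw [hγ'def, MulAut.mul_apply, h1, MulAut.inv_apply_self]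
    suffices hs : γ' ∈ Kχ by
      have : γ = κ * γ' := by rw [hγ'def]; group
      rw [this]; exact mul_mem hκ hs
    -- extension of `φ₀` in `E`
    have hUc : E.IsCentric U := hU.centric c.hsub
    have hU'c : E.IsCentric φ₀.range := Helper88.centric_of_isConj hUc ⟨φ₀, hφ₀, rfl⟩
    have hrec := Helper88.centric_receptive hTp c.hE hU'c
    have he := mor_equivOfRange E hφ₀ rfl
    obtain ⟨ψ, hψ, hψ'⟩ := exists_extension_of_receptive E hrec _ he
      (N := normalizerIn T U) le_rfl (by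
        intro g hg
        refine ⟨γ' ⟨g, hg.1⟩, (γ' _).2, fun x hx => ?_⟩
        show φ₀ ⟨g * x * g⁻¹, hx⟩ = _ * φ₀ x * _
        rw [← hγ'U, ← hγ'U]
        have : (⟨g * (x : Ω) * g⁻¹, hU.1 hx⟩ : T) = ⟨g, hg.1⟩ * ⟨x, hU.1 x.2⟩ * ⟨g, hg.1⟩⁻¹ := rfl
        show ((γ' ⟨g * (x : Ω) * g⁻¹, hU.1 hx⟩ : T) : Ω) = _
        rw [this, map_mul, map_mul, map_inv]
        rfl)
    have hψU : ∀ (x : Ω) (hx : x ∈ U) (hN : x ∈ normalizerIn T U), ψ ⟨x, hN⟩ = φ₀ ⟨x, hx⟩ :=
      fun x hx hN => hψ' x hx hN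
    have hψT := (E.le_of_mem hψ).2
    have hWT : normalizerIn T U ≤ T := normalizerIn_le T U
    have hUW : U ≤ normalizerIn T U := le_normalizerIn hU.1
    have hfinW : Finite (normalizerIn T U) := finite_of_le (hWT.trans hTS)
    -- the map `b = γ'⁻¹ ψ`
    have hbF : (T.subtype.comp γ'⁻¹.toMonoidHom).comp (ψ.codRestrict T hψT) ∈
        F.Hom (normalizerIn T U) :=
      comp_mem' F (c.hsub _ hψ) ((mem_autGroup_iff F hTS _).1 (inv_mem hγ')) hψT (fun _ => rfl)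
    obtain ⟨b, hbdef⟩ : ∃ b : ↥(normalizerIn T U) →* Ω,
      b = (T.subtype.comp γ'⁻¹.toMonoidHom).comp (ψ.codRestrict T hψT) := ⟨_, rfl⟩
    rw [← hbdef] at hbF
    have hbT : ∀ g, b g ∈ T := fun g => by rw [hbdef]; exact (γ'⁻¹ _).2
    have hγb : ∀ g, ((γ' ⟨b g, hbT g⟩ : T) : Ω) = ψ g := by
      intro g
      have : (⟨b g, hbT g⟩ : T) = γ'⁻¹ ⟨ψ g, hψT g⟩ := by
        apply Subtype.ext
        show b g = _
        rw [hbdef]; rfl
      rw [this, MulAut.apply_inv_self]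
    have hbU : ∀ (x : ↥(normalizerIn T U)), (x : Ω) ∈ U → b x = x := by
      intro x hx
      have h1 : γ' ⟨b x, hbT x⟩ = γ' ⟨x, hWT x.2⟩ := by
        apply Subtype.ext
        rw [hγb, hψU x hx x.2, ← hγ'U ⟨x, hx⟩]
      exact congrArg Subtype.val (γ'.injective h1)
    have hbdiff : ∀ g : ↥(normalizerIn T U), (g : Ω)⁻¹ * b g ∈ U := by
      intro g
      apply hU.2 U (isConj_refl F (hU.1.trans hTS))
      refine ⟨T.mul_mem (T.inv_mem (hWT g.2)) (hbT g), ?_⟩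
      apply Subgroup.mem_centralizer_iff.2
      intro x hx
      have hgx : (g : Ω) * x * (g : Ω)⁻¹ ∈ U := conj_mem_of_mem_normalizer g.2.2 hx
      have h1 := hbU (g * ⟨x, hUW hx⟩ * g⁻¹) hgx
      rw [map_mul, map_mul, map_inv, hbU ⟨x, hUW hx⟩ hx] at h1
      have h2 : b g * x * (b g)⁻¹ = (g : Ω) * x * (g : Ω)⁻¹ := h1
      calc x * ((g : Ω)⁻¹ * b g) = (g : Ω)⁻¹ * ((g : Ω) * x * (g : Ω)⁻¹) * b g := by group
        _ = (g : Ω)⁻¹ * b g * x := by rw [← h2]; group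
    have hbW : ∀ g, b g ∈ normalizerIn T U := by
      intro g
      have := (normalizerIn T U).mul_mem g.2 (hUW (hbdiff g))
      rwa [mul_inv_cancel_left] at this
    have hbr : b.range = normalizerIn T U := by
      apply Subgroup.eq_of_le_of_card_ge
      · rintro _ ⟨g, rfl⟩; exact hbW g
      · exact (Nat.card_congr (MonoidHom.ofInjective (F.injective_of_mem hbF)).toEquiv).le
    obtain ⟨β, hβdef⟩ : ∃ β : MulAut ↥(normalizerIn T U),
      β = equivOfRange b (F.injective_of_mem hbF) hbr := ⟨_, rfl⟩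
    have hβb : ∀ g, ((β g : ↥(normalizerIn T U)) : Ω) = b g := fun g => by rw [hβdef]; rfl
    have hβF : β ∈ F.autGroup (normalizerIn T U) := by
      rw [hβdef]
      exact (mem_autGroup_iff F (hWT.trans hTS) _).2 (mor_equivOfRange F hbF hbr)
    have hfinU : Finite U := finite_of_le (hU.1.trans hTS)
    obtain ⟨a, ha⟩ := IsPGroup.iff_card.mp (hTp.to_le hU.1)
    have hβp : β ^ p ^ a = 1 := by
      ext g
      have h2 : ((g⁻¹ * β g : ↥(normalizerIn T U)) : Ω) ∈ U := by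
        have := hbdiff g
        rw [← hβb] at this
        exact this
      have h3 : β (g⁻¹ * β g) = g⁻¹ * β g := by
        apply Subtype.ext
        rw [hβb]
        exact hbU _ h2
      rw [pow_apply_of_fixed β g h3]
      have h4 : (⟨_, h2⟩ : U) ^ p ^ a = 1 := by
        rw [← ha]; exact pow_card_eq_one'
      have h5 : (g⁻¹ * β g) ^ p ^ a = 1 := by
        apply Subtype.ext
        exact congrArg (Subtype.val : U → Ω) h4
      rw [h5, mul_one]
      rfl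
    have hβK := c.pElt_mem_K hS (hWT.trans hTS) hβF hβp
    have hβD : Mor c.D β.toMonoidHom :=
      mem_of_eq_on c.D (overSystem_restrict hβK le_rfl hWT) le_rfl (fun _ => rfl)
    have hfin : ψ.comp β.symm.toMonoidHom ∈ c.D.Hom (normalizerIn T U) :=
      Mor.comp_hom (c.E_le_D _ hψ) hβD.symm
    have hW : TC F T (normalizerIn T U) := hU.mono hUW hWT
    refine ih (normalizerIn T U) hW ?_ γ' hγ' ?_
    · have := Helper87.card_lt_of_lt (lt_normalizerIn hTp hlt)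
      omega
    · refine mem_of_eq_on c.D hfin le_rfl (fun g => ?_)
      show ((γ' ⟨g, hWT g.2⟩ : T) : Ω) = ψ (β.symm g)
      rw [← hγb]
      congr 2
      apply Subtype.ext
      show (g : Ω) = b (β.symm g)
      rw [← hβb]
      simp

end ChiCtx

end Cfsg.Agent.Lib.Helper85
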