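import Cfsg.Agent.Lib.Helper85.RedSB

set_option autoImplicit false

/-! The hyperfocal subgroup lies in `SB` when `B` contains the `p'`-elements (helper85, S5202). -/

namespace Cfsg.Agent.Lib.Helper85

open Cfsg Cfsg.FusionSystem Cfsg.Agent.Lib.Helper84

variable {Ω : Type*} [Group Ω] {S : Subgroup Ω}

/-- the automorphisms `α` of `P` with `[x, α] ∈ U` for all `x` -/
def commIn (P U : Subgroup Ω) : Subgroup (MulAut P) where
  carrier := {α | ∀ x : P, (x : Ω)⁻¹ * ((α x : P) : Ω) ∈ U}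
  mul_mem' := by
    intro α β hα hβ x
    have e : (x : Ω)⁻¹ * (((α * β) x : P) : Ω) =
        ((x : Ω)⁻¹ * ((β x : P) : Ω)) * (((β x : P) : Ω)⁻¹ * ((α (β x) : P) : Ω)) := by
      rw [MulAut.mul_apply]; group
    rw [e]
    exact U.mul_mem (hβ x) (hα (β x))
  one_mem' := fun x => by simp
  inv_mem' := by
    intro α hα x
    have h1 := hα (α⁻¹ x)
    rw [MulAut.apply_inv_self] at h1
    have e : (x : Ω)⁻¹ * ((α⁻¹ x : P) : Ω) = (((α⁻¹ x : P) : Ω)⁻¹ * (x : Ω))⁻¹ := by group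
    rw [e]
    exact U.inv_mem h1

theorem coprime_mem_commIn [Finite S] {p : ℕ} [hp : Fact p.Prime] (hS : IsPGroup p S)
    (F : FusionSystem S) (hF : F.IsSaturated p) {T : Subgroup Ω} (hT : F.StronglyClosed T)
    (B : Subgroup (MulAut T)) (hBn : ∀ a ∈ F.autGroup T, ∀ k ∈ B, a * k * a⁻¹ ∈ B)
    (hBT : autInducedBy T T ≤ B)
    (hBp : ∀ a ∈ F.autGroup T, (orderOf a).Coprime p → a ∈ B)
    {P : Subgroup Ω} (hPS : P ≤ S) {α : MulAut P} (hα : α ∈ F.autGroup P)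
    (hco : (orderOf α).Coprime p) : α ∈ commIn P (SB S T B) := by
  have hαF := (mem_autGroup_iff F hPS α).1 hα
  obtain ⟨ψ, hψ, hgood⟩ := modGood_of_saturated hS F hF T hT hαF
  have hWS : P ⊔ T ≤ S := sup_le hPS hT.1
  have hfinW : Finite ↥(P ⊔ T) := finite_of_le hWS
  have hfinA : Finite (MulAut ↥(P ⊔ T)) := finite_mulAut_of_le hWS
  have hψW : ∀ w, ψ w ∈ P ⊔ T := by
    intro w
    have h1 := map_sup_mem ψ (P' := P ⊔ T) (Q' := T) (fun x => ?_)
      (fun t => hT.2 T le_rfl _ (restrict_mem F hψ le_sup_right) t) w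
    · rwa [sup_assoc, sup_idem] at h1
    · have h2 := hgood x
      have e : ψ (Subgroup.inclusion le_sup_left x) = ((α x : P) : Ω) *
          ((ψ (Subgroup.inclusion le_sup_left x))⁻¹ * ((α x : P) : Ω))⁻¹ := by group
      rw [e]
      exact Subgroup.mul_mem _ ((le_sup_left : P ≤ P ⊔ T) (α x).2)
        (Subgroup.inv_mem _ ((le_sup_right : T ≤ P ⊔ T) h2))
  have hr : ψ.range = P ⊔ T := by
    apply Subgroup.eq_of_le_of_card_ge
    · rintro _ ⟨x, rfl⟩
      exact hψW x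
    · exact (Nat.card_congr (MonoidHom.ofInjective (F.injective_of_mem hψ)).toEquiv).le
  obtain ⟨A, hA⟩ : ∃ A : MulAut ↥(P ⊔ T), A = equivOfRange ψ (F.injective_of_mem hψ) hr := ⟨_, rfl⟩
  have hAF : A ∈ F.autGroup (P ⊔ T) := by
    rw [mem_autGroup_iff F hWS, hA]
    exact mor_equivOfRange F hψ hr
  have hA' : ∀ w, ((A w : ↥(P ⊔ T)) : Ω) = ψ w := by
    intro w; rw [hA]; rfl
  have hAmor := (mem_autGroup_iff F hWS A).1 hAF
  have hst : A ∈ stabIn (P ⊔ T) T := fun x => (sc_mem_iff hT hAmor x).symm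
  -- powers
  have hpow : ∀ (j : ℕ) (x : P),
      (((A ^ j) (Subgroup.inclusion le_sup_left x) : ↥(P ⊔ T)) : Ω)⁻¹ * (((α ^ j) x : P) : Ω) ∈ T := by
    intro j
    induction j with
    | zero => intro x; simp
    | succ j ih =>
      intro x
      rw [pow_succ', pow_succ', MulAut.mul_apply, MulAut.mul_apply]
      have h1 := ih x
      have h2 := hgood ((α ^ j) x)
      set w := (A ^ j) (Subgroup.inclusion le_sup_left x) with hw
      set v := (α ^ j) x with hv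
      have h3 : ((A (w⁻¹ * Subgroup.inclusion le_sup_left v) : ↥(P ⊔ T)) : Ω) ∈ T :=
        (hst _).1 h1
      have e : ((A w : ↥(P ⊔ T)) : Ω)⁻¹ * ((α v : P) : Ω) =
          ((A (w⁻¹ * Subgroup.inclusion le_sup_left v) : ↥(P ⊔ T)) : Ω) *
            ((ψ (Subgroup.inclusion le_sup_left v))⁻¹ * ((α v : P) : Ω)) := by
        rw [map_mul, map_inv, ← hA']
        simp only [Subgroup.coe_mul, Subgroup.coe_inv]
        group
      rw [e]
      exact T.mul_mem h3 h2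
  -- the exponent
  obtain ⟨k, m', hm', hord⟩ := Nat.exists_eq_pow_mul_and_not_dvd (orderOf_pos A).ne' p
    hp.out.one_lt.ne'
  obtain ⟨N, hN⟩ : ∃ N, N = (p ^ k) ^ Nat.totient (orderOf α) := ⟨_, rfl⟩
  have hfinP : Finite (MulAut P) := finite_mulAut_of_le hPS
  have hαN : α ^ N = α := by
    have h1 : N ≡ 1 [MOD orderOf α] := by
      rw [hN]
      exact Nat.ModEq.pow_totient (Nat.Coprime.pow_left k hco.symm)
    have h2 := pow_eq_pow_iff_modEq.2 h1
    rwa [pow_one] at h2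
  have hdvd : p ^ k ∣ N := by
    rw [hN]
    exact dvd_pow_self _ (Nat.totient_pos.2 (orderOf_pos α)).ne'
  obtain ⟨a₁, ha₁⟩ : ∃ a₁ : MulAut T, a₁ = resStab le_sup_right ⟨A, hst⟩ := ⟨_, rfl⟩
  have ha₁F : a₁ ∈ F.autGroup T := by
    rw [mem_autGroup_iff F hT.1, ha₁]
    exact mem_of_eq_on F hAmor le_sup_right (fun x => rfl)
  have ha₁N : ∀ t : T, (((a₁ ^ N) t : T) : Ω) =
      (((A ^ N) (Subgroup.inclusion le_sup_right t) : ↥(P ⊔ T)) : Ω) := by
    intro t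
    rw [ha₁, ← map_pow, resStab_apply]
    rfl
  have hone : (a₁ ^ N) ^ m' = 1 := by
    rw [ha₁, ← map_pow, ← map_pow, ← pow_mul]
    have h1 : (⟨A, hst⟩ : stabIn (P ⊔ T) T) ^ (N * m') = 1 := by
      apply Subtype.ext
      rw [Subgroup.coe_pow]
      show A ^ (N * m') = 1
      rw [← orderOf_dvd_iff_pow_eq_one, hord]
      exact Nat.mul_dvd_mul_right hdvd m'
    rw [h1, map_one]
  have haB : a₁ ^ N ∈ B := by
    apply hBp _ (Subgroup.pow_mem _ ha₁F N)
    have h1 : orderOf (a₁ ^ N) ∣ m' := orderOf_dvd_of_pow_eq_one hone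
    exact Nat.Coprime.coprime_dvd_left h1
      ((Nat.Prime.coprime_iff_not_dvd hp.out).2 hm').symm
  intro x
  have hxS : (x : Ω) ∈ S := hPS x.2
  have hxn : (x : Ω) ∈ Subgroup.normalizer (T : Set Ω) := Helper87.sc_le_normalizer hT hxS
  have hcx : conjAut T x hxn ∈ F.autGroup T :=
    autInducedBy_le_autGroup F hT.1 (conjAut_mem_autInducedBy hxn hxS)
  obtain ⟨y, hy⟩ : ∃ y : ↥(P ⊔ T), y = (A ^ N) (Subgroup.inclusion le_sup_left x) := ⟨_, rfl⟩
  have h1 : (y : Ω)⁻¹ * ((α x : P) : Ω) ∈ T := by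
    have := hpow N x
    rwa [hαN, ← hy] at this
  have e : (x : Ω)⁻¹ * ((α x : P) : Ω) = ((x : Ω)⁻¹ * (y : Ω)) * ((y : Ω)⁻¹ * ((α x : P) : Ω)) := by
    group
  rw [e]
  refine Subgroup.mul_mem _ ?_ (le_SB hT.1 hBT h1)
  refine ⟨S.mul_mem (S.inv_mem hxS) (hWS y.2),
    ((conjAut T x hxn)⁻¹ * (a₁ ^ N) * ((conjAut T x hxn)⁻¹)⁻¹) * (a₁ ^ N)⁻¹,
    B.mul_mem (hBn _ (Subgroup.inv_mem _ hcx) _ haB) (B.inv_mem haB), fun t => ?_⟩
  have key : ∀ u : T, (((a₁ ^ N) (conjAut T x hxn u) : T) : Ω) =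
      (y : Ω) * (((a₁ ^ N) u : T) : Ω) * (y : Ω)⁻¹ := by
    intro u
    rw [ha₁N, ha₁N, hy]
    rw [← Subgroup.coe_inv, ← Subgroup.coe_mul, ← Subgroup.coe_mul, ← map_inv, ← map_mul,
      ← map_mul]
    congr 2
  have h2 : ∀ v : T, (((conjAut T x hxn)⁻¹ v : T) : Ω) = (x : Ω)⁻¹ * v * x := by
    intro v
    have h3 := conjAut_apply T x hxn ((conjAut T x hxn)⁻¹ v)
    rw [MulAut.apply_inv_self] at h3
    rw [h3]
    group
  rw [inv_inv, MulAut.mul_apply, MulAut.mul_apply, MulAut.mul_apply, h2, key,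
    MulAut.apply_inv_self]
  group

theorem hyperfocal_le_SB [Finite S] {p : ℕ} [Fact p.Prime] (hS : IsPGroup p S)
    (F : FusionSystem S) (hF : F.IsSaturated p) {T : Subgroup Ω} (hT : F.StronglyClosed T)
    (B : Subgroup (MulAut T)) (hBn : ∀ a ∈ F.autGroup T, ∀ k ∈ B, a * k * a⁻¹ ∈ B)
    (hBT : autInducedBy T T ≤ B)
    (hBp : ∀ a ∈ F.autGroup T, (orderOf a).Coprime p → a ∈ B) :
    F.hyperfocalSubgroup p ≤ SB S T B := by
  unfold hyperfocalSubgroup
  rw [Subgroup.closure_le]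
  rintro _ ⟨P, α, x, hPS, hα, rfl⟩
  have key : pResidual p (F.autGroup P) ≤ (commIn P (SB S T B)).comap (F.autGroup P).subtype := by
    unfold pResidual
    rw [Subgroup.closure_le]
    intro δ hδ
    refine coprime_mem_commIn hS F hF hT B hBn hBT hBp hPS δ.2 ?_
    show (orderOf (δ : MulAut P)).Coprime p
    rw [Subgroup.orderOf_coe]
    exact hδ
  exact key hα x

end Cfsg.Agent.Lib.Helper85
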