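import Cfsg.Agent.Lib.Helper85.RedStepQ
import Cfsg.Agent.Lib.Helper84.RedL
import Cfsg.Agent.S5203

set_option autoImplicit false

/-! Descending a chain of normal subgroups of `Aut_F(T)` (helper85, for S5202). -/

namespace Cfsg.Agent.Lib.Helper85

open Cfsg Cfsg.FusionSystem Cfsg.Agent.Lib.Helper84

variable {Ω : Type*} [Group Ω] {S : Subgroup Ω}

theorem autInv_self (F : FusionSystem S) : AutInv F (F.autGroup S) := by
  intro P P' φ hφ α hα hP' h
  have hαF := (mem_autGroup_iff F le_rfl α).1 hα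
  have hαi := (mem_autGroup_iff F le_rfl α⁻¹).1 (Subgroup.inv_mem _ hα)
  have h1 : (S.subtype.comp (α⁻¹).toMonoidHom).comp (Subgroup.inclusion hP') ∈ F.Hom P' :=
    restrict_mem F hαi hP'
  have h2 : (φ.comp (((S.subtype.comp (α⁻¹).toMonoidHom).comp
      (Subgroup.inclusion hP')).codRestrict P h)) ∈ F.Hom P' :=
    comp_mem' F h1 hφ h (fun _ => rfl)
  exact ⟨(S.subtype.comp α.toMonoidHom).comp ((φ.comp (((S.subtype.comp (α⁻¹).toMonoidHom).comp
      (Subgroup.inclusion hP')).codRestrict P h)).codRestrict S (F.le_of_mem h2).2),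
    comp_mem' F h2 hαF (F.le_of_mem h2).2 (fun _ => rfl), fun y => rfl⟩

theorem weaklyNormal_self {p : ℕ} {F : FusionSystem S} (hF : F.IsSaturated p) :
    F.IsWeaklyNormalIn F p :=
  ⟨hF, hF, fun _ _ h => h, sc_top F, autInv'_of_autInv (autInv_self F),
    fun _ _ φ hφ => ⟨1, Subgroup.one_mem _, φ, hφ, fun _ _ => rfl⟩⟩

theorem red_main [Finite S] {p : ℕ} [Fact p.Prime] (hS : IsPGroup p S) (F : FusionSystem S)
    {T : Subgroup Ω} (E : FusionSystem T) (hE : E.IsWeaklyNormalIn F p)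
    (n : ℕ) (𝒜 : ℕ → Subgroup (MulAut T)) (hn : 𝒜 n = F.autGroup T)
    (hA₀ : ∀ i, E.autGroup T ≤ 𝒜 i)
    (hnorm : ∀ i, ∀ a ∈ F.autGroup T, ∀ k ∈ 𝒜 i, a * k * a⁻¹ ∈ 𝒜 i)
    (hstep : ∀ i, i < n → (∀ a ∈ 𝒜 (i + 1), (∃ k : ℕ, a ^ p ^ k = 1) → a ∈ 𝒜 i) ∨
        (∀ a ∈ 𝒜 (i + 1), (orderOf a).Coprime p → a ∈ 𝒜 i)) :
    ∀ j, j ≤ n → ∃ (S' : Subgroup Ω) (F' : FusionSystem S'), F'.IsWeaklyNormalIn F p ∧
      E.IsSubsystemOf F' ∧ T ⊔ centralizerIn S T ≤ S' ∧ F'.autGroup T ≤ 𝒜 (n - j) ∧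
      ∀ {U V : Subgroup Ω} (L : FusionSystem U) (L' : FusionSystem V),
        L.IsResidualLimitOf F p → L'.IsResidualLimitOf F' p → SameHom L L' := by
  have hF : F.IsSaturated p := hE.2.1
  have hT : F.StronglyClosed T := hE.2.2.2.1
  intro j
  induction j with
  | zero =>
    intro _
    refine ⟨S, F, weaklyNormal_self hF, hE.2.2.1, sup_le hT.1 inf_le_left, ?_, ?_⟩
    · rw [Nat.sub_zero, hn]
    · intro U V L L' hL hL'
      exact limit_unique hL hS hF L' hL'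
  | succ j ih =>
    intro hj
    obtain ⟨S', F', hF', hEF', hC, hA, hlim⟩ := ih (by omega)
    have hS'S : S' ≤ S := hF'.2.2.2.1.1
    have hfinS' : Finite S' := finite_of_le hS'S
    have hS'p : IsPGroup p S' := hS.to_le hS'S
    have hi : n - j = (n - (j + 1)) + 1 := by omega
    rw [hi] at hA
    obtain ⟨W, L₀, hL₀⟩ := exists_limit hS'p F' hF'.1
    rcases hstep (n - (j + 1)) (by omega) with h | h
    · obtain ⟨F'', h1, h2, h3, h4, h5⟩ := step_q hS F E hE F' hF' hEF' hC (𝒜 (n - (j + 1)))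
        (hnorm _) (hA₀ _) (fun a ha => h a (hA ha))
      refine ⟨S', F'', h1, h2, hC, h3, ?_⟩
      intro U V L L' hL hL'
      exact (hlim L L₀ hL hL₀).trans (sameLim_of_primeIdx hS'p F' hF'.1 F'' h4 h5 L₀ hL₀ L' hL')
    · obtain ⟨S'', F'', h1, h2, h3, h4, h5, h6⟩ := step_p hS F E hE F' hF' hEF' hC
        (𝒜 (n - (j + 1))) (hnorm _) (hA₀ _) (fun a ha => h a (hA ha))
      refine ⟨S'', F'', h1, h2, h3, h4, ?_⟩
      intro U V L L' hL hL'
      exact (hlim L L₀ hL hL₀).trans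
        (Cfsg.Agent.S5203.result p hS'p F' hF'.1 F'' h5 h6 L₀ hL₀ L' hL')

end Cfsg.Agent.Lib.Helper85
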