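import Cfsg.Agent.Lib.Helper85.RedBasic
import Cfsg.Agent.Lib.Helper85.FusGood

set_option autoImplicit false

/-! The subgroup of `S'` inducing on `T` automorphisms in `B` (helper85, for S5202). -/

namespace Cfsg.Agent.Lib.Helper85

open Cfsg Cfsg.FusionSystem Cfsg.Agent.Lib.Helper84

variable {Ω : Type*} [Group Ω] {S : Subgroup Ω}

/-- the elements of `S'` inducing on `T` an element of `B` -/
def SB (S' T : Subgroup Ω) (B : Subgroup (MulAut T)) : Subgroup Ω where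
  carrier := {x | x ∈ S' ∧ ∃ β ∈ B, ∀ t : T, ((β t : T) : Ω) = x * t * x⁻¹}
  mul_mem' := by
    rintro x y ⟨hx, β, hβ, h1⟩ ⟨hy, γ, hγ, h2⟩
    refine ⟨S'.mul_mem hx hy, β * γ, B.mul_mem hβ hγ, fun t => ?_⟩
    rw [MulAut.mul_apply, h1, h2]
    group
  one_mem' := ⟨S'.one_mem, 1, B.one_mem, fun t => by simp⟩
  inv_mem' := by
    rintro x ⟨hx, β, hβ, h1⟩
    refine ⟨S'.inv_mem hx, β⁻¹, B.inv_mem hβ, fun t => ?_⟩
    have h2 := h1 (β⁻¹ t)
    rw [MulAut.apply_inv_self] at h2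
    rw [h2]
    group

theorem mem_SB {S' T : Subgroup Ω} {B : Subgroup (MulAut T)} {x : Ω} :
    x ∈ SB S' T B ↔ x ∈ S' ∧ ∃ β ∈ B, ∀ t : T, ((β t : T) : Ω) = x * t * x⁻¹ := Iff.rfl

theorem SB_le (S' T : Subgroup Ω) (B : Subgroup (MulAut T)) : SB S' T B ≤ S' := fun _ h => h.1

theorem le_SB {S' T : Subgroup Ω} {B : Subgroup (MulAut T)} (hTS' : T ≤ S')
    (hBT : autInducedBy T T ≤ B) : T ≤ SB S' T B := by
  intro x hx
  have hn : x ∈ Subgroup.normalizer (T : Set Ω) := Subgroup.le_normalizer hx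
  exact ⟨hTS' hx, conjAut T x hn, hBT (conjAut_mem_autInducedBy hn hx), fun t => rfl⟩

theorem centralizerIn_le_SB {S₀ S' T : Subgroup Ω} {B : Subgroup (MulAut T)}
    (h : centralizerIn S₀ T ≤ S') : centralizerIn S₀ T ≤ SB S' T B := by
  intro x hx
  refine ⟨h hx, 1, B.one_mem, fun t => ?_⟩
  have h1 := Subgroup.mem_centralizer_iff.1 hx.2 t t.2
  rw [MulAut.one_apply, ← h1]
  group

theorem sc_range_eq [Finite S] {F : FusionSystem S} {T : Subgroup Ω} (hT : F.StronglyClosed T)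
    {φ : T →* Ω} (hφ : φ ∈ F.Hom T) : φ.range = T := by
  have : Finite T := finite_of_le hT.1
  apply Subgroup.eq_of_le_of_card_ge
  · rintro _ ⟨x, rfl⟩
    exact hT.2 T le_rfl φ hφ x
  · exact (Nat.card_congr (MonoidHom.ofInjective (F.injective_of_mem hφ)).toEquiv).le

theorem SB_stronglyClosed [Finite S] {p : ℕ} [Fact p.Prime] (hS : IsPGroup p S)
    (F : FusionSystem S) (hF : F.IsSaturated p) {T S' : Subgroup Ω} (hT : F.StronglyClosed T)
    (hS' : F.StronglyClosed S') (B : Subgroup (MulAut T))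
    (hBn : ∀ a ∈ F.autGroup T, ∀ k ∈ B, a * k * a⁻¹ ∈ B) (hBT : autInducedBy T T ≤ B) :
    F.StronglyClosed (SB S' T B) := by
  refine ⟨fun x hx => hS'.1 hx.1, fun P hP φ hφ x => ?_⟩
  obtain ⟨ψ, hψ, hgood⟩ := modGood_of_saturated hS F hF T hT hφ
  obtain ⟨-, β, hβ, hβ'⟩ := hP x.2
  have hψT : ψ.comp (Subgroup.inclusion le_sup_right) ∈ F.Hom T := restrict_mem F hψ le_sup_right
  have hr := sc_range_eq hT hψT
  obtain ⟨a, ha⟩ : ∃ a : MulAut T, a = equivOfRange _ (F.injective_of_mem hψT) hr := ⟨_, rfl⟩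
  have haF : a ∈ F.autGroup T := by
    rw [mem_autGroup_iff F hT.1, ha]
    exact mor_equivOfRange F hψT hr
  have ha' : ∀ t : T, ((a t : T) : Ω) = ψ (Subgroup.inclusion le_sup_right t) := by
    intro t; rw [ha]; rfl
  have ht₀ := hgood x
  have hn : (ψ (Subgroup.inclusion le_sup_left x))⁻¹ * φ x ∈ Subgroup.normalizer (T : Set Ω) :=
    Subgroup.le_normalizer ht₀
  refine ⟨hS'.2 P (hP.trans (SB_le _ _ _)) φ hφ x, (a * β * a⁻¹) * conjAut T _ hn,
    B.mul_mem (hBn a haF β hβ) (hBT (conjAut_mem_autInducedBy hn ht₀)), fun t => ?_⟩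
  have key : ∀ u : T, ((a (β u) : T) : Ω) = ψ (Subgroup.inclusion le_sup_left x) * (a u : T) *
      (ψ (Subgroup.inclusion le_sup_left x))⁻¹ := by
    intro u
    rw [ha', ha', ← map_inv, ← map_mul, ← map_mul]
    congr 1
    apply Subtype.ext
    exact hβ' u
  rw [MulAut.mul_apply, MulAut.mul_apply, MulAut.mul_apply, key, MulAut.apply_inv_self,
    conjAut_apply]
  group

end Cfsg.Agent.Lib.Helper85
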