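import Cfsg.Agent.Lib.Helper85.RedStepP
import Cfsg.Agent.S5110

set_option autoImplicit false

/-! The `p'`-step of the reduction (helper85, for S5202). -/

namespace Cfsg.Agent.Lib.Helper85

open Cfsg Cfsg.FusionSystem Cfsg.Agent.Lib.Helper84

variable {Ω : Type*} [Group Ω] {S : Subgroup Ω}

theorem congr_self_eq {X : Type*} [Group X] (γ α : MulAut X) :
    MulAut.congr γ α = γ * α * γ⁻¹ := by
  ext x
  rfl

theorem step_q [Finite S] {p : ℕ} [Fact p.Prime] (hS : IsPGroup p S) (F : FusionSystem S)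
    {T : Subgroup Ω} (E : FusionSystem T) (hE : E.IsWeaklyNormalIn F p) {S' : Subgroup Ω}
    (F' : FusionSystem S') (hF' : F'.IsWeaklyNormalIn F p) (hEF' : E.IsSubsystemOf F')
    (hC : T ⊔ centralizerIn S T ≤ S') (B : Subgroup (MulAut T))
    (hBn : ∀ a ∈ F.autGroup T, ∀ k ∈ B, a * k * a⁻¹ ∈ B) (hBE : E.autGroup T ≤ B)
    (hBp : ∀ a ∈ F'.autGroup T, (∃ k : ℕ, a ^ p ^ k = 1) → a ∈ B) :
    ∃ F'' : FusionSystem S', F''.IsWeaklyNormalIn F p ∧ E.IsSubsystemOf F'' ∧
      F''.autGroup T ≤ B ∧ F''.IsSaturated p ∧ F''.HasPrimeToPIndexIn F' p := by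
  have hF : F.IsSaturated p := hE.2.1
  have hT : F.StronglyClosed T := hE.2.2.2.1
  have hS'sc : F.StronglyClosed S' := hF'.2.2.2.1
  have hS'S : S' ≤ S := hS'sc.1
  have hsub : F'.IsSubsystemOf F := hF'.2.2.1
  have hF's : F'.IsSaturated p := hF'.1
  have hfinS' : Finite S' := finite_of_le hS'S
  have hS'p : IsPGroup p S' := hS.to_le hS'S
  have hTS' : T ≤ S' := le_sup_left.trans hC
  have hT' : F'.StronglyClosed T := sc_of_subsystem hsub hT hTS'
  have hSI : StrongInv F' F := strongInv_of_invariant hS hF hF'.2.2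
  have hEinv' : E.IsInvariantIn F' := invariant_of_le hS hF hE.2.2 hS'S hF's hsub hEF' hTS'
  have c : ChiCtx p F' T E (B ⊓ F'.autGroup T) :=
    { hF := hF's
      hE := hE.1
      hsub := hEF'
      hT := hT'
      hinv := autInv_of_autInv' hEinv'.2.2.1
      hfrat := hEinv'.2.2.2
      hKle := inf_le_right
      hKn := fun a ha k hk => ⟨hBn a (autGroup_le_of_subsystem hsub hTS' ha) k hk.1,
        Subgroup.mul_mem _ (Subgroup.mul_mem _ ha hk.2) (Subgroup.inv_mem _ ha)⟩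
      hKE := le_inf hBE (autGroup_le_of_subsystem hEF' le_rfl)
      hKp := fun a ha h => ⟨hBp a ha h, ha⟩ }
  have hsat0 : (c.F0 hS'p).IsSaturated p :=
    Cfsg.Agent.S5110.result p hS'p (c.F0 hS'p) c.HH (fun P hP => hP.1.1) (c.F0_HH_conj hS'p)
      (c.F0_sat_HH hS'p) (c.F0_gen hS'p) (c.F0_star hS'p)
  have hN := c.F0_normal hS'p hsat0
  have hb : (c.F0 hS'p).autGroup S' ≤ (invCore (c.F0 hS'p) (F.autGroup S')).autGroup S' := by
    intro α hα
    rw [mem_autGroup_iff _ le_rfl]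
    refine ⟨(mem_autGroup_iff _ le_rfl α).1 hα, fun γ hγ P' hcov => ?_⟩
    have hconj : γ * α * γ⁻¹ ∈ (c.F0 hS'p).autGroup S' := by
      obtain ⟨hαF', β, hβ, hβ'⟩ := (c.mem_F0_aut_iff hS'p α).1 hα
      obtain ⟨γT, hγT, hγT'⟩ := exists_res_aut' F hT hTS' hS'S hγ
      rw [c.mem_F0_aut_iff hS'p]
      refine ⟨?_, γT * β * γT⁻¹, ⟨hBn γT hγT β hβ.1, ?_⟩, ?_⟩
      · rw [← congr_self_eq]
        exact congr_mem_of_strongInv hSI le_rfl ((mem_autGroup_iff F hS'S γ).1 hγ) hαF'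
      · rw [← congr_self_eq]
        exact congr_mem_of_strongInv hSI hTS' ((mem_autGroup_iff F hT.1 γT).1 hγT) hβ.2
      · intro t
        rw [MulAut.mul_apply, MulAut.mul_apply, MulAut.mul_apply, MulAut.mul_apply, hγT']
        congr 2
        apply Subtype.ext
        rw [hβ']
        congr 2
        apply γ.injective
        rw [MulAut.apply_inv_self]
        apply Subtype.ext
        rw [← hγT', MulAut.apply_inv_self]
    refine ⟨_, restrict_mem _ ((mem_autGroup_iff _ le_rfl _).1 hconj) hcov.le, ?_⟩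
    intro x y hx hφ hy
    show (((γ * α * γ⁻¹) ⟨y, _⟩ : S') : Ω) = _
    have e1 : (⟨y, hcov.le y.2⟩ : S') = γ ⟨x, hx⟩ := Subtype.ext hy
    rw [e1, MulAut.mul_apply, MulAut.mul_apply, MulAut.inv_apply_self]
    rfl
  have hinv : AutInv (c.F0 hS'p) (F.autGroup S') := by
    apply autInv_of_le_invCore
    have h1 := le_frattini_of_centric hS'p (c.F0 hS'p) hsat0
      (invCore (c.F0 hS'p) (F.autGroup S')) (fun P hP =>
        (pElt_mono p (autGroup_le_of_subsystem (c.F0_le hS'p) hP.1)).trans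
          (family_le_invCore (c.F0 hS'p) (F.autGroup S') (fun R => pElt p (F'.autGroup R))
            (fun γ hγ R R' e hR h δ hδ => pElt_congr p (MulAut.congr e)
              (fun a ha => congr_mem_of_strongInv hSI hR (mor_of_agree F hS'S hγ e hR h) ha) hδ)
            (fun P hP => c.F0_pElt hS'p hP) hP.1))
    intro P φ hφ
    obtain ⟨α, hα, φ₀, hφ₀, h3⟩ := h1 P hφ
    exact comp_mem' _ hφ₀.1 ((mem_autGroup_iff _ le_rfl α).1 (hb hα))
      ((FusionSystem.le_of_mem _ hφ₀.1).2) (fun x => h3 x _)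
  refine ⟨c.F0 hS'p, weaklyNormal_trans hF' hN.1 hS'sc hinv, c.E_sub_F0 hS'p, ?_, hsat0,
    c.F0_primeIdx hS'p⟩
  intro α hα
  have hα' := (mem_autGroup_iff _ hTS' α).1 hα
  obtain ⟨β, hβ, h2⟩ := c.D_top (overSystem_restrict (c.F0_le_K hS'p _ hα') le_rfl le_rfl)
  have : α = β := by
    ext t
    exact h2 t
  rw [this]
  exact hβ.1

end Cfsg.Agent.Lib.Helper85
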