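import Cfsg.Agent.Lib.Helper85.PIdxFrat
import Cfsg.Agent.Lib.Helper85.FusOver

set_option autoImplicit false

/-! Saturation criterion, the case of a subgroup preserved by all maps, I (helper85). -/

namespace Cfsg.Agent.Lib.Helper85

open Cfsg Cfsg.FusionSystem Cfsg.Agent.Lib.Helper84

variable {Ω : Type*} [Group Ω] {S : Subgroup Ω}

structure NormCtx (p : ℕ) (F : FusionSystem S) (P : Subgroup Ω) : Prop where
  hPS : P ≤ S
  hn : ∀ (R : Subgroup Ω), P ≤ R → ∀ φ : R →* Ω, φ ∈ F.Hom R → (P.subgroupOf R).map φ = P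
  hgood : ∀ R : Subgroup Ω, R ≤ S → P < R →
    ∃ Q, F.IsConj R Q ∧ F.IsFullyAutomized p Q ∧ F.IsReceptive Q

/-- `O_p(Aut_F(P))` inside `Aut(P)` -/
def OP (p : ℕ) (F : FusionSystem S) (P : Subgroup Ω) : Subgroup (MulAut P) :=
  (pCore p (F.autGroup P)).map (F.autGroup P).subtype

theorem OP_conj {p : ℕ} {F : FusionSystem S} {P : Subgroup Ω} {a n : MulAut P}
    (ha : a ∈ F.autGroup P) (hn : n ∈ OP p F P) : a * n * a⁻¹ ∈ OP p F P := by
  obtain ⟨N, hNA, hNp, hNn, hδN⟩ := (mem_pCore_map_iff _ _).1 hn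
  exact (mem_pCore_map_iff _ _).2 ⟨N, hNA, hNp, hNn, hNn a ha n hδN⟩

theorem OP_le {p : ℕ} {F : FusionSystem S} {P : Subgroup Ω} : OP p F P ≤ F.autGroup P :=
  Subgroup.map_subtype_le _

theorem OP_isPGroup {p : ℕ} {F : FusionSystem S} {P : Subgroup Ω} : IsPGroup p (OP p F P) :=
  (Cfsg.Agent.Lib.Helper47.pCore_isPGroup).map _

namespace NormCtx

variable {p : ℕ} {F : FusionSystem S} {P : Subgroup Ω} (c : NormCtx p F P)

include c

theorem map_mem {R : Subgroup Ω} (hPR : P ≤ R) {φ : R →* Ω} (hφ : φ ∈ F.Hom R) (x : R)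
    (hx : (x : Ω) ∈ P) : φ x ∈ P := by
  rw [← c.hn R hPR φ hφ]
  exact ⟨x, hx, rfl⟩

theorem map_mem_iff {R : Subgroup Ω} (hPR : P ≤ R) {φ : R →* Ω} (hφ : φ ∈ F.Hom R) (x : R) :
    φ x ∈ P ↔ (x : Ω) ∈ P := by
  refine ⟨fun h => ?_, c.map_mem hPR hφ x⟩
  rw [← c.hn R hPR φ hφ] at h
  obtain ⟨y, hy, hyx⟩ := h
  rw [← F.injective_of_mem hφ hyx]
  exact hy

/-- the restriction to `P` of a map of `F` -/
noncomputable def resP {R : Subgroup Ω} (hPR : P ≤ R) {φ : R →* Ω} (hφ : φ ∈ F.Hom R) : MulAut P :=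
  restrictEquiv φ (F.injective_of_mem hφ) hPR (c.hn R hPR φ hφ)

theorem resP_apply {R : Subgroup Ω} (hPR : P ≤ R) {φ : R →* Ω} (hφ : φ ∈ F.Hom R) (x : P) :
    ((c.resP hPR hφ x : P) : Ω) = φ ⟨x, hPR x.2⟩ := rfl

theorem resP_mem {R : Subgroup Ω} (hPR : P ≤ R) {φ : R →* Ω} (hφ : φ ∈ F.Hom R) :
    c.resP hPR hφ ∈ F.autGroup P :=
  (mem_autGroup_iff F c.hPS _).2 (mor_restrictEquiv F hφ hPR _)

theorem le_normalizer [Finite S] : S ≤ Subgroup.normalizer (P : Set Ω) := by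
  intro s hs
  have : Finite P := finite_of_le c.hPS
  apply mem_normalizer_of_finite
  intro x hx
  exact c.map_mem c.hPS (F.conj_mem le_rfl hs) ⟨x, c.hPS hx⟩ hx

omit c in
/-- the elements of `S` inducing on `P` an element of `O_p(Aut_F(P))` -/
def U (p : ℕ) (F : FusionSystem S) (P : Subgroup Ω) : Subgroup Ω where
  carrier := {g | g ∈ S ∧ ∃ α ∈ OP p F P, ∀ x : P, ((α x : P) : Ω) = g * x * g⁻¹}
  one_mem' := ⟨S.one_mem, 1, Subgroup.one_mem _, fun x => by simp⟩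
  mul_mem' := by
    rintro a b ⟨ha, α, hα, hα'⟩ ⟨hb, β, hβ, hβ'⟩
    refine ⟨S.mul_mem ha hb, α * β, Subgroup.mul_mem _ hα hβ, fun x => ?_⟩
    rw [MulAut.mul_apply, hα', hβ']
    group
  inv_mem' := by
    rintro a ⟨ha, α, hα, hα'⟩
    refine ⟨S.inv_mem ha, α⁻¹, Subgroup.inv_mem _ hα, fun x => ?_⟩
    have h1 := hα' (α⁻¹ x)
    rw [MulAut.apply_inv_self] at h1
    rw [h1]
    group

omit c in
theorem mem_U {g : Ω} : g ∈ U p F P ↔
    g ∈ S ∧ ∃ α ∈ OP p F P, ∀ x : P, ((α x : P) : Ω) = g * x * g⁻¹ := Iff.rfl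

omit c in
theorem U_le : U p F P ≤ S := fun _ h => h.1

theorem le_U (hS : IsPGroup p S) : P ≤ U p F P := by
  intro g hg
  exact ⟨c.hPS hg, MulAut.conj (⟨g, hg⟩ : P), inn_le_pCore hS F c.hPS ⟨_, rfl⟩, fun x => rfl⟩

theorem lt_U (hS : IsPGroup p S)
    (hU : ¬ (autInducedBy S P ⊓ (pCore p ↥(F.autGroup P)).map (F.autGroup P).subtype ≤ Inn P) ∨
      ¬ centralizerIn S P ≤ P) : P < U p F P := by
  refine lt_of_le_of_ne (c.le_U hS) ?_
  intro heq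
  rcases hU with hU | hU
  · apply hU
    rintro δ ⟨hδS, hδO⟩
    obtain ⟨g, hgS, hg⟩ := (Helper84.mem_autInducedBy_iff _ _ _).1 hδS
    have hgU : g ∈ U p F P := ⟨hgS, δ, hδO, hg⟩
    rw [← heq] at hgU
    refine ⟨⟨g, hgU⟩, ?_⟩
    ext x
    rw [hg x]
    rfl
  · apply hU
    intro z hz
    have hzU : z ∈ U p F P := by
      refine ⟨hz.1, 1, Subgroup.one_mem _, fun x => ?_⟩
      rw [← Subgroup.mem_centralizer_iff.1 hz.2 x x.2]
      simp
    rw [← heq] at hzU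
    exact hzU

/-- maps of `F` preserve `U` -/
theorem map_mem_U {R : Subgroup Ω} (hPR : P ≤ R) {φ : R →* Ω} (hφ : φ ∈ F.Hom R) (g : R)
    (hg : (g : Ω) ∈ U p F P) : φ g ∈ U p F P := by
  obtain ⟨-, α, hα, hα'⟩ := hg
  refine ⟨(F.le_of_mem hφ).2 g, c.resP hPR hφ * α * (c.resP hPR hφ)⁻¹,
    OP_conj (c.resP_mem hPR hφ) hα, fun x => ?_⟩
  rw [MulAut.mul_apply, MulAut.mul_apply, c.resP_apply]
  obtain ⟨y, hy⟩ : ∃ y : P, y = (c.resP hPR hφ)⁻¹ x := ⟨_, rfl⟩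
  have hx : (x : Ω) = φ ⟨y, hPR y.2⟩ := by
    rw [← c.resP_apply hPR hφ, hy, MulAut.apply_inv_self]
  rw [← hy, hx, ← map_inv, ← map_mul, ← map_mul]
  congr 1
  exact Subtype.ext (hα' y)

theorem U_normal [Finite S] : S ≤ Subgroup.normalizer ((U p F P : Subgroup Ω) : Set Ω) := by
  intro s hs
  have : Finite (U p F P) := finite_of_le U_le
  apply mem_normalizer_of_finite
  intro x hx
  exact c.map_mem_U c.hPS (F.conj_mem le_rfl hs) ⟨x, U_le hx⟩ hx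

/-- a map of `F` with source `⊇ U` maps `U` onto `U` -/
theorem map_U_eq [Finite S] (hS : IsPGroup p S) {R : Subgroup Ω} (hUR : U p F P ≤ R) {φ : R →* Ω}
    (hφ : φ ∈ F.Hom R) : (φ.comp (Subgroup.inclusion hUR)).range = U p F P := by
  have : Finite (U p F P) := finite_of_le U_le
  apply Subgroup.eq_of_le_of_card_ge
  · rintro _ ⟨x, rfl⟩
    exact c.map_mem_U ((c.le_U hS).trans hUR) hφ _ x.2
  · exact (Nat.card_congr (MonoidHom.ofInjective
      (F.injective_of_mem (restrict_mem F hφ hUR))).toEquiv).le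

omit c in
/-- the automorphisms of `P` that extend to `Aut_F(U)` -/
def XX (p : ℕ) (F : FusionSystem S) (P : Subgroup Ω) (hPU : P ≤ U p F P) : Subgroup (MulAut P) where
  carrier := {α | ∃ β ∈ F.autGroup (U p F P), ∀ x : P, ((β ⟨x, hPU x.2⟩ : U p F P) : Ω) = (α x : P)}
  one_mem' := ⟨1, Subgroup.one_mem _, fun x => rfl⟩
  mul_mem' := by
    rintro a b ⟨α, hα, hα'⟩ ⟨β, hβ, hβ'⟩
    refine ⟨α * β, Subgroup.mul_mem _ hα hβ, fun x => ?_⟩
    rw [MulAut.mul_apply, MulAut.mul_apply, ← hα']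
    congr 2
    exact Subtype.ext (hβ' x)
  inv_mem' := by
    rintro a ⟨α, hα, hα'⟩
    refine ⟨α⁻¹, Subgroup.inv_mem _ hα, fun x => ?_⟩
    have h1 := hα' (a⁻¹ x)
    rw [MulAut.apply_inv_self] at h1
    have h2 : α ⟨(a⁻¹ x : P), hPU (a⁻¹ x).2⟩ = ⟨x, hPU x.2⟩ := Subtype.ext h1
    rw [← h2, MulAut.inv_apply_self]

/-- a map restricting on `P` to an element of `XX` -/
def GoodMap (_c : NormCtx p F P) (hPU : P ≤ U p F P) {R : Subgroup Ω} (φ : R →* Ω) : Prop :=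
  ∃ α ∈ XX p F P hPU, ∀ (x : P) (hx : (x : Ω) ∈ R), φ ⟨x, hx⟩ = (α x : P)

theorem good_of_U_le [Finite S] (hS : IsPGroup p S) {R : Subgroup Ω} (hUR : U p F P ≤ R)
    {φ : R →* Ω} (hφ : φ ∈ F.Hom R) : c.GoodMap (c.le_U hS) φ := by
  have hPR := (c.le_U hS).trans hUR
  have hφU := restrict_mem F hφ hUR
  refine ⟨c.resP hPR hφ, ⟨equivOfRange _ (F.injective_of_mem hφU) (c.map_U_eq hS hUR hφ), ?_,
    fun x => rfl⟩, fun x hx => rfl⟩
  exact (mem_autGroup_iff F U_le _).2 (mor_equivOfRange F hφU _)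

/-- conjugation by an element of `S` is good -/
theorem conj_mem_XX [Finite S] (hS : IsPGroup p S) {α : MulAut P} {s : Ω} (hs : s ∈ S)
    (h : ∀ x : P, ((α x : P) : Ω) = s * x * s⁻¹) : α ∈ XX p F P (c.le_U hS) :=
  ⟨conjAut _ s (c.U_normal hs),
    autInducedBy_le_autGroup F U_le (conjAut_mem_autInducedBy _ hs), fun x => (h x).symm⟩

end NormCtx

end Cfsg.Agent.Lib.Helper85
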