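import Cfsg.Agent.Lib.Helper85.SatNormal2

set_option autoImplicit false

/-! Saturation criterion, the case of a subgroup preserved by all maps, III (helper85). -/

namespace Cfsg.Agent.Lib.Helper85

open Cfsg Cfsg.FusionSystem Cfsg.Agent.Lib.Helper84

variable {Ω : Type*} [Group Ω] {S : Subgroup Ω}

namespace NormCtx

variable {p : ℕ} [Fact p.Prime] {F : FusionSystem S} {P : Subgroup Ω} [Finite S]
  (hS : IsPGroup p S) (c : NormCtx p F P)

include hS c

theorem good_of_iso {R R₀ : Subgroup Ω} (hPR : P ≤ R) (hRS : R ≤ S) (hUR : ¬ U p F P ≤ R)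
    (ih : ∀ R' : Subgroup Ω, R' ≤ S → Nat.card R < Nat.card R' → P ≤ R' → ∀ φ ∈ F.Hom R',
      c.GoodMap (c.le_U hS) φ)
    (ha : F.IsFullyAutomized p R₀) (hr : F.IsReceptive R₀) (e : R ≃* R₀)
    (he : Mor F e.toMonoidHom) : c.GoodMap (c.le_U hS) (R₀.subtype.comp e.toMonoidHom) := by
  have hR₀S := ha.1
  have hPR₀ : P ≤ R₀ := c.le_of_mor hPR he
  have hfin : Finite (MulAut R₀) := finite_mulAut_of_le hR₀S
  have heF : R₀.subtype.comp e.toMonoidHom ∈ F.Hom R := he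
  obtain ⟨u, huU, huN, huR⟩ := Helper87.exists_mem_normalizing_not_mem hS U_le hRS
    (hRS.trans c.U_normal) hUR
  obtain ⟨huS, αu, hαu, hαu'⟩ := huU
  have hcu : conjAut R u huN ∈ autInducedBy S R := conjAut_mem_autInducedBy huN huS
  obtain ⟨δ, hδdef⟩ : ∃ δ : MulAut R₀, δ = MulAut.congr e (conjAut R u huN) := ⟨_, rfl⟩
  have hδF : δ ∈ F.autGroup R₀ := by
    rw [hδdef]; exact congr_mem_autGroup he (autInducedBy_le_autGroup F hRS hcu)
  have hδe : ∀ x : R, δ (e x) = e (conjAut R u huN x) := by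
    intro x
    rw [hδdef]
    simp [MulAut.congr_apply]
  have hδL : δ ∈ F.autGroup R₀ ⊓ liftSub hPR₀ (OP p F P) := by
    refine ⟨hδF, c.resP hPR heF * αu * (c.resP hPR heF)⁻¹, OP_conj (c.resP_mem hPR heF) hαu,
      fun x => ?_⟩
    obtain ⟨y, hy⟩ : ∃ y : P, y = (c.resP hPR heF)⁻¹ x := ⟨_, rfl⟩
    have hx : e ⟨y, hPR y.2⟩ = ⟨x, hPR₀ x.2⟩ := by
      apply Subtype.ext
      have := c.resP_apply hPR heF y
      rw [hy, MulAut.apply_inv_self] at this
      rw [hy]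
      exact this.symm
    rw [MulAut.mul_apply, MulAut.mul_apply, ← hy, ← hx, hδe, c.resP_apply]
    show ((e _ : R₀) : Ω) = ((e ⟨(αu y : P), _⟩ : R₀) : Ω)
    congr 2
    exact Subtype.ext (hαu' y).symm
  have hδp : IsPGroup p (Subgroup.zpowers δ) := by
    obtain ⟨k, hk⟩ := isPGroup_autInducedBy hS R ⟨_, hcu⟩
    have hk' : (conjAut R u huN) ^ p ^ k = 1 := congrArg Subtype.val hk
    apply isPGroup_zpowers_of_pow (k := k)
    rw [hδdef, ← map_pow, hk', map_one]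
  obtain ⟨l, hl, hlK⟩ := (c.sylIn_L hPR₀ ha).exists_conj_le
    (by rw [Subgroup.zpowers_le]; exact hδL) hδp
  have h1 : l * δ * l⁻¹ ∈ autInducedBy S R₀ := (hlK ⟨_, Subgroup.mem_zpowers _, rfl⟩).1
  obtain ⟨h, hhS, hh⟩ := (Helper84.mem_autInducedBy_iff _ _ _).1 h1
  have hθ : Mor F (e.trans l).toMonoidHom := ((mem_autGroup_iff F hR₀S l).1 hl.1).comp he
  have hθF : R₀.subtype.comp (e.trans l).toMonoidHom ∈ F.Hom R := hθ
  obtain ⟨ψ, hψ, hψ'⟩ := hr.2 R _ hθF (range_subtype_comp_equiv _)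
  have hRle : R ≤ extender S R (R₀.subtype.comp (e.trans l).toMonoidHom) :=
    le_extender hRS _ (F.le_of_mem hθF).2
  have hu : u ∈ extender S R (R₀.subtype.comp (e.trans l).toMonoidHom) := by
    rw [mem_extender_iff]
    refine ⟨huS, huN, h, hhS, fun x hx => ?_⟩
    have h2 := hh (l (e x))
    simp only [MulAut.mul_apply, MulAut.inv_apply_self] at h2
    rw [hδe] at h2
    exact h2
  have hlt : R < extender S R (R₀.subtype.comp (e.trans l).toMonoidHom) :=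
    lt_of_le_of_ne hRle (fun heq => huR (heq ▸ hu))
  have hextS : extender S R (R₀.subtype.comp (e.trans l).toMonoidHom) ≤ S :=
    (extender_le S R _).trans (normalizerIn_le S R)
  have : Finite (extender S R (R₀.subtype.comp (e.trans l).toMonoidHom)) := finite_of_le hextS
  obtain ⟨αψ, hαψ, hαψ'⟩ := ih _ hextS (Helper87.card_lt_of_lt hlt) (hPR.trans hRle) ψ hψ
  obtain ⟨s, hs, hs'⟩ := c.L_res hS hPR₀ ha hl
  have hαl : conjAut P s (c.le_normalizer hs) ∈ XX p F P (c.le_U hS) :=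
    c.conj_mem_XX hS hs (fun x => rfl)
  refine ⟨(conjAut P s (c.le_normalizer hs))⁻¹ * αψ,
    Subgroup.mul_mem _ (Subgroup.inv_mem _ hαl) hαψ, fun x hx => ?_⟩
  have hy : ((e ⟨x, hx⟩ : R₀) : Ω) ∈ P := c.map_mem hPR heF ⟨x, hx⟩ x.2
  have h3 : ψ ⟨x, hRle hx⟩ = ((l (e ⟨x, hx⟩) : R₀) : Ω) := hψ' x hx (hRle hx)
  have h4 := hs' ⟨_, hy⟩
  have h5 : conjAut P s (c.le_normalizer hs) ⟨_, hy⟩ = αψ x := by
    apply Subtype.ext
    rw [← hαψ' x (hRle hx), h3]
    exact h4.symm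
  rw [MulAut.mul_apply, ← h5, MulAut.inv_apply_self]
  rfl

theorem good_all : ∀ (n : ℕ) (R : Subgroup Ω), P < R → R ≤ S → Nat.card S ≤ Nat.card R + n →
    ∀ φ ∈ F.Hom R, c.GoodMap (c.le_U hS) φ := by
  intro n
  induction n with
  | zero =>
    intro R _ hRS hcard φ hφ
    have hR : R = S := Subgroup.eq_of_le_of_card_ge hRS (by simpa using hcard)
    have hUR : U p F P ≤ R := by
      rw [hR]; exact U_le
    exact c.good_of_U_le hS hUR hφ
  | succ n ih =>
    intro R hPR hRS hcard φ hφ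
    by_cases hUR : U p F P ≤ R
    · exact c.good_of_U_le hS hUR hφ
    have hfinR : Finite R := finite_of_le hRS
    have hih : ∀ R' : Subgroup Ω, R' ≤ S → Nat.card R < Nat.card R' → P ≤ R' → ∀ φ ∈ F.Hom R',
        c.GoodMap (c.le_U hS) φ := by
      intro R' hR'S hc hPR' φ' hφ'
      refine ih R' (lt_of_le_of_ne hPR' ?_) hR'S (by omega) φ' hφ'
      intro heq
      have := Subgroup.card_le_of_le hPR.le
      rw [heq] at this
      omega
    obtain ⟨R₀, hRR₀, ha, hr⟩ := c.hgood R hRS hPR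
    obtain ⟨e₁, he₁⟩ := (isConj_iff F).1 hRR₀
    have heφ := mor_equivOfRange F hφ rfl
    obtain ⟨eφ, heφdef⟩ : ∃ eφ : R ≃* φ.range, eφ = equivOfRange φ (F.injective_of_mem hφ) rfl :=
      ⟨_, rfl⟩
    rw [← heφdef] at heφ
    have heφ_apply : ∀ x : R, ((eφ x : φ.range) : Ω) = φ x := fun x => by rw [heφdef]; rfl
    have hR'S : φ.range ≤ S := heφ.symm.le_left
    have hPR' : P ≤ φ.range := c.le_of_mor hPR.le heφ
    have hcard' : Nat.card φ.range = Nat.card R := (Nat.card_congr eφ.toEquiv).symm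
    have hUR' : ¬ U p F P ≤ φ.range := by
      intro hle
      apply hUR
      have hfinU : Finite (U p F P) := finite_of_le U_le
      have hmem : ∀ u : U p F P, ((eφ.symm ⟨u, hle u.2⟩ : R) : Ω) ∈ U p F P ⊓ R :=
        fun u => ⟨c.map_mem_U hPR' heφ.symm ⟨u, hle u.2⟩ u.2, (eφ.symm _).2⟩
      have hc2 : Nat.card (U p F P) ≤ Nat.card (U p F P ⊓ R : Subgroup Ω) := by
        have : Finite (U p F P ⊓ R : Subgroup Ω) := finite_of_le (inf_le_left.trans U_le)
        apply Nat.card_le_card_of_injective (fun u => (⟨_, hmem u⟩ : (U p F P ⊓ R : Subgroup Ω)))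
        intro a b hab
        have h1 : ((eφ.symm ⟨a, hle a.2⟩ : R) : Ω) = ((eφ.symm ⟨b, hle b.2⟩ : R) : Ω) :=
          congrArg (Subtype.val : (U p F P ⊓ R : Subgroup Ω) → Ω) hab
        have h2 := eφ.symm.injective (Subtype.ext h1)
        exact Subtype.ext (congrArg (Subtype.val : φ.range → Ω) h2)
      have heq : U p F P ⊓ R = U p F P := Subgroup.eq_of_le_of_card_ge inf_le_left hc2
      rw [← heq]
      exact inf_le_right
    obtain ⟨α₁, hα₁, hα₁'⟩ := c.good_of_iso hS hPR.le hRS hUR hih ha hr e₁ he₁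
    obtain ⟨α₂, hα₂, hα₂'⟩ := c.good_of_iso hS hPR' hR'S hUR' (by rw [hcard']; exact hih) ha hr
      (eφ.symm.trans e₁) (he₁.comp heφ.symm)
    refine ⟨α₂⁻¹ * α₁, Subgroup.mul_mem _ (Subgroup.inv_mem _ hα₂) hα₁, fun x hx => ?_⟩
    have hy : φ ⟨x, hx⟩ ∈ P := c.map_mem hPR.le hφ ⟨x, hx⟩ x.2
    have h1 := hα₂' ⟨_, hy⟩ (hPR' hy)
    have h2 := hα₁' x hx
    have h3 : α₂ ⟨_, hy⟩ = α₁ x := by
      apply Subtype.ext
      rw [← h1, ← h2]
      show ((e₁ (eφ.symm ⟨φ ⟨x, hx⟩, _⟩) : R₀) : Ω) = ((e₁ ⟨x, hx⟩ : R₀) : Ω)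
      congr 2
      apply eφ.injective
      rw [MulEquiv.apply_symm_apply]
      exact Subtype.ext (heφ_apply _).symm
    rw [MulAut.mul_apply, ← h3, MulAut.inv_apply_self]

end NormCtx

end Cfsg.Agent.Lib.Helper85
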